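import Cfsg.Agent.H5.Orders
/-! Permutational wreath products and the Sylow subgroups of symmetric, linear and symplectic groups. -/
namespace H5.PW
open Subgroup SemidirectProduct Function Module

/-- Permutational wreath product. -/
abbrev Wr (A T α : Type*) [Group A] [Group T] [MulAction T α] := (α → A) ⋊[(mulAutArrow : T →* MulAut (α → A))] T

/-- The abelianisation has exponent dividing `p`. -/
def EA (p : ℕ) (G : Type*) [Group G] : Prop := ∀ x : G, x ^ p ∈ commutator G

variable {G H A T α : Type*} [Group G] [Group H] [Group A] [Group T] [MulAction T α] {p : ℕ}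

theorem ea_iff {x : G} : x ^ p ∈ commutator G ↔ Abelianization.of x ^ p = 1 := by rw [← Abelianization.ker_of, MonoidHom.mem_ker, map_pow]

theorem ea_mul {x y : G} (h : x ^ p ∈ commutator G) (k : y ^ p ∈ commutator G) : (x * y) ^ p ∈ commutator G := by
  rw [ea_iff] at *; rw [map_mul, mul_pow, h, k, mul_one]

theorem EA.map (h : EA p H) (f : H →* G) (a : H) : f a ^ p ∈ commutator G :=
  map_pow f a p ▸ ((map_commutator ..).le.trans (commutator_mono le_top le_top) : (commutator H).map f ≤ _) ⟨_, h a, rfl⟩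

theorem EA.congr (h : EA p H) (e : G ≃* H) : EA p G := fun x => e.symm_apply_apply x ▸ h.map e.symm.toMonoidHom _

theorem EA.pi [Finite α] (h : EA p A) : EA p (α → A) := fun x => by
  rw [commutator_def, ← pi_top Set.univ, commutator_pi_pi_of_finite]; exact fun i _ => h (x i)

theorem EA.ker {N C : Type*} [Group N] [Group C] {φ : T →* MulAut N} (ξ : N ⋊[φ] T →* C) (h : ∀ t, ξ (inr t) = 1) (hT : EA p T)
    (k : ∀ n (hn : inl n ∈ ξ.ker), (⟨_, hn⟩ : ξ.ker) ^ p ∈ commutator ξ.ker) : EA p ξ.ker := fun ⟨x, hx⟩ => by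
  have := ea_mul (k x.left (by simpa [h, -inl_left_mul_inr_right] using (congrArg ξ (inl_left_mul_inr_right x)).trans hx)) (hT.map (inr.codRestrict ξ.ker h) x.right)
  exact (congrArg (· ^ p ∈ _) (Subtype.ext (inl_left_mul_inr_right x))).mp this

theorem EA.wr [Finite α] (h : EA p A) (hT : EA p T) : EA p (Wr A T α) := fun x =>
  inl_left_mul_inr_right x ▸ ea_mul (h.pi.map inl _) (hT.map inr _)

theorem card_wr [Finite α] : Nat.card (Wr A T α) = Nat.card A ^ Nat.card α * Nat.card T := by rw [SemidirectProduct.card, Nat.card_fun]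

theorem left_mul (a b : Wr A T α) (i : α) : (a * b).left i = a.left i * b.left (a.right⁻¹ • i) := rfl

theorem exists_normal [Finite α] {z : A} (h : orderOf z = p) (hz : ∀ x, x * z = z * x) (e : G ≃* Wr A T α) :
    ∃ E : Subgroup G, E.Normal ∧ (IsMulCommutative E ∧ ∀ a ∈ E, a ^ p = 1) ∧ Nat.card E = p ^ Nat.card α := by
  let ι : (α → zpowers z) →* Wr A T α := inl.comp (MonoidHom.compLeft (zpowers z).subtype α)
  have hι : Injective ι := inl_injective.comp (Subtype.val_injective.comp_left)
  have : ι.range.Normal := ⟨by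
    rintro _ ⟨f, rfl⟩ g
    refine ⟨fun i => f (g.right⁻¹ • i), SemidirectProduct.ext (funext fun i => ?_) (by simp [ι])⟩
    obtain ⟨k, e⟩ := (f (g.right⁻¹ • i)).2
    have := (Commute.zpow_right (hz (g.left i)) k).eq
    simp only [e] at this
    change (f (g.right⁻¹ • i)).1 = g.left i * (f (g.right⁻¹ • i)).1 * (g.left (g.right⁻¹⁻¹ • (g.right * 1)⁻¹ • i))⁻¹
    simp [this]⟩
  refine ⟨ι.range.comap e.toMonoidHom, inferInstance, ⟨⟨⟨fun a b => Subtype.ext (e.injective ?_)⟩⟩, fun a ⟨f, hf⟩ => e.injective ?_⟩, ?_⟩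
  · obtain ⟨f, hf⟩ := a.2
    obtain ⟨g, hg⟩ := b.2
    simp only [MulEquiv.coe_toMonoidHom] at hf hg
    simp only [coe_mul, map_mul, ← hf, ← hg]
    rw [← map_mul, ← map_mul]; exact congrArg ι (funext fun i => mul_comm' _ _)
  · rw [map_pow, map_one, ← show _ = e a from hf, ← map_pow, ← h, ← Nat.card_zpowers, show f ^ _ = 1 from funext fun _ => pow_card_eq_one', map_one]
  · rw [comap_equiv_eq_map_symm', card_map_of_injective e.symm.injective, ← Nat.card_congr (MonoidHom.ofInjective hι).toEquiv, Nat.card_fun,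
      Nat.card_zpowers, h]

section syl
variable [hp : Fact p.Prime] [Finite G]

theorem exists_conj (φ : H →* G) (hφ : Injective φ) (c : Nat.card H = p ^ padicValNat p (Nat.card G)) (P : Sylow p G) :
    ∃ g : G, ((MulAut.conj g).toMonoidHom.comp φ).range = P := by
  obtain ⟨g, e⟩ := MulAction.exists_smul_eq G (Sylow.ofCard φ.range (by
    rw [← Nat.card_congr (MonoidHom.ofInjective hφ).toEquiv, c, Nat.factorization_def _ hp.out])) P
  exact ⟨g, by rw [← e, MonoidHom.range_comp]; rfl⟩

theorem sylow_equiv (φ : H →* G) (hφ : Injective φ) (c : Nat.card H = p ^ padicValNat p (Nat.card G)) (P : Sylow p G) : Nonempty (P ≃* H) :=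
  let ⟨g, e⟩ := exists_conj φ hφ c P
  ⟨(MulEquiv.subgroupCongr e.symm).trans (MonoidHom.ofInjective ((MulAut.conj g).injective.comp hφ)).symm⟩

theorem sylow_ker {K C : Type*} [Group K] [CommGroup C] (χ : G →* C) (j : K →* G) (hj : Injective j) (hr : j.range = χ.ker) (φ : H →* G)
    (hφ : Injective φ) (c : Nat.card H = p ^ padicValNat p (Nat.card G)) (Q : Sylow p K) : Nonempty (Q ≃* (χ.comp φ).ker) := by
  obtain ⟨P, e⟩ := Q.exists_comap_eq_of_injective hj
  obtain ⟨g, k⟩ := exists_conj φ hφ c P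
  refine ⟨((Q.1.equivMapOfInjective j hj).trans (MulEquiv.subgroupCongr ?_)).trans
    (equivMapOfInjective _ ((MulAut.conj g).toMonoidHom.comp φ) ((MulAut.conj g).injective.comp hφ)).symm⟩
  rw [← e, map_comap_eq, hr, ← k, show (χ.comp φ).ker = χ.ker.comap ((MulAut.conj g).toMonoidHom.comp φ) by ext; simp, map_comap_eq, inf_comm]

omit [Finite G] in
theorem card_sylow [Finite G] (P : Sylow p G) : Nat.card P = p ^ padicValNat p (Nat.card G) := by
  rw [P.card_eq_multiplicity, Nat.factorization_def _ hp.out]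

end syl

/-- The imprimitive action of a wreath product. -/
def perm {X : Type*} [MulAction A X] : Wr A T α →* Equiv.Perm (α × X) :=
  let _ : MulAction (Wr A T α) (α × X) :=
    { smul := fun w x => (w.right • x.1, w.left (w.right • x.1) • x.2)
      one_smul := fun x => by change (_, _) = _; simp
      mul_smul := fun a b x => by change (_, _) = (_, _); simp only [left_mul, mul_right, mul_smul, inv_smul_smul]; rfl }
  MulAction.toPermHom _ _

theorem perm_apply {X : Type*} [MulAction A X] (w : Wr A T α) (x : α × X) : perm w x = (w.right • x.1, w.left (w.right • x.1) • x.2) := rfl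

theorem perm_inj {X : Type*} [MulAction A X] [Nonempty X] [FaithfulSMul A X] [FaithfulSMul T α] :
    Injective (perm : Wr A T α →* Equiv.Perm (α × X)) := (injective_iff_map_eq_one _).2 fun w h => by
  obtain ⟨x⟩ := ‹Nonempty X›
  have k : w.right = 1 := eq_of_smul_eq_smul fun i : α => (congrArg (fun σ => (σ (i, x)).1) h).trans (one_smul _ _).symm
  exact SemidirectProduct.ext (funext fun i => eq_of_smul_eq_smul fun y : X => by
    simpa [perm_apply, k] using congrArg (fun σ => (σ (i, y)).2) h) k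

theorem exists_sym [hp : Fact p.Prime] (X : Type*) [Fintype X] [DecidableEq X] (T : Sylow p (Equiv.Perm (Fin (Fintype.card X / p)))) :
    ∃ φ : Wr (Multiplicative (ZMod p)) T (Fin (Fintype.card X / p)) →* Equiv.Perm X, Injective φ ∧ (∀ t, Equiv.Perm.sign (φ (inr t)) = 1) ∧
      Nat.card (Wr (Multiplicative (ZMod p)) T (Fin (Fintype.card X / p))) = p ^ padicValNat p (Nat.card (Equiv.Perm X)) := by
  obtain ⟨ι⟩ := Embedding.nonempty_of_card_le (α := Fin (Fintype.card X / p) × Multiplicative (ZMod p)) (β := X) (by simp [Nat.div_mul_le_self])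
  refine ⟨(Equiv.Perm.viaEmbeddingHom ι).comp perm, (Equiv.Perm.viaEmbeddingHom_injective ι).comp perm_inj, fun t => ?_, ?_⟩
  · have : perm (inr t : Wr (Multiplicative (ZMod p)) T _) = Equiv.prodCongrLeft fun _ : Multiplicative (ZMod p) => t.1 := by
      ext x <;> simp [perm_apply, Equiv.prodCongrLeft, Subgroup.smul_def]
    obtain ⟨k, hk⟩ := T.2 t
    have e : Equiv.Perm.sign t.1 ^ p ^ k = 1 := by rw [← map_pow, ← coe_pow, hk]; simp
    simp only [MonoidHom.comp_apply, Equiv.Perm.viaEmbeddingHom_apply, Equiv.Perm.viaEmbedding, Equiv.Perm.sign_extendDomain, this,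
      Equiv.Perm.sign_prodCongrLeft, Finset.prod_const, Finset.card_univ, Fintype.card_multiplicative, ZMod.card]
    rcases Int.units_eq_one_or (Equiv.Perm.sign t.1) with h | h <;> rw [h] at e ⊢
    · simp
    · exact ((Nat.even_pow.1 ((neg_one_pow_eq_one_iff_even (by decide)).1 e)).1).neg_one_pow
  · rw [card_wr, card_sylow, Nat.card_perm, Nat.card_perm, Nat.card_eq_fintype_card (α := X), ← padicValNat_mul_div_factorial (Fintype.card X),
      padicValNat_factorial_mul]
    simp [mul_comm, pow_add]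

theorem ea_zmod : EA p (Multiplicative (ZMod p)) := fun x => by
  rw [show x ^ p = 1 from Multiplicative.toAdd.injective (by simp)]; exact one_mem _

theorem ea_sym [hp : Fact p.Prime] (X : Type*) [Fintype X] [DecidableEq X] (P : Sylow p (Equiv.Perm X)) : EA p P := by
  have key : ∀ n (P : Sylow p (Equiv.Perm (Fin n))), EA p P := fun n => by
    induction n using Nat.strong_induction_on with
    | _ n ih =>
      intro P
      rcases n.eq_zero_or_pos with rfl | h
      · exact fun x => Subsingleton.elim (1 : P) (x ^ p) ▸ one_mem _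
      obtain ⟨φ, h1, -, h2⟩ := exists_sym (p := p) (Fin n) default
      exact (ea_zmod.wr (ih _ (by simpa using Nat.div_lt_self h hp.out.one_lt) _)).congr (sylow_equiv φ h1 h2 P).some
  obtain ⟨φ, h1, -, h2⟩ := exists_sym (p := p) X default
  exact (ea_zmod.wr (key _ _)).congr (sylow_equiv φ h1 h2 P).some

section lin
variable {F ι : Type*} [Field F] [Fintype ι] [DecidableEq ι] [Fintype α] [DecidableEq α]

/-- Block monomial matrices. -/
def mat (ρ : A →* GL ι F) : Wr A T α →* GL (ι × α) F := MonoidHom.toHomUnits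
  { toFun := fun w => Matrix.of fun x y => if y.2 = w.right⁻¹ • x.2 then (ρ (w.left x.2)).1 x.1 y.1 else 0
    map_one' := by ext ⟨i, a⟩ ⟨j, b⟩; by_cases h : a = b <;> simp [Matrix.one_apply, h, eq_comm]
    map_mul' := fun a b => by
      ext ⟨i, x⟩ ⟨j, y⟩
      simp only [Matrix.mul_apply, Fintype.sum_prod_type, Matrix.of_apply, left_mul, mul_right, mul_inv_rev, mul_smul, map_mul, Units.val_mul, ite_mul, zero_mul,
        Finset.sum_ite_eq', Finset.mem_univ, if_true]
      split_ifs <;> simp }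

theorem mat_apply (ρ : A →* GL ι F) (w : Wr A T α) (x y : ι × α) :
    (mat ρ w).1 x y = if y.2 = w.right⁻¹ • x.2 then (ρ (w.left x.2)).1 x.1 y.1 else 0 := rfl

theorem mat_inj [Nonempty ι] [FaithfulSMul T α] {ρ : A →* GL ι F} (hρ : Injective ρ) : Injective (mat ρ : Wr A T α →* _) :=
  (injective_iff_map_eq_one _).2 fun w h => by
    obtain ⟨i⟩ := ‹Nonempty ι›
    have k : w.right⁻¹ = 1 := eq_of_smul_eq_smul fun a : α => by_contra fun c => by
      simpa [mat_apply, show ¬ a = w.right⁻¹ • a by simpa [eq_comm] using c] using congrArg (·.1 (i, a) (i, a)) h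
    refine SemidirectProduct.ext (funext fun a => hρ (Units.ext (Matrix.ext fun i j => ?_))) (inv_eq_one.1 k)
    simpa [mat_apply, k, Matrix.one_apply] using congrArg (·.1 (i, a) (j, a)) h

theorem det_inl (ρ : A →* GL ι F) (f : α → A) :
    Matrix.GeneralLinearGroup.det (mat ρ (inl f : Wr A T α)) = ∏ a, Matrix.GeneralLinearGroup.det (ρ (f a)) := Units.ext (by
  rw [Units.coe_prod]
  refine Eq.trans (congrArg Matrix.det ?_) (Matrix.det_blockDiagonal fun a => (ρ (f a)).1)
  ext x y; simp [mat_apply, Matrix.blockDiagonal_apply, eq_comm])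

theorem det_inr (ρ : A →* GL ι F) (h : Even (Fintype.card ι)) (t : T) : Matrix.GeneralLinearGroup.det (mat ρ (inr t : Wr A T α)) = 1 := Units.ext (by
  refine (Eq.trans (congrArg Matrix.det ?_) (Matrix.det_permutation (Equiv.prodCongrRight fun _ : ι => MulAction.toPerm t⁻¹))).trans ?_
  · ext ⟨i, a⟩ ⟨j, b⟩
    by_cases c : b = t⁻¹ • a <;> simp [mat_apply, c, Matrix.one_apply, Equiv.toPEquiv_apply, eq_comm]
  · rw [Equiv.Perm.sign_prodCongrRight, Finset.prod_const, Finset.card_univ, Int.units_pow_eq_pow_mod_two, Nat.even_iff.1 h]; simp)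

theorem exists_sp [FaithfulSMul T α] {a n : ℕ} (ha : a ≠ 0) (hn : n = a * Fintype.card α) (ρ : A →* Matrix.symplecticGroup (Fin a) F) (hρ : Injective ρ) :
    ∃ φ : Wr A T α →* Matrix.symplecticGroup (Fin n) F, Injective φ := by
  have := NeZero.mk ha
  let Φ := sympF F a
  let Ψ : Form (.symp F) (α → Fin a ⊕ Fin a → F) := .ofAlt (.mk₂ F (fun x y => ∑ i, Φ.B (x i) (y i))
    (by simp [Finset.sum_add_distrib]) (by simp [Finset.mul_sum]) (by simp [Finset.sum_add_distrib]) (by simp [Finset.mul_sum]))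
    fun x => by simp [Form.symp_self]
  have hB : ∀ x y, Ψ.B x y = ∑ i, Φ.B (x i) (y i) := fun x y => rfl
  have hΨ : Ψ.Nondeg := fun y hy => funext fun i => sympF_nondeg a _ fun x => by
    have := hy (Pi.single i x)
    rwa [hB, Finset.sum_eq_single i (fun j _ c => by simp [c]) (by simp), Pi.single_eq_same] at this
  obtain ⟨e, he⟩ := Form.symp_iso hΨ (sympF_nondeg n) (by simp [finrank_pi_fintype, hn]; ring)
  let ψ : Wr A T α →* Ψ.isom :=
    { toFun := fun w => ⟨(LinearEquiv.funCongrLeft F _ (MulAction.toPerm w.right⁻¹)).trans (.piCongrRight fun i => (spEquiv a (ρ (w.left i))).1),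
        (Form.mem_isom_symp _).2 fun x y => (Finset.sum_congr rfl fun i _ => Form.isom_B (spEquiv a _).2 _ _).trans
          (Equiv.sum_comp (MulAction.toPerm w.right⁻¹) fun i => Φ.B (x i) (y i))⟩
      map_one' := by ext; simp
      map_mul' := fun a b => by ext; simp [left_mul, mul_smul, -mul_left] }
  refine ⟨(he.isomCongr.trans (spEquiv _).symm).toMonoidHom.comp ψ, (he.isomCongr.trans (spEquiv _).symm).injective.comp ((injective_iff_map_eq_one ψ).2 fun w h => ?_)⟩
  have k : ∀ (v : α → Fin a ⊕ Fin a → F) i, (spEquiv a (ρ (w.left i))).1 (v (w.right⁻¹ • i)) = v i := fun v i => congrArg (·.1 v i) h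
  obtain ⟨x, hx⟩ := exists_ne (0 : Fin a ⊕ Fin a → F)
  refine SemidirectProduct.ext (funext fun i => hρ ((spEquiv a).injective (Subtype.ext (LinearEquiv.ext fun x => by simpa using k (fun _ => x) i))))
    (inv_eq_one.1 (eq_of_smul_eq_smul fun i : α => by_contra fun c => hx ?_))
  simpa [show w.right⁻¹ • i ≠ i by simpa using c] using (k (Pi.single i x) i).symm

end lin

section val
variable {q : ℕ} (h1 : 1 < q) (hq : Odd q)
include h1 hq

theorem v_odd {i : ℕ} (hi : Odd i) : padicValNat 2 (q ^ i - 1) = padicValNat 2 (q - 1) := by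
  have : Odd (∑ j ∈ Finset.range i, q ^ j) := by
    rw [Finset.odd_sum_iff_odd_card_odd, Finset.filter_true_of_mem fun _ _ => hq.pow]; simpa
  rw [← geom_sum_mul_of_one_le h1.le, mul_comm, mul_comm (q - 1), padicValNat.mul this.pos.ne' (by omega), padicValNat.eq_zero_of_not_dvd this.not_two_dvd_nat, zero_add]

theorem v_even {i : ℕ} (hi : i ≠ 0) : padicValNat 2 (q ^ (2 * i) - 1) = padicValNat 2 (q ^ 2 - 1) + padicValNat 2 i := by
  have a := padicValNat.pow_two_sub_one h1 hq.not_two_dvd_nat (n := 2 * i) (by omega) (by simp)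
  have b := padicValNat.pow_two_sub_one h1 hq.not_two_dvd_nat (n := 2) (by omega) (by simp)
  rw [padicValNat.mul two_ne_zero hi] at a; omega

theorem v_sp (n : ℕ) : padicValNat 2 (spOrd q n) = n * padicValNat 2 (q ^ 2 - 1) + padicValNat 2 n.factorial := by
  have p : ∀ i, q ^ (2 * (i + 1)) - 1 ≠ 0 := fun i => Nat.sub_ne_zero_of_lt (Nat.one_lt_pow (by omega) h1)
  rw [spOrd, padicValNat.mul (by positivity) (Finset.prod_ne_zero_iff.2 fun i _ => p i), padicValNat.eq_zero_of_not_dvd hq.pow.not_two_dvd_nat, zero_add]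
  induction n with
  | zero => simp
  | succ n ih =>
    rw [Finset.prod_range_succ, padicValNat.mul (Finset.prod_ne_zero_iff.2 fun i _ => p i) (p n), ih, v_even h1 hq n.succ_ne_zero, Nat.factorial_succ,
      padicValNat.mul n.succ_ne_zero n.factorial_ne_zero]; ring

end val

theorem v_gl_succ {F : Type*} [Field F] [Fintype F] (hq : Odd (Fintype.card F)) (n : ℕ) :
    padicValNat 2 (Nat.card (GL (Fin (n + 1)) F)) = padicValNat 2 (Nat.card (GL (Fin n) F)) + padicValNat 2 (Fintype.card F ^ (n + 1) - 1) := by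
  have k : ∏ i : Fin n, (Fintype.card F ^ n - Fintype.card F ^ i.1) ≠ 0 := Finset.prod_ne_zero_iff.2 fun i _ =>
    Nat.sub_ne_zero_of_lt (Nat.pow_lt_pow_right Fintype.one_lt_card i.2)
  have := Nat.one_lt_pow n.succ_ne_zero (Fintype.one_lt_card (α := F))
  rw [card_GL, card_GL, Fintype.card_fin, Fintype.card_fin, Fin.prod_univ_succ]
  simp only [Fin.val_succ, Fin.val_zero, pow_zero, pow_succ', ← Nat.mul_sub, Finset.prod_mul_distrib, Finset.prod_const] at this ⊢
  have f0 := Fintype.card_ne_zero (α := F)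
  rw [padicValNat.mul (Nat.sub_ne_zero_of_lt this) (mul_ne_zero (pow_ne_zero _ f0) k), padicValNat.mul (pow_ne_zero _ f0) k,
    padicValNat.eq_zero_of_not_dvd hq.pow.not_two_dvd_nat]
  simp [add_comm]

theorem v_gl_two {F : Type*} [Field F] [Fintype F] (hq : Odd (Fintype.card F)) (m : ℕ) :
    padicValNat 2 (Nat.card (GL (Fin (2 * m)) F)) = padicValNat 2 (Nat.card (GL (Fin 2) F)) * m + padicValNat 2 m.factorial := by
  have h1 := Fintype.one_lt_card (α := F)
  induction m with
  | zero => simp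
  | succ m ih =>
    rw [show 2 * (m + 1) = 2 * m + 1 + 1 from rfl, v_gl_succ hq, v_gl_succ hq, ih, v_odd h1 hq (by simp), show 2 * m + 1 + 1 = 2 * (m + 1) from rfl,
      v_even h1 hq m.succ_ne_zero, Nat.factorial_succ, padicValNat.mul m.succ_ne_zero m.factorial_ne_zero, v_gl_succ hq 1, v_gl_succ hq 0]
    simp; ring

theorem exists_gl {F : Type*} [Field F] [Fintype F] (hq : Odd (Fintype.card F)) [Fintype α] [DecidableEq α] (D : Sylow 2 (GL (Fin 2) F))
    (T : Sylow 2 (Equiv.Perm α)) {m : ℕ} (hm : Fintype.card α = m) : ∃ φ : Wr D T α →* GL (Fin (2 * m)) F, Injective φ ∧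
      Nat.card (Wr D T α) = 2 ^ padicValNat 2 (Nat.card (GL (Fin (2 * m)) F)) ∧ (∀ t, Matrix.GeneralLinearGroup.det (φ (inr t)) = 1) ∧
      ∀ f, Matrix.GeneralLinearGroup.det (φ (inl f)) = ∏ a, Matrix.GeneralLinearGroup.det (f a).1 := by
  let e : Fin 2 × α ≃ Fin (2 * m) := Fintype.equivFinOfCardEq (by simp [hm])
  have d : ∀ g : GL (Fin 2 × α) F, Matrix.GeneralLinearGroup.det (glCongr e g) = Matrix.GeneralLinearGroup.det g := fun g =>
    Units.ext (Matrix.det_reindex_self e g.1)
  refine ⟨(glCongr e).toMonoidHom.comp (mat D.1.subtype), (glCongr e).injective.comp (mat_inj D.1.subtype_injective), ?_,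
    fun t => (d _).trans (det_inr _ (by simp) t), fun f => (d _).trans (det_inl _ f)⟩
  rw [card_wr, card_sylow, card_sylow, Nat.card_perm, Nat.card_eq_fintype_card (α := α), hm, v_gl_two hq, pow_add, pow_mul]

end H5.PW
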