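import Cfsg.Agent.H5.Om3

/-!
Restriction of scalars for forms (`trB`): trace forms of symplectic and unitary spaces over a quadratic extension.
-/

set_option autoImplicit false

namespace H5
namespace Form

open Module

universe u
variable {F K : Type*} [Field F] [Field K] [Algebra F K] {V : Type u} [AddCommGroup V] [Module K V] [Module F V] [IsScalarTower F K V]
  {κ : Kind K} {κ' : Kind F}

/-- The bilinear form `l (Φ.B x y)` over the smaller field. -/
def trB (Φ : Form κ V) (l : K →ₗ[F] F) (hσ : ∀ a : F, κ.σ (algebraMap F K a) = algebraMap F K a) : V →ₗ[F] V →ₗ[F] F :=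
  LinearMap.mk₂ F (fun x y => l (Φ.B x y)) (by simp) (fun c x y => by rw [← algebraMap_smul K, B_smul_left, ← Algebra.smul_def, map_smul])
    (by simp) fun c x y => by rw [← algebraMap_smul K, B_smul_right, hσ, ← Algebra.smul_def, map_smul]

theorem Nondeg.tr {Φ : Form κ V} (h : Φ.Nondeg) {Ψ : Form κ' V} {l : K → F} (hl : ∃ a, l a ≠ 0) (e : ∀ x y, Ψ.B x y = l (Φ.B x y)) :
    Ψ.Nondeg := fun y hy => by
  by_contra y0
  obtain ⟨x, hx⟩ := h.exists_ne y0
  obtain ⟨a, ha⟩ := hl
  exact ha (by simpa [e, hx] using hy ((a / Φ.B x y) • x))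

variable (F) in
/-- Restriction of scalars for automorphisms. -/
def resSc : (V ≃ₗ[K] V) →* (V ≃ₗ[F] V) := ⟨⟨fun g => g.restrictScalars F, rfl⟩, fun _ _ => rfl⟩

@[simp] theorem resSc_apply (g : V ≃ₗ[K] V) (x : V) : resSc F g x = g x := rfl

theorem exists_res_hom {Φ : Form κ V} {Ψ : Form κ' V} (h : ∀ g ∈ Φ.isom, resSc F g ∈ Ψ.isom) :
    ∃ φ : Φ.isom →* Ψ.isom, Function.Injective φ :=
  ⟨((resSc F).comp Φ.isom.subtype).codRestrict _ fun g => h g.1 g.2, fun _ _ e =>
    Subtype.ext (LinearEquiv.ext fun x => congrArg (fun g => g.1 x) e)⟩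

theorem emb_trans {G H G' H' : Type*} [Group G] [Group H] [Group G'] [Group H'] (h : ∃ φ : G →* H, Function.Injective φ)
    (e : G' ≃* G) (e' : H ≃* H') : ∃ φ : G' →* H', Function.Injective φ :=
  let ⟨φ, h⟩ := h; ⟨e'.toMonoidHom.comp (φ.comp e.toMonoidHom), e'.injective.comp (h.comp e.injective)⟩

variable [Fintype F] [Fintype K] {q : ℕ} (hF : Fintype.card F = q) {hK : Fintype.card K = q ^ 2}
include hF

theorem finrank_res (hK : Fintype.card K = q ^ 2) : finrank F V = 2 * finrank K V := by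
  rw [← finrank_quad hF hK, finrank_mul_finrank]

/-- The trace `K → F`. -/
noncomputable def trL (hK : Fintype.card K = q ^ 2) (θ : K) : K →ₗ[F] F where
  toFun x := retr F K (θ * x + conj hK (θ * x))
  map_add' x y := by rw [← map_add, mul_add, map_add (conj hK), add_add_add_comm]
  map_smul' c x := by rw [mul_smul_comm, conj_smul hF, ← smul_add, map_smul]; rfl

theorem trL_eq (θ x : K) : algebraMap F K (trL hF hK θ x) = θ * x + conj hK (θ * x) :=
  algebraMap_retr hF hK (by rw [map_add, conj_conj, add_comm])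

theorem trL_ne {θ : K} (h : θ ≠ 0) : ∃ a, trL hF hK θ a ≠ 0 := by
  obtain ⟨c, hc⟩ := Kind.exists_trace_one (conj_conj hK) (conj_ne_id hK)
  exact ⟨c / θ, fun e => by simpa [e, mul_div_cancel₀ _ h, hc] using trL_eq hF (hK := hK) θ (c / θ)⟩

/-- The alternating trace form of a unitary space. -/
noncomputable def trS (Φ : Form (unitK hK) V) {θ : K} (h : conj hK θ = -θ) : Form (Kind.symp F) V :=
  ofAlt (Φ.trB (trL hF hK θ) (conj_algebraMap hF hK)) fun x => (algebraMap F K).injective (by
    erw [trL_eq hF, map_mul, h, ← unit_Q, unit_σ_Q]; simp)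

/-- The quadratic trace form of a unitary space. -/
noncomputable def trO (Φ : Form (unitK hK) V) : Form (Kind.orth F) V :=
  ofQuadFun (fun x => retr F K (Φ.Q x)) (Φ.trB (trL hF hK 1) (conj_algebraMap hF hK))
    (fun c x => by
      rw [← algebraMap_smul K, Q_smul]; erw [conj_algebraMap hF hK]; rw [← map_mul, ← Algebra.smul_def, map_smul, smul_eq_mul])
    fun x y => by rw [Q_add, map_add, map_add]; simp [trB, trL]

theorem trO_Q (Φ : Form (unitK hK) V) (x : V) : algebraMap F K ((Φ.trO hF).Q x) = Φ.Q x := algebraMap_retr hF hK (unit_σ_Q Φ x)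

theorem trO_nondeg {Φ : Form (unitK hK) V} (h : Φ.Nondeg) : (Φ.trO hF).Nondeg := h.tr (trL_ne hF (hK := hK) one_ne_zero) fun _ _ => rfl

theorem trO_mem {Φ : Form (unitK hK) V} (g) (h : g ∈ Φ.isom) : resSc F g ∈ (Φ.trO hF).isom :=
  (mem_isom_orth _).2 fun x => congrArg (retr F K) (h.2 x)

theorem trO_hasTS [FiniteDimensional K V] {Φ : Form (unitK hK) V} (h : Φ.Nondeg) {m : ℕ} (hm : finrank K V = m) :
    (Φ.trO hF).HasTS m ↔ Even m := by
  classical
  haveI : FiniteDimensional F V := Module.Finite.trans K V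
  have d : finrank F V = 2 * m := by rw [finrank_res hF hK, hm]
  have e : Φ.numQ 0 = (Φ.trO hF).numSing := Nat.card_congr (Equiv.subtypeEquivRight fun x => by rw [← trO_Q hF, map_eq_zero])
  have k := numQ_unit_aux h (c := 0) (by simp) hm
  have q2 : (2 : ℤ) ≤ q := by exact_mod_cast two_le_of_card_sq hK
  have qp : (0 : ℤ) < q ^ m * (q - 1) := mul_pos (by positivity) (by omega)
  rw [e, if_pos rfl] at k
  refine ⟨fun t => by_contra fun he => ?_, fun he => by_contra fun t => ?_⟩
  · rw [numSing_plus hF (trO_nondeg hF h) d t, (Nat.not_even_iff_odd.1 he).neg_one_pow, pow_succ] at k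
    linarith
  · obtain _ | m := m
    · exact t hasTS_zero
    rw [numSing_minus hF (trO_nondeg hF h) d t, he.neg_one_pow] at k
    simp only [mul_add, pow_succ, pow_add] at k qp
    linarith

end Form
end H5
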