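import Cfsg.Agent.H5.Sim2
import Cfsg.Agent.H5.Tr

/-!
Hilbert 90 and surjectivity of the norm for finite commutative rings with involution; adjoints; conjugacy of isometries
(`Form.Eqv`) from linear conjugacy; unitary groups control their own fusion.
-/

set_option autoImplicit false

namespace H5

open Module Polynomial Matrix

section h90
variable {R : Type*} [CommRing R] [Finite R] {τ : R →+* R} (hτ : ∀ x, τ (τ x) = x) {θ : R} (hθ : IsUnit (θ - τ θ))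
include hτ hθ

theorem h90_comm {y : R} (hy : y * τ y = 1) : ∃ z, IsUnit z ∧ z = y * τ z := by
  let w := ((1 + y) * (1 + τ y)) ^ (Nat.card R).factorial
  have hw : τ w = w := by simp [w, hτ, mul_comm]
  refine ⟨1 + y + (1 - w) * (θ + y * τ θ), by_contra fun h => ?_, by
    simp only [map_add, map_mul, map_sub, map_one, hτ, hw]; linear_combination (-1 - (1 - w) * θ) * hy⟩
  obtain ⟨I, hI, h⟩ := exists_max_ideal_of_mem_nonunits h
  letI := Ideal.Quotient.field I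
  let π := Ideal.Quotient.mk I
  haveI := Finite.of_surjective π Ideal.Quotient.mk_surjective
  letI := Fintype.ofFinite (R ⧸ I)
  replace h : π _ = 0 := Ideal.Quotient.eq_zero_iff_mem.2 h
  have y1 := congrArg π hy
  simp only [map_add, map_mul, map_sub, map_one] at h y1
  by_cases e : 1 + π y = 0
  · have : π w = 0 := by simp [w, e, Nat.factorial_ne_zero]
    exact (hθ.map π).ne_zero (by rw [map_sub]; linear_combination h + (-1 - π (τ θ)) * e + (π θ + π y * π (τ θ)) * this)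
  have e' : (1 + π y) * (1 + π (τ y)) ≠ 0 := mul_ne_zero e fun k => e (by linear_combination π y * k - y1)
  obtain ⟨c, hc⟩ : Fintype.card (R ⧸ I) - 1 ∣ (Nat.card R).factorial := Nat.dvd_factorial (Nat.sub_pos_of_lt Fintype.one_lt_card)
    ((Nat.sub_le _ _).trans (Nat.card_eq_fintype_card.ge.trans (Nat.card_le_card_of_surjective π Ideal.Quotient.mk_surjective)))
  have : π w = 1 := by simp only [w, map_pow, map_mul, map_add, map_one, hc, pow_mul, FiniteField.pow_card_sub_one_eq_one _ e', one_pow]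
  exact e (by simpa [this] using h)

theorem norm_comm {h : R} (hu : IsUnit h) (hh : τ h = h) : ∃ z, z * τ z = h := by
  let t : Rˣ →* Rˣ := Units.map τ.toMonoidHom
  have tt : ∀ x, t (t x) = x := fun x => Units.ext (hτ x)
  have k : (MonoidHom.id _ * t).ker = (MonoidHom.id _ / t).range := by
    ext y
    refine ⟨fun hy => ?_, by rintro ⟨z, rfl⟩; simp [MonoidHom.mem_ker, tt]⟩
    obtain ⟨z, ⟨z, rfl⟩, e⟩ := h90_comm hτ hθ (congrArg Units.val hy)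
    exact ⟨z, div_eq_iff_eq_mul.2 (Units.ext e)⟩
  have l : (MonoidHom.id _ * t).range = (MonoidHom.id _ / t).ker := Subgroup.eq_of_le_of_card_ge
    (by rintro _ ⟨z, rfl⟩; simp [MonoidHom.mem_ker, tt, mul_comm]) (by
      have a := (MonoidHom.id _ * t).ker.card_mul_index
      have b := (MonoidHom.id _ / t).ker.card_mul_index
      rw [Subgroup.index_ker] at a b
      rw [k, ← b, mul_comm] at a
      exact (Nat.eq_of_mul_eq_mul_right Nat.card_pos a).ge)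
  obtain ⟨z, e⟩ := l.ge (show hu.unit ∈ _ from div_eq_one.2 (Units.ext hh.symm))
  exact ⟨z, congrArg Units.val e⟩

end h90

theorem isConj_congr {G H : Type*} [Group G] [Group H] (e : G ≃* H) {a b : G} : IsConj (e a) (e b) ↔ IsConj a b :=
  ⟨fun h => by simpa using e.symm.toMonoidHom.map_isConj h, e.toMonoidHom.map_isConj⟩

theorem comm_of_closure {E : Type*} [Ring E] {S : Set E} {y z : E} (hz : z ∈ Subring.closure S) (h : ∀ a ∈ S, y * a = a * y) : y * z = z * y :=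
  Subring.closure_le.2 (show S ⊆ Subring.centralizer {y} from fun a ha _ e => e ▸ h a ha) hz y rfl

theorem h90 {E : Type*} [Ring E] [Finite E] (τ : E →+ E) (τ1 : τ 1 = 1) (τm : ∀ x y, τ (x * y) = τ y * τ x) {S : Set E}
    (hc : ∀ a ∈ S, ∀ b ∈ S, a * b = b * a) (hS : ∀ a ∈ S, τ a ∈ S ∧ τ (τ a) = a) {θ : E} (hθ : θ ∈ S) (hu : IsUnit (θ - τ θ)) {y : E} (hy : y ∈ S) :
    (y * τ y = 1 → ∃ z ∈ Subring.closure S, IsUnit z ∧ z = y * τ z) ∧ (IsUnit y → τ y = y → ∃ z ∈ Subring.closure S, z * τ z = y) := by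
  have k : ∀ x ∈ Subring.closure S, τ x ∈ Subring.closure S ∧ τ (τ x) = x := fun x hx => by
    induction hx using Subring.closure_induction with
    | mem x h => exact ⟨Subring.subset_closure (hS x h).1, (hS x h).2⟩
    | zero => simp
    | one => simp [τ1]
    | add x y _ _ h h' => simp [add_mem h.1 h'.1, h.2, h'.2]
    | neg x _ h => simp [h.1, h.2]
    | mul x y _ _ h h' => simp [τm, mul_mem h'.1 h.1, h.2, h'.2]
  letI := Subring.closureCommRingOfComm hc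
  let t : Subring.closure S →+* Subring.closure S := ⟨⟨⟨fun x => ⟨τ x, (k _ x.2).1⟩, Subtype.ext τ1⟩, fun x y => Subtype.ext ((τm _ _).trans
    (congrArg Subtype.val (mul_comm (⟨_, (k _ y.2).1⟩ : Subring.closure S) ⟨_, (k _ x.2).1⟩)))⟩, Subtype.ext (map_zero τ), fun x y => Subtype.ext (map_add τ _ _)⟩
  have u : ∀ x : Subring.closure S, IsUnit x.1 → IsUnit x := fun x ⟨v, h⟩ =>
    .of_pow_eq_one (Subtype.ext (by simp [← h, ← Units.val_pow_eq_pow_val, pow_orderOf_eq_one])) (orderOf_pos v).ne'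
  have tt : ∀ x, t (t x) = x := fun x => Subtype.ext (k _ x.2).2
  have hθ' := u (⟨θ, Subring.subset_closure hθ⟩ - t ⟨θ, Subring.subset_closure hθ⟩) hu
  refine ⟨fun h => ?_, fun h h' => ?_⟩
  · obtain ⟨z, h1, h2⟩ := h90_comm tt hθ' (y := ⟨y, Subring.subset_closure hy⟩) (Subtype.ext h)
    exact ⟨z, z.2, h1.map (Subring.subtype _), congrArg Subtype.val h2⟩
  · obtain ⟨z, h1⟩ := norm_comm tt hθ' (u ⟨y, Subring.subset_closure hy⟩ h) (Subtype.ext h')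
    exact ⟨z, z.2, congrArg Subtype.val h1⟩

namespace Form
universe u v
variable {F : Type*} [Field F] {κ : Kind F} {V : Type u} [AddCommGroup V] [Module F V] [FiniteDimensional F V]
  {W : Type v} [AddCommGroup W] [Module F W] [FiniteDimensional F W] {Φ : Form κ V} {Ψ : Form κ W} {a : V ≃ₗ[F] V} {b : W ≃ₗ[F] W}

theorem Nondeg.exists_end (h : Φ.Nondeg) (C : V →ₗ[F] V →ₛₗ[κ.σ] F) : ∃ H : End F V, ∀ x y, C x y = Φ.B x (H y) := by
  choose v hv using fun y => h.exists_rep (C.flip y)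
  exact ⟨⟨⟨v, fun y z => h.ext fun x => by simp [hv]⟩, fun c y => h.ext fun x => by simp [hv]⟩, fun x y => (hv y x).symm⟩

/-- The adjoint. -/
noncomputable def Nondeg.adj (h : Φ.Nondeg) : End F V →+ End F V := .mk' (fun f => (h.exists_end (Φ.B ∘ₗ f)).choose) fun f g =>
  LinearMap.ext fun y => h.ext fun x => by
    rw [LinearMap.add_apply, map_add, ← (h.exists_end _).choose_spec, ← (h.exists_end _).choose_spec, ← (h.exists_end _).choose_spec]; simp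

section adj
variable (h : Φ.Nondeg)

theorem Nondeg.adj_spec (f : End F V) (x y : V) : Φ.B (f x) y = Φ.B x (h.adj f y) := (h.exists_end (Φ.B ∘ₗ f)).choose_spec x y

theorem Nondeg.adj_eq {f g : End F V} (k : ∀ x y, Φ.B (f x) y = Φ.B x (g y)) : h.adj f = g :=
  LinearMap.ext fun y => h.ext fun x => by rw [← h.adj_spec, k]

theorem Nondeg.adj_spec' (f : End F V) (x y : V) : Φ.B (h.adj f x) y = Φ.B x (f y) := by rw [Φ.B_symm, ← h.adj_spec, ← Φ.B_symm]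

theorem Nondeg.adj_adj (f : End F V) : h.adj (h.adj f) = f := h.adj_eq (h.adj_spec' f)

theorem Nondeg.adj_mul (f g : End F V) : h.adj (f * g) = h.adj g * h.adj f := h.adj_eq fun x y => by simp [h.adj_spec]

theorem Nondeg.adj_one : h.adj 1 = 1 := h.adj_eq fun _ _ => rfl

theorem Nondeg.adj_smul (c : F) : h.adj (c • 1) = κ.σ c • 1 := h.adj_eq fun _ _ => by simp

theorem Nondeg.adj_isom (ha : a ∈ Φ.isom) : h.adj a = a.symm := h.adj_eq (isom_B_symm ha)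

theorem Nondeg.adj_isom' (ha : a ∈ Φ.isom) : h.adj a.symm = a := h.adj_isom (inv_mem ha)

end adj

theorem finite_end [Finite F] : Finite (End F V) := Module.finite_of_finite F

theorem isUnit_smul_sub {c d : F} (h : c ≠ d) : IsUnit ((c • 1 : End F V) - d • 1) := by
  rw [← sub_smul, ← Algebra.algebraMap_eq_smul_one]; exact (sub_ne_zero.2 h).isUnit.map _

theorem exists_B_iso [Finite F] (hΦ : Φ.Nondeg) (ha : a ∈ Φ.isom) (hb : b ∈ Ψ.isom) (hΨ : Ψ.Nondeg) (e : V ≃ₗ[F] W) (he : ∀ x, e (a x) = b (e x))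
    (hθ : κ.σ ≠ .id F ∨ ∀ x, a (a x) = x → x = 0) : ∃ e' : V ≃ₗ[F] W, (∀ x y, Ψ.B (e' x) (e' y) = Φ.B x y) ∧ ∀ x, e' (a x) = b (e' x) := by
  haveI := finite_end (F := F) (V := V)
  obtain ⟨H, hH⟩ := hΦ.exists_end (Ψ.comap e.toLinearMap).B
  simp only [comap_B, LinearEquiv.coe_coe] at hH
  have h1 : hΦ.adj H = H := hΦ.adj_eq fun x y => by rw [Φ.B_symm, ← hH, ← Ψ.B_symm, hH]
  have h2 : ∀ y, H (a y) = a (H y) := fun y => hΦ.ext fun x => by
    obtain ⟨x, rfl⟩ := a.surjective x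
    rw [← hH, he, he, isom_B hb, isom_B ha, hH]
  have h3 : ∀ y, H (a.symm y) = a.symm (H y) := fun y => a.injective (by simp [← h2])
  have h4 : IsUnit H := (LinearMap.isUnit_iff_ker_eq_bot _).2 (LinearMap.ker_eq_bot'.2 fun y hy => e.map_eq_zero_iff.1 (hΨ _ fun x => by
    obtain ⟨x, rfl⟩ := e.surjective x; simp [hH, hy]))
  let S : Set (End F V) := {H, a.toLinearMap, a.symm.toLinearMap} ∪ .range fun c : F => c • 1
  obtain ⟨θ, h5, h6⟩ : ∃ θ ∈ S, IsUnit (θ - hΦ.adj θ) := by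
    rcases hθ with h | h
    · obtain ⟨c, hc⟩ := DFunLike.ne_iff.1 h
      exact ⟨_, .inr ⟨c, rfl⟩, hΦ.adj_smul c ▸ isUnit_smul_sub hc.symm⟩
    · refine ⟨a, by simp [S], (LinearMap.isUnit_iff_ker_eq_bot _).2 (LinearMap.ker_eq_bot'.2 fun y hy => h y ?_)⟩
      rw [hΦ.adj_isom ha] at hy
      rw [show a y = a.symm y from sub_eq_zero.1 hy, a.apply_symm_apply]
  have c : ∀ x ∈ S, ∀ y ∈ S, x * y = y * x := by
    rintro _ ((rfl | rfl | rfl) | ⟨c, rfl⟩) _ ((rfl | rfl | rfl) | ⟨d, rfl⟩) <;> ext <;> simp [h2, h3, smul_smul, mul_comm]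
  obtain ⟨z, z1, z2⟩ := (h90 hΦ.adj hΦ.adj_one hΦ.adj_mul c (fun x hx => ⟨by
    rcases hx with (rfl | rfl | rfl) | ⟨c, rfl⟩
    exacts [by simp [S, h1], by simp [S, hΦ.adj_isom ha], by simp [S, hΦ.adj_isom' ha], .inr ⟨_, (hΦ.adj_smul c).symm⟩],
    hΦ.adj_adj x⟩) h5 h6 (y := H) (by simp [S])).2 h4 h1
  have z3 := comm_of_closure (y := a.symm.toLinearMap) z1 fun x hx => c _ (by simp [S]) x hx
  obtain ⟨u, hu⟩ : IsUnit (hΦ.adj z) := isUnit_of_mul_isUnit_right (z2 ▸ h4)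
  let Y := LinearMap.GeneralLinearGroup.toLinearEquiv u
  have y1 : ∀ x, Y x = hΦ.adj z x := fun x => LinearMap.congr_fun hu x
  have y2 : ∀ x, Y (a x) = a (Y x) := fun x => by
    have := congrArg hΦ.adj z3
    rw [hΦ.adj_mul, hΦ.adj_mul, hΦ.adj_isom' ha] at this
    rw [y1, y1]; exact LinearMap.congr_fun this x
  refine ⟨Y.symm.trans e, fun x y => ?_, fun x => ?_⟩
  · obtain ⟨x, rfl⟩ := Y.surjective x
    obtain ⟨y, rfl⟩ := Y.surjective y
    simp only [LinearEquiv.trans_apply, Y.symm_apply_apply]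
    rw [hH, y1, y1, hΦ.adj_spec', ← z2]; rfl
  · obtain ⟨x, rfl⟩ := Y.surjective x
    simp [← y2, he]

/-- Isometric equivalence of spaces with an automorphism. -/
def Eqv (Φ : Form κ V) (a : V ≃ₗ[F] V) (Ψ : Form κ W) (b : W ≃ₗ[F] W) : Prop := ∃ e, Φ.IsIso Ψ e ∧ ∀ x, e (a x) = b (e x)

omit [FiniteDimensional F V] in
theorem isConj_iff_eqv {a b : Φ.isom} : IsConj a b ↔ Φ.Eqv a.1 Φ b.1 := isConj_iff.trans
  ⟨fun ⟨c, h⟩ => ⟨c, c.2, fun x => by simp [← h]⟩, fun ⟨e, h, k⟩ => ⟨⟨e, h⟩, mul_inv_eq_iff_eq_mul.2 (Subtype.ext (LinearEquiv.ext k))⟩⟩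

theorem eqv_fpf [Finite F] (hΦ : Φ.Nondeg) (ha : a ∈ Φ.isom) (hb : b ∈ Ψ.isom) (hΨ : Ψ.Nondeg) (e : V ≃ₗ[F] W) (he : ∀ x, e (a x) = b (e x))
    (h : ∀ x, a (a x) = x → x = 0) : Φ.Eqv a Ψ b := by
  obtain ⟨e, h1, h2⟩ := exists_B_iso hΦ ha hb hΨ e he (.inr h)
  refine ⟨e, ⟨h1, fun y => ?_⟩, h2⟩
  obtain ⟨x, rfl⟩ := LinearMap.injective_iff_surjective.1 ((injective_iff_map_eq_zero (a.toLinearMap - .id)).2 fun x hx =>
    h x (by rw [show a x = x from sub_eq_zero.1 hx, show a x = x from sub_eq_zero.1 hx])) y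
  change Ψ.Q (e (a x - x)) = Φ.Q (a x - x)
  have k := Φ.Q_add (a x - x) x
  have l := Ψ.Q_add (e (a x - x)) (e x)
  rw [← map_add, h1, sub_add_cancel, h2, isom_Q hb] at l
  rw [sub_add_cancel, isom_Q ha] at k
  linear_combination k - l

theorem eqv_unit [Finite F] {σ : F →+* F} {hσ : ∀ a, σ (σ a) = a} (hne : σ ≠ .id F) {Φ : Form (.unit σ hσ) V} {Ψ : Form (.unit σ hσ) W}
    (hΦ : Φ.Nondeg) (ha : a ∈ Φ.isom) (hb : b ∈ Ψ.isom) (hΨ : Ψ.Nondeg) (e : V ≃ₗ[F] W) (he : ∀ x, e (a x) = b (e x)) : Φ.Eqv a Ψ b :=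
  let ⟨e, h1, h2⟩ := exists_B_iso hΦ ha hb hΨ e he (.inl hne); ⟨e, ⟨h1, fun x => by rw [unit_Q, unit_Q, h1]⟩, h2⟩

omit [FiniteDimensional F V] [FiniteDimensional F W] in
theorem eqv_scalar {c : F} (ha : ∀ x, a x = c • x) (hb : ∀ x, b x = c • x) (h : ∃ e, Φ.IsIso Ψ e) : Φ.Eqv a Ψ b :=
  h.imp fun e h => ⟨h, fun x => by rw [ha, hb, map_smul]⟩

section glue
variable (hΦ : Φ.Nondeg) (hΨ : Ψ.Nondeg) {U : Submodule F V} {U' : Submodule F W} (hU : (Φ.res U).Nondeg) (hU' : (Ψ.res U').Nondeg)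
  {e : U ≃ₗ[F] U'} (he : (Φ.res U).IsIso (Ψ.res U') e)
include hΦ hΨ hU hU' he

theorem exists_glue {e' : Φ.perp U ≃ₗ[F] Ψ.perp U'} (he' : (Φ.res _).IsIso (Ψ.res _) e') :
    ∃ g, Φ.IsIso Ψ g ∧ (∀ u : U, g u = e u) ∧ ∀ u : Φ.perp U, g u = e' u := by
  let g := ((U.prodEquivOfIsCompl _ (hΦ.isCompl_perp hU)).symm.trans (e.prodCongr e')).trans (U'.prodEquivOfIsCompl _ (hΨ.isCompl_perp hU'))
  have h1 : ∀ u : U, g u = e u := fun u => by simp [g]
  have h2 : ∀ u : Φ.perp U, g u = e' u := fun u => by simp [g]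
  refine ⟨g, isIso_of_span (S := U ∪ Φ.perp U) (by simpa [Submodule.span_union] using (hΦ.isCompl_perp hU).sup_eq_top) g ?_ ?_, h1, h2⟩
  · rintro x (hx | hx) y (hy | hy)
    · exact h1 ⟨x, hx⟩ ▸ h1 ⟨y, hy⟩ ▸ he.1 _ _
    · exact h1 ⟨x, hx⟩ ▸ h2 ⟨y, hy⟩ ▸ ((mem_perp' _).1 (e' _).2 _ (e _).2).trans ((mem_perp' _).1 hy _ hx).symm
    · exact h2 ⟨x, hx⟩ ▸ h1 ⟨y, hy⟩ ▸ ((mem_perp _).1 (e' _).2 _ (e _).2).trans ((mem_perp _).1 hx _ hy).symm
    · exact h2 ⟨x, hx⟩ ▸ h2 ⟨y, hy⟩ ▸ he'.1 _ _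
  · rintro x (hx | hx)
    exacts [h1 ⟨x, hx⟩ ▸ he.2 _, h2 ⟨x, hx⟩ ▸ he'.2 _]

omit hΨ hU hU' in
theorem exists_cancel (h : ∃ i, Φ.IsIso Ψ i) : ∃ e', (Φ.res (Φ.perp U)).IsIso (Ψ.res (Ψ.perp U')) e' := by
  obtain ⟨i, hi⟩ := h
  obtain ⟨g, hg, k⟩ := hΦ.witt' U (i.symm ∘ₗ U'.subtype ∘ₗ e) (i.symm.injective.comp (Subtype.val_injective.comp e.injective))
    (fun u v => (hi.symm.1 _ _).trans (he.1 u v)) fun u => (hi.symm.2 _).trans (he.2 u)
  have j := (isIso_of_mem hg).trans hi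
  have l : ∀ u : U, (g.trans i) u = e u := fun u => by simp [k]
  refine ⟨(g.trans i).ofSubmodules _ _ (le_antisymm ?_ fun y hy => ⟨(g.trans i).symm y, (mem_perp _).2 fun u hu => ?_, by simp⟩),
    fun x y => j.1 _ _, fun x => j.2 _⟩
  · rintro _ ⟨x, hx, rfl⟩
    refine (mem_perp _).2 fun u hu => ?_
    obtain ⟨u, e⟩ := e.surjective ⟨u, hu⟩
    exact (congrArg Subtype.val e ▸ l u ▸ j.1 x u).trans ((mem_perp _).1 hx _ u.2)
  · rw [← j.1, LinearEquiv.apply_symm_apply, l ⟨u, hu⟩]; exact (mem_perp _).1 hy _ (e _).2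

end glue

/-- The commutator space `[V, a]`. -/
abbrev _root_.H5.mv (a : V ≃ₗ[F] V) : Submodule F V := LinearMap.range ((a : V →ₗ[F] V) - LinearMap.id)

omit [FiniteDimensional F V] in
theorem _root_.H5.mv_inf_fixSp {n : ℕ} (hn : (n : F) ≠ 0) (h : a ^ n = 1) : mv a ⊓ fixSp a = ⊥ := by
  refine eq_bot_iff.2 ?_
  rintro _ ⟨⟨x, rfl⟩, hx⟩
  have : ∀ k : ℕ, (a ^ k) x - x = (k : F) • (a x - x) := fun k => by
    induction k with
    | zero => simp
    | succ k ih =>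
      have := congrArg a ih
      rw [map_smul, show a (a x - x) = a x - x from hx, map_sub] at this
      rw [pow_succ', LinearEquiv.mul_apply, Nat.cast_succ, add_smul, ← this]; simp
  exact (smul_eq_zero.1 ((this n).symm.trans (by simp [h]))).resolve_left hn

theorem eqv_split (hΦ : Φ.Nondeg) (ha : a ∈ Φ.isom) (hb : b ∈ Ψ.isom) (hΨ : Ψ.Nondeg) (e : V ≃ₗ[F] W) (he : ∀ x, e (a x) = b (e x))
    {n : ℕ} (hn : (n : F) ≠ 0) (h : a ^ n = 1) (hi : ∃ i, Φ.IsIso Ψ i) (k : ℕ)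
    (H : ∀ (U : Submodule F V) (U' : Submodule F W) (a' : U ≃ₗ[F] U) (b' : U' ≃ₗ[F] U') (e' : U ≃ₗ[F] U'), (Φ.res U).Nondeg → a' ∈ (Φ.res U).isom →
      b' ∈ (Ψ.res U').isom → (Ψ.res U').Nondeg → (∀ x, e' (a' x) = b' (e' x)) → (∀ x, (a' x : V) = a x) →
      U = mv (a ^ k) ∨ U = fixSp (a ^ k) ∧ (∃ i, (Φ.res U).IsIso (Ψ.res U') i) → (Φ.res U).Eqv a' (Ψ.res U') b') : Φ.Eqv a Ψ b := by
  have p : ∀ k x, e ((a ^ k) x) = (b ^ k) (e x) := fun k => by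
    induction k with
    | zero => simp
    | succ k ih => intro x; simp [pow_succ, ih, he]
  have h' : b ^ n = 1 := LinearEquiv.ext fun x => by obtain ⟨x, rfl⟩ := e.surjective x; simp [← p, h]
  have n1 := (res_nondeg_iff _ _).2 (hΦ.perp_range_sub (pow_mem ha k) ▸ mv_inf_fixSp hn (by rw [← pow_mul, mul_comm, pow_mul, h, one_pow]))
  have n2 := (res_nondeg_iff _ _).2 (hΨ.perp_range_sub (pow_mem hb k) ▸ mv_inf_fixSp hn (by rw [← pow_mul, mul_comm, pow_mul, h', one_pow]))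
  have i1 : ∀ u ∈ mv (a ^ k), a u ∈ mv (a ^ k) := by
    rintro _ ⟨x, rfl⟩; exact ⟨a x, by simp [← LinearEquiv.mul_apply, pow_mul_comm']⟩
  have i2 : ∀ u ∈ mv (b ^ k), b u ∈ mv (b ^ k) := by
    rintro _ ⟨x, rfl⟩; exact ⟨b x, by simp [← LinearEquiv.mul_apply, pow_mul_comm']⟩
  obtain ⟨e1, h1, k1⟩ := H _ _ (resAut a _ i1) (resAut b _ i2) (e.ofSubmodules _ _ (le_antisymm (by rintro _ ⟨_, ⟨x, rfl⟩, rfl⟩; exact ⟨e x, by simp [p]⟩)
    (by rintro _ ⟨x, rfl⟩; obtain ⟨x, rfl⟩ := e.surjective x; exact ⟨_, ⟨x, rfl⟩, by simp [p]⟩))) n1 (resAut_mem _ ha _) (resAut_mem _ hb _) n2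
    (fun x => Subtype.ext (he x)) (fun _ => rfl) (.inl rfl)
  obtain ⟨e2, h2, k2⟩ := H _ _ (resAut a _ (isom_perp_mem ha i1)) (resAut b _ (isom_perp_mem hb i2)) (e.ofSubmodules _ _ (by
    rw [hΦ.perp_range_sub (pow_mem ha k), hΨ.perp_range_sub (pow_mem hb k)]
    ext x; obtain ⟨x, rfl⟩ := e.surjective x
    simp [mem_fixSp, ← p])) (hΦ.perp_nondeg n1) (resAut_mem _ ha _) (resAut_mem _ hb _) (hΨ.perp_nondeg n2)
    (fun x => Subtype.ext (he x)) (fun _ => rfl) (.inr ⟨hΦ.perp_range_sub (pow_mem ha k), exists_cancel hΦ h1 hi⟩)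
  obtain ⟨g, h3, g1, g2⟩ := exists_glue hΦ hΨ n1 n2 h1 h2
  refine ⟨g, h3, fun x => ?_⟩
  obtain ⟨u, v, rfl⟩ := exists_add_of_isCompl (hΦ.isCompl_perp n1) x
  simp only [map_add, g1, g2]
  exact congrArg₂ _ ((g1 (resAut a _ i1 u)).trans (congrArg _ (k1 u))) ((g2 (resAut a _ _ v)).trans (congrArg _ (k2 v)))

theorem eqv_odd [Finite F] (hΦ : Φ.Nondeg) (ha : a ∈ Φ.isom) (hb : b ∈ Ψ.isom) (hΨ : Ψ.Nondeg) (e : V ≃ₗ[F] W) (he : ∀ x, e (a x) = b (e x))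
    {n : ℕ} (hn : (n : F) ≠ 0) (h : a ^ n = 1) (ho : Odd n) (hi : ∃ i, Φ.IsIso Ψ i) : Φ.Eqv a Ψ b := by
  refine eqv_split hΦ ha hb hΨ e he hn h hi 1 fun U U' a' b' e' n1 h1 h2 n2 k l => ?_
  rw [pow_one]
  rintro (rfl | ⟨rfl, i⟩)
  · refine eqv_fpf n1 h1 h2 n2 e' k fun x hx => Subtype.ext ((mv_inf_fixSp hn h).le ⟨x.2, ?_⟩)
    obtain ⟨m, rfl⟩ := ho
    have : a * a ∈ MulAction.stabilizer _ x.1 := by simpa [l] using congrArg Subtype.val hx
    have := pow_mem this m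
    rw [← sq, ← pow_mul, eq_inv_of_mul_eq_one_left ((pow_succ _ _).symm.trans h), inv_mem_iff] at this
    exact this
  · have : ∀ x, a' x = x := fun x => Subtype.ext ((l x).trans x.2)
    exact eqv_scalar (c := 1) (by simpa) (fun x => by obtain ⟨x, rfl⟩ := e'.surjective x; simp [← k, this]) i

theorem eqv_symp [Finite F] {Φ : Form (.symp F) V} {Ψ : Form (.symp F) W} (hΦ : Φ.Nondeg) (ha : a ∈ Φ.isom) (hb : b ∈ Ψ.isom) (hΨ : Ψ.Nondeg)
    (e : V ≃ₗ[F] W) (he : ∀ x, e (a x) = b (e x)) {n : ℕ} (hn : (n : F) ≠ 0) (h : a ^ n = 1) : Φ.Eqv a Ψ b := by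
  refine eqv_split hΦ ha hb hΨ e he hn h (symp_iso hΦ hΨ e.finrank_eq) 2 fun U U' a' b' e' n1 h1 h2 n2 k l => ?_
  rintro (rfl | ⟨rfl, i⟩)
  · exact eqv_fpf n1 h1 h2 n2 e' k fun x hx => Subtype.ext ((mv_inf_fixSp hn (by rw [← pow_mul, mul_comm, pow_mul, h, one_pow])).le
      ⟨x.2, by simpa [l, mem_fixSp, sq] using congrArg Subtype.val hx⟩)
  have p : ∀ (k : ℕ) x, ((a' ^ k) x : V) = (a ^ k) x := fun k => by
    induction k with
    | zero => simp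
    | succ k ih => intro x; simp [pow_succ, ih, l]
  refine eqv_split n1 h1 h2 n2 e' k hn (LinearEquiv.ext fun x => Subtype.ext (by simp [p, h])) i 1 fun U U' a'' b'' e'' n1 h1 h2 n2 k' l' => ?_
  rw [pow_one]
  have s : ∀ c : F, (∀ x, a'' x = c • x) → (Form.res _ U).Eqv a'' (Form.res _ U') b'' := fun c this =>
    eqv_scalar this (fun x => by obtain ⟨x, rfl⟩ := e''.surjective x; simp [← k', this]) (symp_iso n1 n2 e''.finrank_eq)
  rintro (rfl | ⟨rfl, i⟩)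
  · refine s (-1) fun ⟨_, x, rfl⟩ => Subtype.ext ((l' _).trans (Subtype.ext ?_))
    simpa [l, mem_fixSp, sq] using x.2
  · exact s 1 fun x => Subtype.ext ((l' x).trans (x.2.trans (by simp)))

theorem Nondeg.exists_scal_on (hΦ : Φ.Nondeg) (ha : a ∈ Φ.isom) {U : Submodule F V} (hU : (Φ.res U).Nondeg) (h : ∀ u ∈ U, a u ∈ U) {d : Fˣ}
    (hd : (d : F) * κ.σ d = 1) : ∃ x ∈ Φ.isom, x * a = a * x ∧ LinearEquiv.det x = d ^ finrank F U := by
  refine ⟨sumAut (hΦ.isCompl_perp hU) (scal U d, 1), (sumAut_mem_iff _ _ le_rfl _).2 ⟨⟨fun x y => ?_, fun x => ?_⟩, one_mem _⟩,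
    hΦ.ext_of_compl hU (fun u hu => ?_) fun u hu => ?_, by simp [det_sumAut, det_scal]⟩
  · simp [← mul_assoc, hd, mul_comm (κ.σ d), mul_right_comm _ _ (κ.σ d)]
  · simp [Q_smul, hd]
  · rw [LinearEquiv.mul_apply, LinearEquiv.mul_apply]; erw [sumAut_left _ _ ⟨_, h u hu⟩, sumAut_left _ _ ⟨_, hu⟩]; simp
  · rw [LinearEquiv.mul_apply, LinearEquiv.mul_apply]; erw [sumAut_right _ _ ⟨_, isom_perp_mem ha h u hu⟩, sumAut_right _ _ ⟨_, hu⟩]; simp

theorem Nondeg.isConj_sisom (hΦ : Φ.Nondeg) {a b : Φ.sisom} (h : Φ.Eqv a.1 Φ b.1)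
    (k : ∀ c : Fˣ, (c : F) * κ.σ c = 1 → ∃ x ∈ Φ.isom, x * a = a * x ∧ LinearEquiv.det x = c) : IsConj a b := by
  obtain ⟨e, h1, h2⟩ := h
  obtain ⟨x, h3, h4, h5⟩ := k (LinearEquiv.det e⁻¹) (hΦ.det_mul_conj (inv_mem h1))
  refine isConj_iff.2 ⟨⟨e * x, mul_mem h1 h3, by simp [h5]⟩, mul_inv_eq_iff_eq_mul.2 (Subtype.ext ?_)⟩
  change e * x * a = b * (e * x)
  rw [mul_assoc, h4]; ext; simp [h2]

section unit
variable {σ : F →+* F} {hσ : ∀ a, σ (σ a) = a} (hne : σ ≠ .id F) {Φ : Form (.unit σ hσ) V}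
include hne

omit [FiniteDimensional F V] in
theorem sesq_zero (C : V →ₗ[F] V →ₛₗ[σ] F) (h : ∀ x, C x x = 0) (x y : V) : C x y = 0 := by
  obtain ⟨c, hc⟩ := DFunLike.ne_iff.1 hne
  have k : ∀ x y, C x y + C y x = 0 := fun x y => by simpa [h, add_comm] using h (x + y)
  have := k (c • x) y
  simp only [map_smul, map_smulₛₗ, LinearMap.smul_apply, smul_eq_mul] at this
  exact (mul_eq_zero.1 (show (σ c - c) * C x y = 0 by linear_combination σ c * k x y - this)).resolve_left (sub_ne_zero.2 hc)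

theorem Nondeg.exists_det_sq (hΦ : Φ.Nondeg) (ha : a ∈ Φ.isom) (a1 : a ≠ 1) (h : mv a ≤ fixSp a) {d : Fˣ} (hd : (d : F) * σ d = 1) :
    ∃ x ∈ Φ.isom, x * a = a * x ∧ LinearEquiv.det x = d ^ 2 := by
  obtain ⟨v, hv⟩ : ∃ v, Φ.B (a v - v) v ≠ 0 := not_forall.1 fun k => a1 (LinearEquiv.ext fun x => sub_eq_zero.1 (hΦ.left _ fun y =>
    sesq_zero hne (Φ.B ∘ₗ (a.toLinearMap - .id)) k x y))
  have f : a (a v - v) = a v - v := h ⟨v, rfl⟩
  have q : Φ.Q (a v - v) = 0 := (unit_Q _ _).trans ((mem_perp _).1 ((hΦ.perp_range_sub ha).ge f) _ ⟨v, rfl⟩)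
  obtain ⟨c, hc⟩ := Φ.exists_singular_add q hv
  have y := exists_hyp_of_B_ne q hc (by rwa [map_add, B_smul_right, B_self_of_Q _ q, mul_zero, add_zero])
  rw [← y.finrank_span]
  refine hΦ.exists_scal_on ha y.nondeg (fun u hu => Submodule.mem_comap.1 ((Submodule.span_le.2 ?_ : _ ≤ Submodule.comap a.toLinearMap _) hu)) hd
  rintro _ (rfl | rfl)
  · exact Submodule.subset_span (.inl f)
  · exact Submodule.mem_span_pair.2 ⟨(Kind.unit σ hσ).σ (Φ.B (a v - v) (v + c • (a v - v)))⁻¹, 1, by simp only [LinearEquiv.coe_coe, map_smul, map_add, f]; module⟩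

theorem Nondeg.exists_det_one (hΦ : Φ.Nondeg) (ha : a ∈ Φ.isom) (h : ¬ fixSp a ≤ mv a) {d : Fˣ} (hd : (d : F) * σ d = 1) :
    ∃ x ∈ Φ.isom, x * a = a * x ∧ LinearEquiv.det x = d := by
  obtain ⟨w, hw⟩ : ∃ w : fixSp a, Φ.B w w ≠ 0 := not_forall.1 fun k => h fun x hx => by
    rw [← hΦ.perp_perp (mv a), hΦ.perp_range_sub ha]
    exact (mem_perp _).2 fun y hy => sesq_zero hne (Φ.res _).B k ⟨x, hx⟩ ⟨y, hy⟩
  have := hΦ.exists_scal_on ha (res_line_nondeg hw) (fun u hu => by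
    obtain ⟨c, rfl⟩ := Submodule.mem_span_singleton.1 hu; rwa [map_smul, show a w = w from w.2]) hd
  rwa [finrank_span_singleton (fun e => hw (by simp [e])), pow_one] at this

end unit

theorem exists_unit_of_adj [Fintype F] {q : ℕ} {hF : Fintype.card F = q ^ 2} {Φ : Form (unitK hF) V} (hΦ : Φ.Nondeg) (P : V ≃ₗ[F] V)
    (h : ∀ x y, Φ.B (P (a x)) (a y) = Φ.B (P x) y) : ∃ b ∈ Φ.isom, IsConj a b := by
  haveI := finite_end (F := F) (V := V)
  obtain ⟨p, hp⟩ : ∃ p : (End F V)ˣ, ∀ x, p.1 x = P x := ⟨LinearMap.GeneralLinearGroup.ofLinearEquiv P, fun _ => rfl⟩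
  let τ : End F V →+ End F V := (AddMonoidHom.mulLeft p⁻¹.1).comp ((AddMonoidHom.mulRight p.1).comp hΦ.adj)
  have e : ∀ z, τ z = p⁻¹.1 * (hΦ.adj z * p.1) := fun _ => rfl
  have i1 : hΦ.adj p⁻¹.1 * hΦ.adj p.1 = 1 := by simp [← hΦ.adj_mul, hΦ.adj_one]
  have i2 : hΦ.adj p.1 * hΦ.adj p⁻¹.1 = 1 := by simp [← hΦ.adj_mul, hΦ.adj_one]
  obtain ⟨Y, hY⟩ : ∃ Y : (End F V)ˣ, Y.1 = p⁻¹.1 * hΦ.adj p.1 := ⟨p⁻¹ * ⟨_, _, i2, i1⟩, rfl⟩
  have y1 : hΦ.adj p.1 = p.1 * Y := by simp [hY]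
  have y2 : τ Y = Y⁻¹.1 := by
    rw [e, hY, hΦ.adj_mul, hΦ.adj_adj, mul_assoc, Units.inv_mul_cancel_left, eq_comm, Units.inv_eq_of_mul_eq_one_left]
    rw [hY, mul_assoc, Units.mul_inv_cancel_left, i1]
  have τm : ∀ x y, τ (x * y) = τ y * τ x := fun x y => by simp [e, hΦ.adj_mul, mul_assoc]
  have τ1 : τ 1 = 1 := by simp [e, hΦ.adj_one]
  have y3 : τ Y⁻¹.1 = Y := by rw [← Units.mul_right_inj Y⁻¹, ← y2, ← τm, y2]; simp [τ1]
  have y4 : ∀ c : F, τ (c • 1) = conj hF c • 1 := fun c => by simp [e, hΦ.adj_smul]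
  have y5 : a.toLinearMap * Y.1 = Y.1 * a.toLinearMap := (Units.mul_right_inj p).1 (LinearMap.ext fun y => hΦ.ext fun x => by
    obtain ⟨x, rfl⟩ := a.surjective x
    change Φ.B _ (p.1 (a (Y.1 y))) = Φ.B _ ((p.1 * (Y.1 * a.toLinearMap)) y)
    rw [← mul_assoc, ← y1, End.mul_apply, ← hΦ.adj_spec, Φ.B_symm, hp, hp, h, ← Φ.B_symm, ← hp, ← End.mul_apply, ← y1, ← hΦ.adj_spec, hp]
    exact (h _ _).symm)
  let S : Set (End F V) := {Y.1, Y⁻¹.1} ∪ .range fun c : F => c • 1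
  obtain ⟨c, hc⟩ := DFunLike.ne_iff.1 (conj_ne_id hF)
  have k : ∀ x ∈ S, ∀ y ∈ S, x * y = y * x := by
    rintro _ ((rfl | rfl) | ⟨c, rfl⟩) _ ((rfl | rfl) | ⟨d, rfl⟩) <;> simp [smul_smul, mul_comm]
  obtain ⟨z, z1, z2, z3⟩ := (h90 τ τ1 τm k (by
    rintro _ ((rfl | rfl) | ⟨c, rfl⟩)
    exacts [by simp [S, y2, y3], by simp [S, y2, y3], ⟨.inr ⟨_, (y4 c).symm⟩, by rw [y4, y4, conj_conj]⟩])
    (.inr ⟨c, rfl⟩) (y4 c ▸ isUnit_smul_sub hc.symm) (y := Y) (by simp [S])).1 (by simp [y2])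
  have z4 := comm_of_closure (y := Y.1) z1 fun x hx => k _ (by simp [S]) x hx
  have z5 := comm_of_closure (y := a.toLinearMap) z1 (by
    rintro _ ((rfl | rfl) | ⟨c, rfl⟩)
    exacts [y5, (Commute.units_inv_right y5).eq, by simp])
  have z6 : hΦ.adj (p.1 * z) = p.1 * z := by
    have : τ z = Y⁻¹.1 * z := by rw [Units.eq_inv_mul_iff_mul_eq, ← z3]
    rw [hΦ.adj_mul, y1, ← mul_assoc, ← Units.mul_inv_cancel_left p (_ * p.1), ← e, this, mul_assoc, mul_assoc, ← z4, Units.inv_mul_cancel_left]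
  let Ψ := ofHerm (conj_conj hF) (conj_ne_id hF) (Φ.B ∘ₗ (p.1 * z)) fun x y => by
    change Φ.B ((p.1 * z) y) x = conj hF (Φ.B ((p.1 * z) x) y)
    rw [hΦ.adj_spec, z6, unit_symm]
  have n : Ψ.Nondeg := fun y hy => hΦ y fun x => by
    obtain ⟨x, rfl⟩ := ((End.isUnit_iff _).1 (p.isUnit.mul z2)).2 x; exact hy x
  obtain ⟨i, hi⟩ := unit_iso n hΦ rfl
  refine ⟨_, (hi.mem_iff a).1 ((mem_isom_unit _).2 fun x y => ?_), isConj_iff.2 ⟨i, rfl⟩⟩
  change Φ.B (p.1 (z (a x))) (a y) = Φ.B (p.1 (z x)) y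
  rw [hp, hp, ← h (z x)]; exact congrArg (fun u => Φ.B (P u) (a y)) (LinearMap.congr_fun z5 x).symm

end Form

section mat
open Form
variable {K : Type*} [Field K] [Fintype K] {q n : ℕ} (hK : Fintype.card K = q ^ 2)

theorem rank_map_conj {ι : Type*} [Fintype ι] [DecidableEq ι] (A : Matrix ι ι K) : (A.map (conj hK)).rank = A.rank := by
  have : (A.map (conj hK)).rank ≤ _ := rank_le_card_width _
  have : A.rank ≤ _ := rank_le_card_width _
  have := Nat.pow_right_injective Finite.one_lt_card ((card_ker_mulVec A).symm.trans (.trans (Nat.card_congr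
    ((Equiv.piCongrRight fun _ => Function.Involutive.toPerm _ (conj_conj hK)).subtypeEquiv fun v => by
      simp only [funext_iff]; exact forall_congr' fun i => (map_eq_zero (conj hK)).symm.trans (by rw [RingHom.map_mulVec]; rfl))) (card_ker_mulVec (A.map (conj hK)))))
  omega

theorem isConj_glEquiv {F ι : Type*} [Field F] [Fintype ι] [DecidableEq ι] {g h : GL ι F} : IsConj (glEquiv g) (glEquiv h) ↔ IsConj g.1 h.1 :=
  (isConj_congr _).trans isConj_GL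

include hK

theorem gu_conj_iff (A B : Cfsg.GU n K q) : IsConj A B ↔ IsConj A.1.1 B.1.1 := by
  refine ⟨fun h => isConj_GL.1 ((Subgroup.subtype _).map_isConj h), fun h => ?_⟩
  obtain ⟨e, he⟩ := isConj_iff.1 (isConj_glEquiv.2 h)
  exact (isConj_congr (guEquiv n hK)).1 (isConj_iff_eqv.2 (eqv_unit (conj_ne_id hK) (hermF_nondeg n hK) (guEquiv n hK A).2 (guEquiv n hK B).2
    (hermF_nondeg n hK) e fun x => LinearEquiv.congr_fun (mul_inv_eq_iff_eq_mul.1 he) x))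

theorem herm_adj (A : Matrix (Fin n) (Fin n) K) (x y : Fin n → K) : (hermF n hK).B ((A.map (conj hK))ᵀ *ᵥ x) y = (hermF n hK).B x (A *ᵥ y) := by
  simp only [hermF_B', mulVec, dotProduct, map_sum, map_mul, Finset.sum_mul, Finset.mul_sum, transpose_apply, map_apply]
  rw [Finset.sum_comm]; simp [mul_assoc, mul_left_comm]

theorem exists_gu {A : GL (Fin n) K} (h : IsConj A.1 ((A.1.map (conj hK))ᵀ)⁻¹) : ∃ B : Cfsg.GU n K q, IsConj A.1 B.1.1 := by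
  obtain ⟨P, h⟩ := h
  obtain ⟨b, h1, h2⟩ := exists_unit_of_adj (a := glEquiv A) (hermF_nondeg n hK) (glEquiv P) fun x y => by
    simp only [glEquiv_apply]
    rw [← herm_adj, mulVec_mulVec, mulVec_mulVec, mul_assoc, h.eq, mul_nonsing_inv_cancel_left]
    rw [det_transpose]; exact (isUnit_iff_isUnit_det _).1 (A.isUnit.map (conj hK).mapMatrix)
  obtain ⟨B, rfl⟩ := glEquiv.surjective b
  exact ⟨⟨B, (mem_GU_iff n hK B).2 h1⟩, isConj_glEquiv.1 h2⟩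

theorem exists_gu_jt (μ : Nat.Partition (Fintype.card (Fin n))) : ∃ B : Cfsg.GU n K q, JT (B.1.1 - 1) μ.parts := by
  obtain ⟨N, h⟩ := exists_of_jt (F := K) _ μ.parts_sum
  obtain ⟨A, hA⟩ := h.nil.isUnit_add_one
  obtain rfl : N = A.1 - 1 := by simp [hA]
  refine (exists_gu hK (A := A) (isConj_sub_one ((h.conj_iff (h.of_rank fun k => ?_)).2 rfl))).imp fun B hB => h.conj (isConj_sub_one_iff.1 hB)
  have : ((A.1.map (conj hK))ᵀ)⁻¹ - 1 = (((-A⁻¹).1 * (A.1 - 1)).map (conj hK))ᵀ := by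
    rw [inv_eq_left_inv (B := (A⁻¹.1.map (conj hK))ᵀ) (by rw [← transpose_mul, ← Matrix.map_mul]; simp)]
    simp [mul_sub, Matrix.map_add, Matrix.map_neg, sub_eq_add_neg, mul_add, add_comm]
  rw [this, ← transpose_pow, rank_transpose, ← RingHom.mapMatrix_apply, ← map_pow, RingHom.mapMatrix_apply, rank_map_conj, Commute.mul_pow (by simp [Commute, SemiconjBy, mul_sub, sub_mul, neg_add_eq_sub]),
    ← Units.val_pow_eq_pow_val, rank_mul_eq_right_of_isUnit_det _ _ ((isUnit_iff_isUnit_det _).1 (Units.isUnit _))]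

theorem su_conj {a b : Cfsg.SU n K q} (h : IsConj a.1.1 b.1.1) (k : ∀ c : Kˣ, (c : K) * conj hK c = 1 → ∃ x ∈ (hermF n hK).isom,
    x * suEquiv n hK a = suEquiv n hK a * x ∧ LinearEquiv.det x = c) : IsConj a b := by
  obtain ⟨e, he⟩ := isConj_iff.1 ((isConj_glEquiv (g := SpecialLinearGroup.toGL a.1) (h := SpecialLinearGroup.toGL b.1)).2 h)
  exact (isConj_congr (suEquiv n hK)).1 ((hermF_nondeg n hK).isConj_sisom (eqv_unit (conj_ne_id hK) (hermF_nondeg n hK) (suEquiv n hK a).2.1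
    (suEquiv n hK b).2.1 (hermF_nondeg n hK) e fun x => LinearEquiv.congr_fun (mul_inv_eq_iff_eq_mul.1 he) x) k)

end mat
end H5
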