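import Cfsg.Agent.H5.Adj

/-!
Involutions of symplectic and orthogonal groups in characteristic two: symmetric forms (`exists_orthonormal`, `sym2_iso`, `bisom`),
the form `β` on `[V, t]` (`IsBet`), conjugacy (`C2.conj_iff`), existence, centraliser orders.
-/

set_option autoImplicit false

namespace H5

open Module Form

universe u v
section sym
variable {F : Type*} [Field F] [Finite F] (h2 : (2 : F) = 0) {V : Type u} [AddCommGroup V] [Module F V] [FiniteDimensional F V]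
  {W : Type v} [AddCommGroup W] [Module F W] [FiniteDimensional F W]

/-- Symmetric and non-degenerate. -/
def SymNd (B : V →ₗ[F] V →ₗ[F] F) : Prop := (∀ x y, B y x = B x y) ∧ ∀ y, (∀ x, B x y = 0) → y = 0

/-- Isometries of a bilinear form. -/
def bisom (B : V →ₗ[F] V →ₗ[F] F) : Subgroup (V ≃ₗ[F] V) where
  carrier := {g | ∀ x y, B (g x) (g y) = B x y}
  one_mem' _ _ := rfl
  mul_mem' ha hb x y := (ha _ _).trans (hb x y)
  inv_mem' {g} h x y := by rw [← h]; simp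

include h2

theorem exists_orthonormal {n : ℕ} {B : V →ₗ[F] V →ₗ[F] F} (hB : SymNd B) (hn : finrank F V = n) (h : n = 0 ∨ ∃ v, B v v ≠ 0) :
    ∃ b : Basis (Fin n) F V, ∀ i j, B (b i) (b j) = if i = j then 1 else 0 := by
  suffices ∃ b : Fin n → V, ∀ i j, B (b i) (b j) = if i = j then 1 else 0 by
    obtain ⟨b, hb⟩ := this
    exact ⟨basisOfLinearIndependentOfCardEqFinrank' b (Fintype.linearIndependent_iff.2 fun g hg i => by
      simpa [hb] using congrArg (B (b i)) hg) (by simp [hn]), by simpa using hb⟩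
  induction n generalizing V with
  | zero => exact ⟨Fin.elim0, fun i => i.elim0⟩
  | succ n ih =>
    obtain ⟨v, hv⟩ := h.resolve_left (by simp)
    obtain ⟨c, hc⟩ := sq_of_two h2 (B v v)⁻¹
    have k : ∀ v, B v v = 1 → SymNd (B.domRestrict₁₂ (LinearMap.ker (B v)) (LinearMap.ker (B v))) ∧ finrank F (LinearMap.ker (B v)) = n := fun v hv =>
      ⟨⟨fun x y => hB.1 _ _, fun y hy => Subtype.ext (hB.2 _ fun x => by
        simpa [show B v y = 0 from y.2] using show B (x - B v x • v) y = 0 from hy ⟨x - B v x • v, by simp [hv]⟩)⟩, by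
        have := Module.Dual.finrank_ker_add_one_of_ne_zero (f := B v) (fun e => by simp [e] at hv); omega⟩
    have h1 : B (c • v) (c • v) = 1 := by simp [← mul_assoc, ← hc, hv]
    generalize c • v = v at h1
    obtain ⟨v, h1, h3⟩ : ∃ v, B v v = 1 ∧ (n = 0 ∨ ∃ w, B v w = 0 ∧ B w w ≠ 0) := by
      by_contra! h3
      obtain ⟨x, x0⟩ := exists_ne_zero_of_pos (F := F) (V := LinearMap.ker (B v)) (by have := (k v h1).2; have := (h3 v h1).1; omega)
      obtain ⟨y, hy⟩ := not_forall.1 (mt ((k v h1).1.2 x) x0)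
      change B y x ≠ 0 at hy
      have hx : B v x = 0 := x.2
      have hy' : B v y = 0 := y.2
      have := (h3 (v + x) (by simp [h1, hx, hB.1 v, (h3 v h1).2 x hx])).2 (B y x • v + y) (by
        simp [h1, hx, hy', hB.1 v, hB.1 y, ← two_mul, h2])
      simp [h1, hy', hB.1 v, (h3 v h1).2 y hy', hy] at this
    obtain ⟨b, hb⟩ := ih (k v h1).1 (k v h1).2 (h3.imp_right fun ⟨w, h, h'⟩ => ⟨⟨w, h⟩, h'⟩)
    have : ∀ i, B v (b i) = 0 := fun i => (b i).2
    refine ⟨Fin.cons v fun i => b i, fun i j => ?_⟩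
    cases i using Fin.cases <;> cases j using Fin.cases <;> simp [h1, this, hB.1 v, Fin.succ_ne_zero, (Fin.succ_ne_zero _).symm]
    exact hb _ _

theorem sym2_iso {B : V →ₗ[F] V →ₗ[F] F} {B' : W →ₗ[F] W →ₗ[F] F} (hB : SymNd B) (hB' : SymNd B') (hn : finrank F V = finrank F W)
    (h : (∀ x, B x x = 0) ↔ ∀ x, B' x x = 0) : ∃ e : V ≃ₗ[F] W, ∀ x y, B' (e x) (e y) = B x y := by
  by_cases k : ∀ x, B x x = 0
  · exact (symp_iso (Φ := ofAlt B k) (Ψ := ofAlt B' (h.1 k)) hB.2 hB'.2 hn).imp fun e h => h.1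
  obtain ⟨b, hb⟩ := exists_orthonormal h2 hB rfl (.inr (not_forall.1 k))
  obtain ⟨b', hb'⟩ := exists_orthonormal h2 hB' hn.symm (.inr (not_forall.1 (mt h.2 k)))
  refine ⟨b.equiv b' (.refl _), fun x y => LinearMap.congr_fun₂ (?_ : B'.compl₁₂ (b.equiv b' (.refl _)).toLinearMap (b.equiv b' (.refl _)).toLinearMap = B) x y⟩
  exact b.ext fun i => b.ext fun j => by simp [hb, hb']

theorem exists_char_vec {B : V →ₗ[F] V →ₗ[F] F} (hB : SymNd B) (h : ∃ v, B v v ≠ 0) :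
    ∃ w, w ≠ 0 ∧ B w w = finrank F V ∧ ∀ x, B x x = B x w ^ 2 := by
  obtain ⟨b, hb⟩ := exists_orthonormal h2 hB rfl (.inr h)
  haveI : CharP F 2 := ringChar.of_eq (ringChar_eq_two h2)
  have k : ∀ x, B x x = B x (∑ i, b i) ^ 2 := fun x => by
    obtain ⟨c, rfl⟩ := b.equivFun.symm.surjective x
    simp [hb, CharTwo.sum_sq]; simp only [sq]
  exact ⟨∑ i, b i, fun e => let ⟨v, h⟩ := h; h (by simp [k, e]), by simp [hb], k⟩

theorem exists_sym_of_dual {l : Dual F V} {z : V} (hz : l z = 1) : ∃ B : V →ₗ[F] V →ₗ[F] F, SymNd B ∧ ∀ x, B x x = l x ^ 2 := by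
  classical
  have s : ⊤ ≤ Submodule.span F {x | l x = 1} := fun x _ => by
    simpa using sub_mem (Submodule.subset_span (s := {x | l x = 1}) (show x + (1 - l x) • z ∈ _ by simp [hz]))
      (Submodule.smul_mem _ (1 - l x) (Submodule.subset_span hz))
  let b := Basis.ofSpan s
  letI := FiniteDimensional.fintypeBasisIndex b
  haveI : CharP F 2 := ringChar.of_eq (ringChar_eq_two h2)
  refine ⟨∑ i, (LinearMap.mul F F).compl₁₂ (b.coord i) (b.coord i), ⟨fun x y => by simp [mul_comm], fun y hy => b.ext_elem fun i => ?_⟩, fun x => ?_⟩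
  · simpa [Finsupp.single_apply] using hy (b i)
  · conv_rhs => rw [← b.sum_repr x, map_sum, CharTwo.sum_sq]
    simp [show ∀ i, l (b i) = 1 from fun i => Basis.ofSpan_subset s ⟨i, rfl⟩, sq]

theorem card_bisom [Fintype F] {q : ℕ} (hF : Fintype.card F = q) {B : V →ₗ[F] V →ₗ[F] F} (hB : SymNd B) {a : ℕ} :
    ((∀ x, B x x = 0) → finrank F V = 2 * a → Nat.card (bisom B) = spOrd q a) ∧
    ((∃ v, B v v ≠ 0) → finrank F V = 2 * a + 2 → Nat.card (bisom B) = q ^ (2 * a + 1) * spOrd q a) ∧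
    (finrank F V = 2 * a + 1 → Nat.card (bisom B) = spOrd q a) := by
  have k : ∀ {w}, (∀ x, B x x = B x w ^ 2) → ∀ g ∈ bisom B, g w = w := fun {w} h g hg => sub_eq_zero.1 (hB.2 _ fun x => by
    obtain ⟨x, rfl⟩ := g.surjective x
    rw [map_sub, hg, ← sq_eq_zero_iff]; linear_combination hg x x - h (g x) + h x + (B x w ^ 2 - B x w * B (g x) w) * h2)
  refine ⟨fun h e => (card_congr_subgroup (by ext; exact (mem_isom_symp (ofAlt B h)).symm)).trans (card_isom_symp hF (Φ := ofAlt B h) hB.2 e),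
    fun h e => ?_, fun e => ?_⟩
  · obtain ⟨w, w0, h1, h3⟩ := exists_char_vec h2 hB h
    replace h1 : B w w = 0 := by rw [h1, e]; simp [h2]
    let Γ := ofAlt (B + (LinearMap.mul F F).compl₁₂ (B w) (B w)) fun x => by simp [h3 x, hB.1 x, sq, ← two_mul, h2]
    have g : ∀ x y, Γ.B x y = B x y + B w x * B w y := fun _ _ => rfl
    have n : Γ.Nondeg := fun y hy => hB.2 y fun x => by
      have a := hy w; have := hy x; rw [g] at a this; simp only [h1, zero_mul, add_zero] at a; simpa [a] using this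
    rw [card_congr_subgroup (B := Γ.isom ⊓ fixSub (F ∙ w)), card_fix_ts (2 * a) _ (fun W _ _ _ Ψ h => card_isom_symp hF h) 1 V Γ n (by omega) _
      (ts_singleton (symp_Q _ _)) (finrank_span_singleton w0), card_ker_symp, Nat.card_eq_fintype_card, hF]
    · ring_nf
    ext t
    simp only [Subgroup.mem_inf, mem_isom_symp, g, mem_fixSub_span, Set.mem_singleton_iff, forall_eq]
    refine ⟨fun ht => ⟨fun x y => ?_, k h3 t ht⟩, fun ht x y => ?_⟩
    · rw [ht, ← ht w x, ← ht w y, k h3 t ht]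
    · have l : ∀ x, B w (t x) = B w x := fun x => by simpa [ht.2, h1] using ht.1 w x
      simpa [l] using ht.1 x y
  obtain ⟨w, w0, h1, h3⟩ := exists_char_vec h2 hB (by
    by_contra! h; obtain ⟨m, h, -⟩ := Nondeg.symp_hasTS (Φ := ofAlt B h) hB.2; omega)
  replace h1 : B w w = 1 := by rw [h1, e]; simp [h2]
  let K := LinearMap.ker (B w)
  have c : IsCompl (F ∙ w) K := ⟨(Submodule.disjoint_span_singleton' w0).2 (by simp [K, h1]) |>.symm, codisjoint_iff_le_sup.2 fun x _ =>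
    Submodule.mem_sup.2 ⟨B w x • w, Submodule.smul_mem _ _ (Submodule.mem_span_singleton_self w), x - B w x • w, by simp [K, h1], by simp⟩⟩
  let Γ := ofAlt (B.domRestrict₁₂ K K) fun x => (h3 x).trans (by rw [hB.1, show B w x = 0 from x.2]; simp)
  have n : Γ.Nondeg := fun y hy => Subtype.ext (hB.2 _ fun x => by
    simpa [show B w y = 0 from y.2] using show B (x - B w x • w) y = 0 from hy ⟨x - B w x • w, by simp [K, h1]⟩)
  rw [← card_isom_symp hF n (m := a) (by have := Submodule.finrank_add_eq_of_isCompl c; rw [finrank_span_singleton w0] at this; omega),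
    ← Subgroup.card_map_of_injective (f := (sumAut c).comp (.inr _ _)) ((sumAut_injective c).comp (Prod.mk_right_injective 1))]
  refine card_congr_subgroup (le_antisymm (fun t ht => ?_) ?_)
  · have l : ∀ x ∈ K, t x ∈ K := fun x hx => (congrArg (B · (t x)) (k h3 t ht).symm).trans ((ht w x).trans hx)
    refine ⟨resAut t K l, (mem_isom_symp _).2 fun x y => ht _ _, LinearEquiv.ext fun x => ?_⟩
    obtain ⟨⟨u, hu⟩, y, rfl⟩ := exists_add_of_isCompl c x
    obtain ⟨d, rfl⟩ := Submodule.mem_span_singleton.1 hu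
    exact (sumAut_apply c _ _ _).trans (by simp [k h3 t ht])
  · rintro _ ⟨t, ht, rfl⟩ x y
    obtain ⟨⟨u, hu⟩, x, rfl⟩ := exists_add_of_isCompl c x
    obtain ⟨⟨u', hu'⟩, y, rfl⟩ := exists_add_of_isCompl c y
    obtain ⟨d, rfl⟩ := Submodule.mem_span_singleton.1 hu
    obtain ⟨d', rfl⟩ := Submodule.mem_span_singleton.1 hu'
    have l : ∀ x : K, B w x = 0 := fun x => x.2
    erw [sumAut_apply, sumAut_apply]
    simpa [l, hB.1 w] using show B (t x) (t y) = B x y from ht.1 x y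

end sym

/-- Characteristic two with trivial involution. -/
structure C2 {F : Type*} [Field F] (κ : Kind F) : Prop where
  two : (2 : F) = 0
  σ : ∀ a, κ.σ a = a

namespace Form
variable {F : Type*} [Field F] {κ : Kind F} {V : Type u} [AddCommGroup V] [Module F V] {Φ : Form κ V} {t s : V ≃ₗ[F] V}

/-- The map `x ↦ t x - x` onto `[V, t]`. -/
abbrev _root_.H5.nu (t : V ≃ₗ[F] V) : V →ₗ[F] mv t := LinearMap.rangeRestrict _

theorem _root_.H5.nu_surj (t : V ≃ₗ[F] V) : Function.Surjective (nu t) := LinearMap.surjective_rangeRestrict _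

variable (Φ t) in
/-- The form on `[V, t]`. -/
def IsBet (β : mv t →ₗ[F] mv t →ₗ[F] F) : Prop := SymNd β ∧ ∀ x w, β (nu t x) w = Φ.B x w

variable (Φ t) in
/-- Involutions of type `a`. -/
def Alt : Prop := ∀ x, Φ.B x (t x) = 0

end Form

namespace C2
variable {F : Type*} [Field F] {κ : Kind F} (c : C2 κ) {V : Type u} [AddCommGroup V] [Module F V] {Φ : Form κ V} {t s : V ≃ₗ[F] V}
include c

theorem ε : κ.ε = 1 := sub_eq_zero.1 (sq_eq_zero_iff.1 (by linear_combination κ.εε + (1 - κ.ε) * c.two))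

theorem symm (x y : V) : Φ.B y x = Φ.B x y := by rw [Φ.B_symm, c.ε, c.σ, one_mul]

theorem self (x : V) : Φ.B x x = 0 := by
  obtain ⟨a, h⟩ := Φ.Q_range x
  rw [Φ.B_self x a h, c.ε, c.σ]; linear_combination a * c.two

theorem add_self (x : V) : x + x = 0 := by rw [← two_smul F, c.two, zero_smul]

theorem quad_iff : mv t ≤ fixSp t ↔ t * t = 1 := by
  refine ⟨fun h => LinearEquiv.ext fun x => ?_, fun h => ?_⟩
  · have : t (t x - x) = t x - x := h ⟨x, rfl⟩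
    rw [map_sub, sub_eq_iff_eq_add] at this
    exact this.trans (by rw [sub_add_eq_add_sub, c.add_self, zero_sub, neg_eq_iff_add_eq_zero]; exact c.add_self x)
  · rintro _ ⟨x, rfl⟩
    change t (t x - x) = t x - x
    rw [map_sub, show t (t x) = x from LinearEquiv.congr_fun h x, ← neg_sub, neg_eq_iff_add_eq_zero, c.add_self]

theorem Q_nu (ht : t ∈ Φ.isom) (x : V) : Φ.Q (t x - x) = κ.π (Φ.B x (t x)) := by
  have := κ.π_norm 1 (Φ.B x (t x))
  rw [Q_sub, ht.2, c.symm]; linear_combination (Φ.Q x - κ.π (Φ.B x (t x))) * c.two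

omit c in
theorem _root_.H5.Form.IsBet.self {β} (h : Φ.IsBet t β) (c : C2 κ) (x : V) : β (nu t x) (nu t x) = Φ.B x (t x) := by simp [h.2, c.self]

omit c in
theorem _root_.H5.Form.IsBet.alt {β} (h : Φ.IsBet t β) (c : C2 κ) : Φ.Alt t ↔ ∀ u, β u u = 0 :=
  ⟨fun k u => by obtain ⟨x, rfl⟩ := nu_surj t u; rw [h.self c, k], fun k x => by rw [← h.self c, k]⟩

variable [FiniteDimensional F V] (hΦ : Φ.Nondeg)
include hΦ

theorem exists_bet (ht : t ∈ Φ.isom) (h : t * t = 1) : ∃ β, Φ.IsBet t β := by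
  obtain ⟨j, hj⟩ := (nu t).exists_rightInverse_of_surjective (LinearMap.range_eq_top.2 (nu_surj t))
  let β : mv t →ₗ[F] mv t →ₗ[F] F := LinearMap.mk₂ F (fun u w => Φ.B (j u) w) (by simp) (by simp) (by simp) (by simp [c.σ])
  have k : ∀ x w, β (nu t x) w = Φ.B x w := fun x w => sub_eq_zero.1 (by
    simpa [β] using (mem_perp _).1 ((hΦ.perp_range_sub ht).ge (show t (j (nu t x) - x) = j (nu t x) - x by
      have := congrArg Subtype.val (LinearMap.congr_fun hj (nu t x))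
      rw [map_sub, sub_eq_sub_iff_sub_eq_sub]; exact this)) w w.2)
  refine ⟨β, ⟨fun u w => ?_, fun w hw => Subtype.ext (hΦ _ fun x => by rw [← k, hw])⟩, k⟩
  obtain ⟨x, rfl⟩ := nu_surj t u
  obtain ⟨y, rfl⟩ := nu_surj t w
  rw [k, k]
  change Φ.B y (t x - x) = Φ.B x (t y - y)
  rw [map_sub, map_sub, ← ht.1 y, show t (t x) = x from LinearEquiv.congr_fun h x, c.symm x, c.symm x]

omit c in
theorem comm_of_bet (hs : s ∈ Φ.isom) {β β'} (h : Φ.IsBet t β) (h' : Φ.IsBet s β') {g : V ≃ₗ[F] V} (hg : g ∈ Φ.isom) (φ : mv t ≃ₗ[F] mv s)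
    (k : ∀ u : mv t, g u = φ u) (l : ∀ x y, β' (φ x) (φ y) = β x y) : g * t = s * g := LinearEquiv.ext fun x => by
  have : φ (nu t x) = nu s (g x) := sub_eq_zero.1 (h'.1.2 _ fun w => by
    obtain ⟨w, rfl⟩ := φ.surjective w
    rw [h'.1.1, map_sub, LinearMap.sub_apply, l, h.2, h'.2, ← k, hg.1, sub_self])
  simpa using (k _).trans (congrArg Subtype.val this)

theorem exists_ext (ht : t ∈ Φ.isom) (hs : s ∈ Φ.isom) (t2 : t * t = 1) (s2 : s * s = 1) {β β'} (h : Φ.IsBet t β) (h' : Φ.IsBet s β')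
    (φ : mv t ≃ₗ[F] mv s) (l : ∀ x y, β' (φ x) (φ y) = β x y) : ∃ g ∈ Φ.isom, ∀ u : mv t, g u = φ u := by
  have k : ∀ {t}, t ∈ Φ.isom → t * t = 1 → ∀ u v : mv t, Φ.B u v = 0 := fun ht t2 u v =>
    (mem_perp _).1 ((hΦ.perp_range_sub ht).ge (c.quad_iff.2 t2 u.2)) _ v.2
  have q : ∀ {t β}, t ∈ Φ.isom → Φ.IsBet t β → ∀ u : mv t, Φ.Q u = κ.π (β u u) := fun {t β} ht h u => by
    obtain ⟨x, rfl⟩ := nu_surj t u; rw [h.self c]; exact c.Q_nu ht x
  exact hΦ.witt' _ ((mv s).subtype ∘ₗ φ) (Subtype.val_injective.comp φ.injective) (fun u v => (k hs s2 _ _).trans (k ht t2 _ _).symm)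
    fun u => (q hs h' _).trans (by erw [l, q ht h])

theorem conj_iff [Finite F] {t s : Φ.isom} (t2 : t.1 * t.1 = 1) (s2 : s.1 * s.1 = 1) :
    IsConj t s ↔ finrank F (mv t.1) = finrank F (mv s.1) ∧ (Φ.Alt t.1 ↔ Φ.Alt s.1) := by
  constructor
  · rw [isConj_iff_eqv]
    rintro ⟨e, h, k⟩
    refine ⟨?_, fun a x => ?_, fun a x => by rw [← h.1, k, a]⟩
    · exact (e.ofSubmodules _ _ (le_antisymm (by rintro _ ⟨_, ⟨x, rfl⟩, rfl⟩; exact ⟨e x, by simp [k]⟩)
        (by rintro _ ⟨x, rfl⟩; obtain ⟨x, rfl⟩ := e.surjective x; exact ⟨_, ⟨x, rfl⟩, by simp [k]⟩))).finrank_eq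
    · obtain ⟨x, rfl⟩ := e.surjective x; rw [← k, h.1, a]
  rintro ⟨h1, h3⟩
  obtain ⟨β, h⟩ := c.exists_bet hΦ t.2 t2
  obtain ⟨β', h'⟩ := c.exists_bet hΦ s.2 s2
  obtain ⟨φ, l⟩ := sym2_iso c.two h.1 h'.1 h1 (by rwa [← h.alt c, ← h'.alt c])
  obtain ⟨g, hg, k⟩ := c.exists_ext hΦ t.2 s.2 t2 s2 h h' φ l
  exact isConj_iff.2 ⟨⟨g, hg⟩, mul_inv_eq_iff_eq_mul.2 (Subtype.ext (comm_of_bet hΦ s.2 h h' hg φ k l))⟩

theorem card_cent {t : Φ.isom} (t2 : t.1 * t.1 = 1) {β} (h : Φ.IsBet t.1 β) :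
    Nat.card (Subgroup.centralizer {t}) = Nat.card (bisom β) * Nat.card ↥(Φ.isom ⊓ fixSub (mv t.1)) := by
  let G := (Subgroup.centralizer {t}).map Φ.isom.subtype
  have m : ∀ g, g ∈ G ↔ g ∈ Φ.isom ∧ g * t = t * g := fun g => ⟨by
    rintro ⟨g, h, rfl⟩; exact ⟨g.2, congrArg Subtype.val (Subgroup.mem_centralizer_singleton_iff.1 h)⟩,
    fun h => ⟨⟨g, h.1⟩, Subgroup.mem_centralizer_singleton_iff.2 (Subtype.ext h.2), rfl⟩⟩
  have n : ∀ g ∈ G, ∀ x, g (nu t.1 x) = nu t.1 (g x) := fun g hg x => by simpa using LinearEquiv.congr_fun ((m g).1 hg).2 x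
  have s : G ≤ stabSub (mv t.1) := fun g hg => mem_stabSub'.2 (by rintro _ ⟨x, rfl⟩; exact ⟨_, (n g hg x).symm⟩)
  rw [← Subgroup.card_map_of_injective Φ.isom.subtype_injective, ← card_congr_subgroup (inf_eq_left.2 s), card_inf_stabSub]
  congr 1 <;> refine card_congr_subgroup (le_antisymm ?_ ?_)
  · rintro _ ⟨g, rfl⟩ x y
    obtain ⟨x, rfl⟩ := nu_surj _ x
    rw [show resHom G _ g (nu t.1 x) = nu t.1 (g.1 x) from Subtype.ext (n g g.2.1 x), h.2, h.2]; exact ((m g).1 g.2.1).1.1 x y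
  · intro φ l
    obtain ⟨g, hg, k⟩ := c.exists_ext hΦ t.2 t.2 t2 t2 h h φ l
    have := (m g).2 ⟨hg, comm_of_bet hΦ t.2 h h hg φ k l⟩
    exact ⟨⟨g, this, s this⟩, LinearEquiv.ext fun u => Subtype.ext (k u)⟩
  · exact inf_le_inf_right _ fun g hg => ((m g).1 hg).1
  · exact fun g hg => ⟨(m g).2 ⟨hg.1, comm_of_bet hΦ t.2 h h hg.1 (.refl _ _) (fun u => hg.2 u u.2) fun _ _ => rfl⟩, hg.2⟩

theorem exists_inv {U : Submodule F V} (hU : U ≤ Φ.perp U) {β : U →ₗ[F] U →ₗ[F] F} (hβ : SymNd β) (hQ : ∀ u : U, Φ.Q u = κ.π (β u u)) :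
    ∃ t ∈ Φ.isom, t * t = 1 ∧ mv t = U ∧ (Φ.Alt t ↔ ∀ u, β u u = 0) := by
  have i : Function.Injective β := (injective_iff_map_eq_zero _).2 fun y hy => hβ.2 y fun x => by simp [hβ.1 y, hy]
  let N : V →ₗ[F] U := (LinearMap.linearEquivOfInjective β i Subspace.dual_finrank_eq.symm).symm ∘ₗ
    LinearMap.mk₂ F (fun x (w : U) => Φ.B x w) (by simp) (by simp) (by simp) (by simp [c.σ])
  have k : ∀ x w, β (N x) w = Φ.B x w := fun x => LinearMap.congr_fun ((LinearMap.linearEquivOfInjective β i Subspace.dual_finrank_eq.symm).apply_symm_apply _)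
  have o : ∀ u w : U, Φ.B u w = 0 := fun u w => (mem_perp _).1 (hU u.2) _ w.2
  have n : ∀ u : U, N u = 0 := fun u => i (LinearMap.ext fun w => by simp [k, o])
  have s : Function.Surjective N := fun u => by
    obtain ⟨φ, h⟩ := (β u).exists_extend
    obtain ⟨v, hv⟩ := hΦ.exists_rep φ
    exact ⟨v, i (LinearMap.ext fun w => by rw [k, c.symm, hv, ← h]; rfl)⟩
  have v : Function.Involutive (LinearMap.id + U.subtype ∘ₗ N : V →ₗ[F] V) := fun x => by simp [n, add_assoc, c.add_self]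
  let t := LinearEquiv.ofInvolutive _ v
  have e : ∀ x, t x = x + N x := fun _ => rfl
  refine ⟨t, ⟨fun x y => ?_, fun x => ?_⟩, LinearEquiv.ext v, le_antisymm (by rintro _ ⟨x, rfl⟩; simp [e]) fun u hu => ?_, fun a u => ?_, fun a x => ?_⟩
  · simp only [e, map_add, LinearMap.add_apply, o, c.symm y, ← k, hβ.1 (N x)]; linear_combination β (N x) (N y) * c.two
  · rw [e, Q_add, hQ, k]; linear_combination κ.π (Φ.B x (N x)) * c.two
  · obtain ⟨x, h⟩ := s ⟨u, hu⟩; exact ⟨x, by simp [e, h]⟩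
  · obtain ⟨x, rfl⟩ := s u; simpa [e, c.self, k] using a x
  · simp [e, c.self, ← k, a]

theorem alt_iff_ts (ht : t ∈ Φ.isom) (t2 : t * t = 1) (h : Φ.Alt t) : Φ.TS (mv t) ∧ Even (finrank F (mv t)) := by
  obtain ⟨β, hb⟩ := c.exists_bet hΦ ht t2
  obtain ⟨m, e, -⟩ := Nondeg.symp_hasTS (Φ := ofAlt β ((hb.alt c).1 h)) hb.1.2
  exact ⟨⟨by rintro _ ⟨x, rfl⟩; exact (c.Q_nu ht x).trans (by rw [h, map_zero]),
    fun u hu => (mem_perp _).1 ((hΦ.perp_range_sub ht).ge (c.quad_iff.2 t2 hu))⟩, m, by omega⟩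

theorem two_mul_le (ht : t ∈ Φ.isom) (t2 : t * t = 1) : 2 * finrank F (mv t) ≤ finrank F V := by
  have := hΦ.finrank_perp (mv t)
  have : _ ≤ finrank F (Φ.perp (mv t)) := Submodule.finrank_mono ((c.quad_iff.2 t2).trans (hΦ.perp_range_sub ht).ge)
  omega

theorem exists_alt {U : Submodule F V} (hU : Φ.TS U) (h : Even (finrank F U)) : ∃ t ∈ Φ.isom, t * t = 1 ∧ mv t = U ∧ Φ.Alt t := by
  obtain ⟨k, h⟩ := h
  let e : U ≃ₗ[F] (Fin k ⊕ Fin k → F) := .ofFinrankEq _ _ (by simpa)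
  let Ψ := (sympF F k).comap e.toLinearMap
  have a : ∀ x, Ψ.B x x = 0 := symp_self Ψ
  obtain ⟨t, h1, h2, h3, h4⟩ := c.exists_inv hΦ hU.le_perp (β := Ψ.B) ⟨fun x y => (symp_symm Ψ x y).trans (by linear_combination -Ψ.B x y * c.two),
    fun y hy => e.map_eq_zero_iff.1 (sympF_nondeg k _ fun x => by simpa using show (sympF F k).B (e (e.symm x)) (e y) = 0 from hy (e.symm x))⟩ fun u => (hU.1 u u.2).trans (by erw [a, map_zero])
  exact ⟨t, h1, h2, h3, h4.2 a⟩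

theorem exists_nalt [Finite F] {T : Submodule F V} (hT : Φ.TS T) {u : V} (h1 : u ∈ Φ.perp T) (h2 : u ∉ T) (h3 : Φ.Q u = κ.π 1) :
    ∃ t ∈ Φ.isom, t * t = 1 ∧ finrank F (mv t) = finrank F T + 1 ∧ ¬ Φ.Alt t := by
  obtain ⟨l, l1, l2⟩ := exists_dual h2
  have hu : u ∈ T ⊔ F ∙ u := Submodule.mem_sup_right (Submodule.mem_span_singleton_self u)
  obtain ⟨β, b1, b2⟩ := exists_sym_of_dual c.two (l := l.domRestrict (T ⊔ F ∙ u)) (z := ⟨u, hu⟩) l1
  obtain ⟨t, k1, k2, k3, k4⟩ := c.exists_inv hΦ (by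
    rw [perp_sup]
    exact sup_le (le_inf hT.le_perp ((le_perp_comm _).2 ((Submodule.span_singleton_le_iff_mem _ _).2 h1)))
      ((Submodule.span_singleton_le_iff_mem _ _).2 ⟨h1, (mem_perp_singleton _).2 (c.self u)⟩)) b1 (fun ⟨x, hx⟩ => by
    obtain ⟨y, hy, _, h, rfl⟩ := Submodule.mem_sup.1 hx
    obtain ⟨d, rfl⟩ := Submodule.mem_span_singleton.1 h
    rw [b2, Q_add_of_perp _ (by simp [(mem_perp' _).1 h1 y hy]), hT.1 y hy, Q_smul, h3, ← κ.π_norm]; simp [l1, l2 y hy, c.σ, sq])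
  exact ⟨t, k1, k2, by rw [k3, Submodule.finrank_sup_span_singleton h2], fun a => by simpa [b2, l1] using k4.1 a ⟨u, hu⟩⟩

theorem card_classes [Finite F] {G X : Type*} [Group G] (φ : G →* (V ≃ₗ[F] V)) (hφ : Function.Injective φ) (R : (V ≃ₗ[F] V) → X → Prop)
    (h1 : ∀ g, φ g * φ g = 1 ∧ finrank F (mv (φ g)) ≠ 0 ↔ ∃ x, R (φ g) x) (h2 : ∀ x, ∃ g, R (φ g) x)
    (h3 : ∀ g g' x x', R (φ g) x → R (φ g') x' → (IsConj g g' ↔ x = x')) :
    Nat.card {c : ConjClasses G // ∃ g, ConjClasses.mk g = c ∧ orderOf g = 2} = Nat.card X := by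
  refine H5.card_classes (fun g => R (φ g)) (fun g => ?_) h2 h3
  rw [← h1, orderOf_eq_prime_iff, sq, ← hφ.eq_iff, Ne, ← hφ.eq_iff, map_mul, map_one, Ne, Submodule.finrank_eq_zero, LinearMap.range_eq_bot, sub_eq_zero]
  exact and_congr_right' (not_congr LinearEquiv.toLinearMap_inj.symm)

theorem card_inv_isom [Finite F] {m w : ℕ} (hm : finrank F V = 2 * m) (h1 : Φ.HasTS w) (h2 : ¬ Φ.HasTS (w + 1))
    (h3 : ∀ k < m, ∃ t ∈ Φ.isom, t * t = 1 ∧ finrank F (mv t) = k + 1 ∧ ¬ Φ.Alt t) :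
    Nat.card {c : ConjClasses Φ.isom // ∃ g, ConjClasses.mk g = c ∧ orderOf g = 2} = m + w / 2 := by
  rw [c.card_classes hΦ Φ.isom.subtype Subtype.val_injective (X := Fin m ⊕ Fin (w / 2)) fun t x => t * t = 1 ∧
    x.elim (fun i => finrank F (mv t) = i.1 + 1 ∧ ¬ Φ.Alt t) fun i => finrank F (mv t) = 2 * i.1 + 2 ∧ Φ.Alt t]
  · simp
  · refine fun g => ⟨fun ⟨a, b⟩ => ?_, by rintro ⟨_ | _, a, b, -⟩ <;> exact ⟨a, by omega⟩⟩
    have := c.two_mul_le hΦ g.2 a
    change finrank F (mv g.1) ≠ 0 at b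
    by_cases k : Φ.Alt g.1
    · obtain ⟨l, d, e⟩ := c.alt_iff_ts hΦ g.2 a k
      have : finrank F (mv g.1) ≤ w := not_lt.1 fun h => h2 (HasTS.mono ⟨_, rfl, l⟩ h)
      exact ⟨.inr ⟨d - 1, by omega⟩, a, e.trans (by simp only; omega), k⟩
    · exact ⟨.inl ⟨finrank F (mv g.1) - 1, by omega⟩, a, (Nat.sub_add_cancel (Nat.pos_of_ne_zero b)).symm, k⟩
  · rintro (i | i)
    · obtain ⟨t, a, b⟩ := h3 i i.2; exact ⟨⟨t, a⟩, b⟩
    · obtain ⟨U, e, hU⟩ := h1.mono (show 2 * i + 2 ≤ w by omega)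
      obtain ⟨t, a, b, rfl, d⟩ := c.exists_alt hΦ hU ⟨i + 1, by omega⟩
      exact ⟨⟨t, a⟩, b, e, d⟩
  rintro g g' (i | i) (j | j) ⟨a, b, d⟩ ⟨a', b', d'⟩ <;> rw [c.conj_iff hΦ a a'] <;> erw [b, b'] <;> simp only [Subgroup.subtype_apply] at * <;>
    simp [d, d', Fin.ext_iff]

end C2

end H5
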