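import Cfsg.Agent.H5.Inv2

/-!
Involutions in characteristic two, part 2: pointwise stabilisers (`card_fix_vec`), classes and centralisers in `Ω`.
-/

set_option autoImplicit false

namespace H5

open Module Form

universe u v

theorem card_classes_congr {G H : Type*} [Group G] [Group H] (e : G ≃* H) (n : ℕ) :
    Nat.card {c : ConjClasses G // ∃ g, ConjClasses.mk g = c ∧ orderOf g = n} = Nat.card {c : ConjClasses H // ∃ g, ConjClasses.mk g = c ∧ orderOf g = n} := by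
  refine card_classes (fun g x => ConjClasses.mk (e g) = x.1) (fun g => ⟨fun h => ⟨⟨_, e g, rfl, by simpa⟩, rfl⟩, ?_⟩) ?_ fun g g' x x' h h' => ?_
  · rintro ⟨⟨_, h, rfl, k⟩, l⟩
    obtain ⟨c, rfl⟩ := isConj_iff.1 (ConjClasses.mk_eq_mk_iff_isConj.1 l)
    simpa using ((MulAut.conj c).orderOf_eq (e g)).symm.trans k
  · rintro ⟨_, h, rfl, k⟩; exact ⟨e.symm h, by simp⟩
  · rw [Subtype.ext_iff, ← h, ← h', ConjClasses.mk_eq_mk_iff_isConj, isConj_congr]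

theorem card_centralizer_congr {G H : Type*} [Group G] [Group H] (e : G ≃* H) (g : G) :
    Nat.card (Subgroup.centralizer {g}) = Nat.card (Subgroup.centralizer {e g}) :=
  Nat.card_congr (subEquiv e _ _ fun x => by simp only [Subgroup.mem_centralizer_singleton_iff, ← map_mul, e.apply_eq_iff_eq]).toEquiv

namespace Form
variable {F : Type*} [Field F]

theorem c2_symp (h : (2 : F) = 0) : C2 (.symp F) := ⟨h, fun _ => rfl⟩
theorem c2_orth (h : (2 : F) = 0) : C2 (.orth F) := ⟨h, fun _ => rfl⟩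

theorem card_fix_vec [Finite F] {κ : Kind F} (d N l x : ℕ) (c : F) (hN : ∀ (W : Type u) [AddCommGroup W] [Module F W] [FiniteDimensional F W]
      (Ψ : Form κ W) (u : W), Ψ.Nondeg → finrank F W = d → Ψ.HasTS l → Ψ.Q u = c → finrank F (F ∙ u) = x → Nat.card ↥(Ψ.isom ⊓ fixSub (F ∙ u)) = N)
    (k : ℕ) (V : Type u) [AddCommGroup V] [Module F V] [FiniteDimensional F V] (Φ : Form κ V) (hΦ : Φ.Nondeg) (hV : finrank F V = 2 * k + d)
    (hl : Φ.HasTS (k + l)) (T : Submodule F V) (hT : Φ.TS T) (hk : finrank F T = k) (u : V) (h1 : u ∈ Φ.perp T) (h2 : Disjoint T (F ∙ u))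
    (h3 : Φ.Q u = c) (h4 : finrank F (F ∙ u) = x) (hx : x ≤ d) :
    Nat.card ↥(Φ.isom ⊓ fixSub (T ⊔ F ∙ u)) = Nat.card F ^ (k * (d - x) + k * (k - 1) / 2) * Nat.card κ.π.ker ^ k * N := by
  induction k generalizing V with
  | zero => rw [Submodule.finrank_eq_zero.1 hk, bot_sup_eq, hN V Φ u hΦ (by omega) (by simpa using hl) h3 h4]; simp
  | succ k ih =>
    obtain ⟨H, e, a, rfl, b⟩ := exists_hyperplane hk
    have he : e ∈ H ⊔ F ∙ e := Submodule.mem_sup_right (Submodule.mem_span_singleton_self e)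
    have ue := (mem_perp _).1 h1 e he
    obtain ⟨f, f1, f2, f3⟩ := hΦ.exists_partner (H := H ⊔ F ∙ u) (hT.1 e he) (fun h => by
      obtain ⟨y, hy, z, hz, h⟩ := Submodule.mem_sup.1 h
      rw [Submodule.disjoint_def.1 h2 z (eq_sub_of_add_eq' h ▸ sub_mem he (Submodule.mem_sup_left hy)) hz, add_zero] at h
      exact a (h ▸ hy)) ((mem_perp' _).1 (perp_sup Φ _ _ ▸ ⟨hT.le_perp.trans (perp_anti _ le_sup_left) he,
        (mem_perp_singleton _).2 (Φ.B_zero_symm ue)⟩))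
    have y : Φ.Hyp e f := ⟨hT.1 e he, f1, f2⟩
    have p : H ⊔ F ∙ u ≤ Φ.perp (Submodule.span F {e, f}) := fun z hz => (mem_perp_pair _).2 ⟨by
      obtain ⟨y, hy, _, h, rfl⟩ := Submodule.mem_sup.1 hz
      obtain ⟨d, rfl⟩ := Submodule.mem_span_singleton.1 h
      simp [ue, hT.2 y (Submodule.mem_sup_left hy) e he], f3 z hz⟩
    have h7 := y.finrank_perp hΦ
    let u' : Φ.perp (Submodule.span F {e, f}) := ⟨u, p (Submodule.mem_sup_right (Submodule.mem_span_singleton_self u))⟩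
    have m : (F ∙ u').map (Submodule.subtype _) = F ∙ u := by simp [Submodule.map_span, u']
    have r := Submodule.finrank_sup_add_finrank_inf_eq H (F ∙ u)
    rw [(h2.mono_left le_sup_left).eq_bot, finrank_bot] at r
    rw [sup_right_comm, y.card_fix hΦ _ p, show Submodule.comap _ (H ⊔ F ∙ u) = H.comap (Submodule.subtype _) ⊔ F ∙ u' from
      Submodule.map_injective_of_injective (Submodule.injective_subtype _) (by
        rw [Submodule.map_sup, m, Submodule.map_comap_subtype, Submodule.map_comap_subtype, inf_eq_right.2 p, inf_eq_right.2 (le_sup_left.trans p)]),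
      ih _ _ (y.perp_nondeg hΦ) (by omega) ((y.hasTS_succ_iff hΦ _).1 (by rwa [add_right_comm] at hl)) _
      ((hT.mono le_sup_left).comap_subtype _) (by rw [(Submodule.comapSubtypeEquivOfLe (le_sup_left.trans p)).finrank_eq, b]) u'
      (fun w hw => h1 w (Submodule.mem_sup_left hw)) (Submodule.disjoint_def.2 fun z hz hz' => Subtype.ext (Submodule.disjoint_def.1 h2 z
        (Submodule.mem_sup_left hz) (m ▸ Submodule.mem_map_of_mem hz'))) h3 (by rw [← h4, ← m, Submodule.finrank_map_subtype_eq])]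
    have e1 : finrank F V - 2 - finrank F ↥(H ⊔ F ∙ u) = k + (d - x) := by omega
    have e2 : (k + 1) * (d - x) + (k + 1) * (k + 1 - 1) / 2 = (k + (d - x)) + (k * (d - x) + k * (k - 1) / 2) := by
      rw [Nat.triangle_succ]; ring
    rw [e1, e2]; ring

variable {V : Type u} [AddCommGroup V] [Module F V] [FiniteDimensional F V]

theorem Nondeg.symp_nalt [Finite F] {Φ : Form (.symp F) V} (hΦ : Φ.Nondeg) (h2 : (2 : F) = 0) {m : ℕ} (hm : finrank F V = 2 * m) (k : ℕ) (hk : k < m) :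
    ∃ t ∈ Φ.isom, t * t = 1 ∧ finrank F (mv t) = k + 1 ∧ ¬ Φ.Alt t := by
  obtain ⟨_, e, h⟩ := hΦ.symp_hasTS
  obtain ⟨T, rfl, h⟩ := h.mono (show k ≤ _ by omega)
  obtain ⟨u, a, b⟩ := SetLike.not_le_iff_exists.1 fun l : Φ.perp T ≤ T => by
    have := Submodule.finrank_mono l; have := hΦ.finrank_perp T; omega
  exact (c2_symp h2).exists_nalt hΦ h a b (symp_Q _ _)

variable {Φ : Form (.orth F) V} (hΦ : Φ.Nondeg) (h2 : (2 : F) = 0) {t s : V ≃ₗ[F] V}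
include hΦ

theorem Nondeg.numQ_plus [Fintype F] {q : ℕ} (hF : Fintype.card F = q) {m : ℕ} (h : finrank F V = 2 * m) (ht : Φ.HasTS m) {c : F} (hc : c ≠ 0) :
    (q * Φ.numQ c : ℤ) = q ^ (2 * m) - q ^ m := by
  classical
  induction m generalizing V with
  | zero => rw [numQ_zero_dim h]; simp [hc]
  | succ m ih =>
    obtain ⟨e, f, hef, h2⟩ := hΦ.exists_hyp_hasTS ht
    have h3 := hef.finrank_perp hΦ
    have := ih (hef.perp_nondeg hΦ) (by omega) h2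
    rw [hef.numQ_eq (c := c) ⟨c, rfl⟩, card_ker_orth, Nat.card_eq_fintype_card, hF, show finrank F (Φ.perp _) = 2 * m by omega]
    push_cast [Nat.cast_sub (hF ▸ Fintype.card_pos : 1 ≤ q)]
    linear_combination (q : ℤ) * this

theorem Nondeg.card_fix_plus [Fintype F] {q : ℕ} (hF : Fintype.card F = q) {m : ℕ} (h : finrank F V = 2 * (m + 1)) (ht : Φ.HasTS (m + 1)) {u : V}
    (hu : Φ.Q u ≠ 0) : Nat.card ↥(Φ.isom ⊓ fixSub (F ∙ u)) = 2 * spOrd q m := by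
  have a := hΦ.card_isom_eq_numQ hu
  have b := hΦ.numQ_plus hF h ht hu
  have q1 : 1 < q := hF ▸ Fintype.one_lt_card
  have : Φ.numQ (Φ.Q u) = q ^ m * (q ^ (m + 1) - 1) := by
    zify [Nat.one_le_pow (m + 1) q q1.le]; exact mul_left_cancel₀ (a := (q : ℤ)) (by omega) (by linear_combination b)
  rw [card_isom_plus hF hΦ h ht, this] at a
  refine Nat.eq_of_mul_eq_mul_left (Nat.mul_pos (pow_pos q1.le m) (Nat.sub_pos_of_lt (one_lt_pow₀ q1 m.succ_ne_zero))) (a.symm.trans ?_)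
  rw [spOrd]; ring

theorem Nondeg.RG_of_not (h : ¬ Φ.HasTS 2) : Φ.RG = Φ.isom := by
  refine le_antisymm RG_le_isom (hΦ.isom_le_of_gen RG_le_isom refl_mem_RG fun _ _ _ _ _ _ =>
    hΦ.EG_le_of_perp (EIn_orth_zero _) (fun e f w hef he hf => ?_) (eich_mem_EG _ _ _))
  by_cases hw : Φ.Q w = 0
  · by_cases w0 : w = 0
    · exact w0 ▸ EIn_orth_zero _ e
    exact (h ((hef.hasTS_succ_iff hΦ 1).2 (hasTS_one_iff.2 fun a => w0 (congrArg Subtype.val (a ⟨w, (mem_perp_pair _).2 ⟨he, hf⟩⟩ hw))))).elim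
  · intro a hu hv ha; rw [eich_eq_rr _ _ _ hw]; exact mul_mem (Φ.r_mem_RG _) (Φ.r_mem_RG _)

include h2

theorem Nondeg.orth_nalt [Finite F] {m : ℕ} (hm : finrank F V = 2 * m) (h : Φ.HasTS (m - 1)) (k : ℕ) (hk : k < m) :
    ∃ t ∈ Φ.isom, t * t = 1 ∧ finrank F (mv t) = k + 1 ∧ ¬ Φ.Alt t := by
  obtain ⟨T, rfl, h⟩ := h.mono (show k ≤ _ by omega)
  obtain ⟨u, a, b⟩ : ∃ u ∈ Φ.perp T, Φ.Q u ≠ 0 := by
    by_contra! l; have := (orth_ts.2 l).two_mul_le hΦ; have := hΦ.finrank_perp T; omega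
  obtain ⟨d, e⟩ := sq_of_two h2 (Φ.Q u)⁻¹
  have : Φ.Q (d • u) = 1 := by rw [orth_smul, ← e, inv_mul_cancel₀ b]
  exact (c2_orth h2).exists_nalt hΦ h (Submodule.smul_mem _ d a) (fun l => by simp [h.1 _ l] at this) this

theorem Nondeg.exists_refl_comm (ht : t ∈ Φ.isom) (t2 : t * t = 1) (h : ¬ (2 * finrank F (mv t) = finrank F V ∧ Φ.Alt t)) :
    ∃ r ∈ Φ.RG, dick r = -1 ∧ r * t = t * r := by
  obtain ⟨u, a, b⟩ : ∃ u ∈ fixSp t, Φ.Q u ≠ 0 := by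
    by_contra! l
    have := (orth_ts.2 l).two_mul_le hΦ; have := (c2_orth h2).two_mul_le hΦ ht t2
    have e := hΦ.finrank_perp (mv t); rw [hΦ.perp_range_sub ht] at e
    exact h ⟨by omega, fun x => ((c2_orth h2).Q_nu ht x).symm.trans (l _ ((c2_orth h2).quad_iff.2 t2 ⟨x, rfl⟩))⟩
  exact ⟨_, Φ.r_mem_RG u, hΦ.dick_r b, (mul_inv_eq_iff_eq_mul.1 ((conj_r ht u).trans (congrArg _ a))).symm⟩

variable [Finite F] (hR : Φ.RG = Φ.isom)
include hR

theorem Nondeg.conj_Om {t s : Φ.isom} (t2 : t.1 * t.1 = 1) (h : ¬ (2 * finrank F (mv t.1) = finrank F V ∧ Φ.Alt t.1)) (k : IsConj t s) :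
    ∃ g ∈ Φ.Om, g * t * g⁻¹ = s := by
  obtain ⟨g, e⟩ := isConj_iff.1 k
  replace e := congrArg Subtype.val e
  obtain ⟨r, r1, r2, r3⟩ := hΦ.exists_refl_comm h2 t.2 t2 h
  have m := fun g => hΦ.mem_Om_iff_even hR (sq_of_two h2) (g := g)
  rcases Int.units_eq_one_or (dick g.1) with d | d
  · exact ⟨g, (m _ g.2).2 d, e⟩
  · exact ⟨g * r, (m _ (mul_mem g.2 (hR.le r1))).2 (by simp [hΦ.dick_mul (hR.ge g.2) (hR.le r1), d, r2]), by
      rw [mul_assoc g.1, r3, ← e]; simp [mul_assoc]⟩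

theorem Nondeg.card_cent_Om {t : Φ.isom} (t2 : t.1 * t.1 = 1) (h : ¬ (2 * finrank F (mv t.1) = finrank F V ∧ Φ.Alt t.1)) :
    2 * Nat.card {g : Φ.Om // g * t.1 = t * g} = Nat.card (Subgroup.centralizer {t}) := by
  obtain ⟨r, r1, r2, r3⟩ := hΦ.exists_refl_comm h2 t.2 t2 h
  let φ := (hΦ.dickHom hR).comp (Subgroup.centralizer {t}).subtype
  rw [← φ.ker.index_mul_card, Subgroup.index_ker, MonoidHom.range_eq_top.2 fun x => ?_]
  · refine congrArg₂ _ (by simp) (Nat.card_congr ⟨fun g => ⟨⟨⟨g.1, Om_le_isom g.1.2⟩, Subgroup.mem_centralizer_singleton_iff.2 (Subtype.ext g.2)⟩,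
      hΦ.dick_of_mem_Om hR g.1.2⟩, fun g => ⟨⟨g.1.1, (hΦ.mem_Om_iff_even hR (sq_of_two h2) g.1.1.2).2 g.2⟩,
      congrArg Subtype.val (Subgroup.mem_centralizer_singleton_iff.1 g.1.2)⟩, fun _ => rfl, fun _ => rfl⟩)
  rcases Int.units_eq_one_or x with rfl | rfl
  exacts [⟨1, map_one _⟩, ⟨⟨⟨r, hR.le r1⟩, Subgroup.mem_centralizer_singleton_iff.2 (Subtype.ext r3)⟩, r2⟩]

theorem Nondeg.conj_Om_iff {t s : Φ.Om} (t2 : t.1 * t.1 = 1) (s2 : s.1 * s.1 = 1) (h : ¬ (2 * finrank F (mv t.1) = finrank F V ∧ Φ.Alt t.1)) :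
    IsConj t s ↔ finrank F (mv t.1) = finrank F (mv s.1) ∧ (Φ.Alt t.1 ↔ Φ.Alt s.1) := by
  rw [← (c2_orth h2).conj_iff hΦ (t := ⟨t, Om_le_isom t.2⟩) (s := ⟨s, Om_le_isom s.2⟩) t2 s2]
  exact ⟨(Subgroup.inclusion Om_le_isom).map_isConj, fun k =>
    let ⟨g, a, b⟩ := hΦ.conj_Om h2 hR (t := ⟨t, Om_le_isom t.2⟩) (s := ⟨s, Om_le_isom s.2⟩) t2 h k; isConj_iff.2 ⟨⟨g, a⟩, Subtype.ext b⟩⟩

theorem Nondeg.mem_Om_rank (ht : t ∈ Φ.isom) : t ∈ Φ.Om ↔ Even (finrank F (mv t)) :=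
  (hΦ.mem_Om_iff_even hR (sq_of_two h2) ht).trans (by letI := Fintype.ofFinite F; exact dick_eq_one_iff_rank t)

theorem Nondeg.card_inv_minus {m : ℕ} (hm : finrank F V = 2 * m + 2) (h1 : Φ.HasTS m) (h3 : ¬ Φ.HasTS (m + 1)) :
    Nat.card {c : ConjClasses Φ.Om // ∃ g, ConjClasses.mk g = c ∧ orderOf g = 2} = (m + 1) / 2 + m / 2 := by
  have c := c2_orth h2
  have l : ∀ t ∈ Φ.isom, t * t = 1 → Φ.Alt t → finrank F (mv t) ≤ m := fun t ht a k =>
    not_lt.1 fun h => h3 (HasTS.mono ⟨_, rfl, (c.alt_iff_ts hΦ ht a k).1⟩ h)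
  rw [c.card_classes hΦ Φ.Om.subtype Subtype.val_injective (X := Fin ((m + 1) / 2) ⊕ Fin (m / 2)) fun t x => t * t = 1 ∧
    x.elim (fun i => finrank F (mv t) = 2 * i.1 + 2 ∧ ¬ Φ.Alt t) fun i => finrank F (mv t) = 2 * i.1 + 2 ∧ Φ.Alt t]
  · simp
  · refine fun g => ⟨fun ⟨a, b⟩ => ?_, by rintro ⟨_ | _, a, b, -⟩ <;> exact ⟨a, by omega⟩⟩
    have := c.two_mul_le hΦ (Om_le_isom g.2) a
    change finrank F (mv g.1) ≠ 0 at b
    obtain ⟨d, e⟩ := (hΦ.mem_Om_rank h2 hR (Om_le_isom g.2)).1 g.2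
    by_cases k : Φ.Alt g.1
    · have := l _ (Om_le_isom g.2) a k
      exact ⟨.inr ⟨d - 1, by omega⟩, a, e.trans (by simp only; omega), k⟩
    · exact ⟨.inl ⟨d - 1, by omega⟩, a, e.trans (by simp only; omega), k⟩
  · rintro (i | i)
    · obtain ⟨t, a, b⟩ := hΦ.orth_nalt h2 (m := m + 1) hm h1 (2 * i + 1) (by omega)
      exact ⟨⟨t, (hΦ.mem_Om_rank h2 hR a).2 ⟨i + 1, by omega⟩⟩, b⟩
    · obtain ⟨U, e, hU⟩ := h1.mono (show 2 * i + 2 ≤ m by omega)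
      obtain ⟨t, a, b, rfl, d⟩ := c.exists_alt hΦ hU ⟨i + 1, by omega⟩
      exact ⟨⟨t, (hΦ.mem_Om_rank h2 hR a).2 ⟨i + 1, by omega⟩⟩, b, e, d⟩
  rintro g g' (i | i) (j | j) ⟨a, b, d⟩ ⟨a', b', d'⟩ <;>
    rw [hΦ.conj_Om_iff h2 hR a a' fun k => by have := l _ (Om_le_isom g.2) a k.2; omega] <;> erw [b, b'] <;>
    simp only [Subgroup.subtype_apply] at * <;> simp [d, d', Fin.ext_iff]

end Form

namespace Form
variable {F : Type*} [Field F] [Fintype F] {V : Type u} [AddCommGroup V] [Module F V] [FiniteDimensional F V] {Φ : Form (.orth F) V}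

theorem OGood.mem_Om_top (h : Φ.OGood) (h2 : (2 : F) = 0) {U : Submodule F V} (hU : Φ.TS U) (eU : 2 * finrank F U = finrank F V) {t s g : V ≃ₗ[F] V}
    (ht : Φ.TS (mv t)) (et : 2 * finrank F (mv t) = finrank F V) (hg : g ∈ Φ.isom) (e : g * t * g⁻¹ = s) :
    g ∈ Φ.Om ↔ (Even (finrank F U - finrank F ↥(U ⊓ mv t)) ↔ Even (finrank F U - finrank F ↥(U ⊓ mv s))) := by
  obtain ⟨x, hx, k⟩ := h.nd.ts_conj' hU ht (by omega)
  rw [← h.dick_eq_one_iff hU eU hx k, ← h.dick_eq_one_iff hU eU (mul_mem hg hx), h.nd.dick_mul (h.RG.ge hg) hx, h.mem_Om_two h2 hg]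
  · rcases Int.units_eq_one_or (dick g) with a | a <;> rcases Int.units_eq_one_or (dick x) with b | b <;> simp [a, b]
  erw [Submodule.map_comp x.toLinearMap g.toLinearMap, k, ← e]
  exact le_antisymm (by rintro _ ⟨_, ⟨x, rfl⟩, rfl⟩; exact ⟨g x, by simp⟩) (by rintro _ ⟨x, rfl⟩; exact ⟨_, ⟨g.symm x, rfl⟩, by simp⟩)

theorem OGood.conj_top (h : Φ.OGood) (h2 : (2 : F) = 0) {U : Submodule F V} (hU : Φ.TS U) (eU : 2 * finrank F U = finrank F V) {t s : Φ.isom}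
    (t2 : t.1 * t.1 = 1) (ht : Φ.Alt t.1) (et : 2 * finrank F (mv t.1) = finrank F V) (k : IsConj t s) : (∃ g ∈ Φ.Om, g * t * g⁻¹ = s) ↔
      (Even (finrank F U - finrank F ↥(U ⊓ mv t.1)) ↔ Even (finrank F U - finrank F ↥(U ⊓ mv s.1))) := by
  have a := fun g => h.mem_Om_top h2 hU eU ((c2_orth h2).alt_iff_ts h.nd t.2 t2 ht).1 et (g := g) (s := s)
  obtain ⟨g, e⟩ := isConj_iff.1 k
  exact ⟨fun ⟨g, b, e⟩ => (a g (Om_le_isom b) e).1 b, fun b => ⟨g, (a g g.2 (congrArg Subtype.val e)).2 b, congrArg Subtype.val e⟩⟩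

theorem OGood.card_inv_plus (h : Φ.OGood) (h2 : (2 : F) = 0) {m : ℕ} (hm : finrank F V = 2 * m) (m0 : m ≠ 0) (h1 : Φ.HasTS m) :
    Nat.card {c : ConjClasses Φ.Om // ∃ g, ConjClasses.mk g = c ∧ orderOf g = 2} = 2 * (m / 2) + if Even m then 1 else 0 := by
  have c := c2_orth h2
  have hΦ := h.nd
  have o := fun {t} => hΦ.mem_Om_rank h2 h.RG (t := t)
  obtain ⟨U, eU, hU⟩ := id h1
  let P := fun t : V ≃ₗ[F] V => Even (finrank F U - finrank F ↥(U ⊓ mv t))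
  rw [c.card_classes hΦ Φ.Om.subtype Subtype.val_injective (X := Fin (m / 2) ⊕ Fin (m / 2) ⊕ PLift (Even m)) fun t x => t * t = 1 ∧
    x.elim (fun i => finrank F (mv t) = 2 * i.1 + 2 ∧ ¬ Φ.Alt t) (Sum.elim (fun i => finrank F (mv t) = 2 * i.1 + 2 ∧ Φ.Alt t ∧ (2 * i.1 + 2 = m → P t))
      fun _ => finrank F (mv t) = m ∧ Φ.Alt t ∧ ¬ P t)]
  · by_cases e : Even m <;> simp [e, two_mul, add_assoc]
  · refine fun g => ⟨fun ⟨a, b⟩ => ?_, by rintro ⟨_ | _ | _, a, b, -⟩ <;> exact ⟨a, by omega⟩⟩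
    have := c.two_mul_le hΦ (Om_le_isom g.2) a
    change finrank F (mv g.1) ≠ 0 at b
    obtain ⟨d, e⟩ := (o (Om_le_isom g.2)).1 g.2
    by_cases k : Φ.Alt g.1
    · by_cases l : finrank F (mv g.1) = m ∧ ¬ P g.1
      · exact ⟨.inr (.inr ⟨d, by omega⟩), a, l.1, k, l.2⟩
      · exact ⟨.inr (.inl ⟨d - 1, by omega⟩), a, e.trans (by simp only; omega), k, fun i => by_contra fun j => l ⟨by simp only at i; omega, j⟩⟩
    · exact ⟨.inl ⟨d - 1, by omega⟩, a, e.trans (by simp only; omega), k⟩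
  · rintro (i | i | ⟨⟨i⟩⟩)
    · obtain ⟨t, a, b⟩ := hΦ.orth_nalt h2 hm (h1.mono (by omega)) (2 * i + 1) (by omega)
      exact ⟨⟨t, (o a).2 ⟨i + 1, by omega⟩⟩, b⟩
    · obtain ⟨T, l, e⟩ := exists_le_finrank_eq U (show 2 * i.1 + 2 ≤ _ by omega)
      obtain ⟨t, a, b, rfl, d⟩ := c.exists_alt hΦ (hU.mono l) ⟨i + 1, by omega⟩
      exact ⟨⟨t, (o a).2 ⟨i + 1, by omega⟩⟩, b, e, d, fun j => by
        change Even (_ - finrank F ↥(U ⊓ mv t)); rw [inf_eq_right.2 l, e, j, eU]; simp⟩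
    · haveI : Nontrivial V := finrank_pos_iff.1 (show 0 < finrank F V by omega)
      obtain ⟨v, hv⟩ := hΦ.orth_exists_Q_ne
      have e := (Φ.r v).finrank_map_eq U
      obtain ⟨t, a, b, k, d⟩ := c.exists_alt hΦ (hU.map_iso (isIso_of_mem (Φ.r_mem v))) (by rwa [e, eU])
      exact ⟨⟨t, (o a).2 (by rwa [k, e, eU])⟩, b, by erw [k, e, eU], d, mt (h.dick_eq_one_iff hU (by omega) (Φ.r_mem v) k.symm).2 (by simp [hΦ.dick_r hv])⟩
  have k : ∀ g g' : Φ.Om, g.1 * g.1 = 1 → g'.1 * g'.1 = 1 → (IsConj g g' ↔ finrank F (mv g.1) = finrank F (mv g'.1) ∧ (Φ.Alt g.1 ↔ Φ.Alt g'.1) ∧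
      (finrank F (mv g.1) = m → Φ.Alt g.1 → (P g.1 ↔ P g'.1))) := fun g g' a a' => by
    by_cases l : 2 * finrank F (mv g.1) = finrank F V ∧ Φ.Alt g.1
    · have i := c.conj_iff hΦ (t := ⟨g, Om_le_isom g.2⟩) (s := ⟨g', Om_le_isom g'.2⟩) a a'
      have j := h.conj_top h2 hU (by omega) (t := ⟨g, Om_le_isom g.2⟩) (s := ⟨g', Om_le_isom g'.2⟩) a l.2 l.1
      refine ⟨fun e => ?_, fun e => ?_⟩
      · have := (Subgroup.inclusion Om_le_isom).map_isConj e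
        obtain ⟨x, e⟩ := isConj_iff.1 e
        exact ⟨(i.1 this).1, (i.1 this).2, fun _ _ => (j this).1 ⟨x, x.2, congrArg Subtype.val e⟩⟩
      · obtain ⟨x, y, e⟩ := (j (i.2 ⟨e.1, e.2.1⟩)).2 (e.2.2 (by omega) l.2)
        exact isConj_iff.2 ⟨⟨x, y⟩, Subtype.ext e⟩
    · rw [hΦ.conj_Om_iff h2 h.RG a a' l]
      exact and_congr_right' ⟨fun e => ⟨e, fun x y => (l ⟨by omega, y⟩).elim⟩, fun e => e.1⟩
  rintro g g' (i | i | i) (j | j | j) ⟨a, b, d⟩ ⟨a', b', d'⟩ <;> rw [k _ _ a a'] <;> erw [b, b'] <;>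
    simp only [Subgroup.subtype_apply] at * <;> simp [d, d', Fin.ext_iff, eq_iff_true_of_subsingleton] <;> grind

theorem OGood.card_cent_top (h : Φ.OGood) (h2 : (2 : F) = 0) {t : Φ.isom} (t2 : t.1 * t.1 = 1) (ht : Φ.Alt t.1) (et : 2 * finrank F (mv t.1) = finrank F V) :
    Nat.card {g : Φ.Om // g * t.1 = t * g} = Nat.card (Subgroup.centralizer {t}) := by
  have a := ((c2_orth h2).alt_iff_ts h.nd t.2 t2 ht).1
  exact Nat.card_congr ⟨fun g => ⟨⟨g.1, Om_le_isom g.1.2⟩, Subgroup.mem_centralizer_singleton_iff.2 (Subtype.ext g.2)⟩, fun g =>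
    have := congrArg Subtype.val (Subgroup.mem_centralizer_singleton_iff.1 g.2)
    ⟨⟨g.1, (h.mem_Om_top h2 a et a et g.1.2 (mul_inv_eq_iff_eq_mul.2 this)).2 .rfl⟩, this⟩, fun _ => rfl, fun _ => rfl⟩

theorem card_comm_omega {ι : Type} [Fintype ι] [DecidableEq ι] (Φ : Form (.orth F) (ι → F)) (x : Cfsg.isometryGroup F Φ.Q) :
    Nat.card {g : Cfsg.Omega F Φ.Q // g.1 * x = x * g.1} = Nat.card {g : Φ.Om // g * (oEquiv Φ x).1 = (oEquiv Φ x).1 * g} :=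
  Nat.card_congr ((omegaEquiv Φ).toEquiv.subtypeEquiv fun g => by rw [← (oEquiv Φ).apply_eq_iff_eq, map_mul, map_mul, Subtype.ext_iff]; rfl)

theorem sq_of_order {G : Type*} [Group G] {A : Subgroup (V ≃ₗ[F] V)} (e : G ≃* A) {g : G} (h : orderOf g = 2) : (e g).1 * (e g).1 = 1 := by
  rw [← Subgroup.coe_mul, ← map_mul, ← sq, ← h, pow_orderOf_eq_one, map_one]; rfl

theorem sq_of_pow {G : Type*} [Group G] {A : Subgroup (V ≃ₗ[F] V)} (e : G ≃* A) {g : G} (h : g ^ 2 = 1) : (e g).1 * (e g).1 = 1 := by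
  rw [← Subgroup.coe_mul, ← map_mul, ← sq, h, map_one]; rfl

theorem alt_sp {m : ℕ} {a : Matrix.symplecticGroup (Fin m) F} : (sympF F m).Alt (spEquiv m a).1 ↔ ∀ v, Cfsg.sympForm m F v (a.1.mulVec v) = 0 := by
  simp [Alt]

theorem exists_omega_conj {ι : Type} [Fintype ι] [DecidableEq ι] (Φ : Form (.orth F) (ι → F)) {t s : Cfsg.isometryGroup F Φ.Q} :
    (∃ g ∈ Cfsg.Omega F Φ.Q, g * t * g⁻¹ = s) ↔ ∃ g ∈ Φ.Om, g * oEquiv Φ t * g⁻¹ = oEquiv Φ s :=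
  ⟨fun ⟨g, a, b⟩ => ⟨oEquiv Φ g, (mem_Omega_iff Φ g).1 a, by simp [← b]⟩, fun ⟨g, a, b⟩ => ⟨(oEquiv Φ).symm ⟨g, Om_le_isom a⟩,
    (mem_Omega_iff Φ _).2 (by simpa), (oEquiv Φ).injective (Subtype.ext (by simpa))⟩⟩

theorem conj_iff_sp {ι : Type} [Fintype ι] [DecidableEq ι] {Φ : Form (.orth F) (ι → F)} (hΦ : Φ.Nondeg) (h2 : (2 : F) = 0) {t s : Cfsg.isometryGroup F Φ.Q}
    (ht : orderOf t = 2) (hs : orderOf s = 2) : IsConj t s ↔ ∃ g ∈ Cfsg.preserving (Units.coeHom (Matrix ι ι F))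
      (fun u v => Φ.Q (u + v) - Φ.Q u - Φ.Q v), g * t.1 * g⁻¹ = s.1 := by
  have e : ∀ u v, Φ.Q (u + v) - Φ.Q u - Φ.Q v = Φ.B u v := orth_polar Φ
  simp only [e]
  refine ⟨fun h => let ⟨g, h⟩ := isConj_iff.1 h; ⟨g, (oEquiv Φ g).2.1, congrArg Subtype.val h⟩, fun ⟨g, a, b⟩ => ?_⟩
  let Ψ := ofAlt Φ.B (c2_orth h2).self
  rw [← isConj_congr (oEquiv Φ), (c2_orth h2).conj_iff hΦ (sq_of_order _ ht) (sq_of_order _ hs)]
  exact ((c2_symp h2).conj_iff (Φ := Ψ) hΦ (t := ⟨_, (mem_isom_symp _).2 (oEquiv Φ t).2.1⟩) (s := ⟨_, (mem_isom_symp _).2 (oEquiv Φ s).2.1⟩)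
    (sq_of_order _ ht) (sq_of_order _ hs)).1 (isConj_iff.2 ⟨⟨glEquiv g, (mem_isom_symp _).2 a⟩, Subtype.ext (by
      have := congrArg glEquiv b; rwa [map_mul, map_mul, map_inv] at this)⟩)

theorem _root_.H5.C2.card_iso {κ : Kind F} (c : C2 κ) {Φ : Form κ V} (hΦ : Φ.Nondeg) {t : V ≃ₗ[F] V} (ht : t ∈ Φ.isom) (t2 : t * t = 1) :
    (Nat.card {v // Φ.B v (t v) = 0} = Nat.card F ^ finrank F V ∨ Nat.card {v // Φ.B v (t v) = 0} * Nat.card F = Nat.card F ^ finrank F V) ∧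
      (Φ.Alt t ↔ Nat.card {v // Φ.B v (t v) = 0} = Nat.card F ^ finrank F V) := by
  have a : Φ.Alt t → Nat.card {v // Φ.B v (t v) = 0} = Nat.card F ^ finrank F V := fun h => by
    rw [Nat.card_congr (Equiv.subtypeUnivEquiv h), natCard_eq_pow_finrank (K := F)]
  have b : ¬ Φ.Alt t → Nat.card {v // Φ.B v (t v) = 0} * Nat.card F = Nat.card F ^ finrank F V := fun h => by
    obtain ⟨β, b⟩ := c.exists_bet hΦ ht t2
    obtain ⟨w, w0, -, h3⟩ := exists_char_vec c.two b.1 (not_forall.1 (mt (b.alt c).2 h))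
    rw [← hΦ.finrank_perp_singleton (v := w) fun e => w0 (Subtype.ext e), pow_succ, ← natCard_eq_pow_finrank]
    exact congrArg (· * _) (Nat.card_congr (Equiv.subtypeEquivRight fun v => by rw [← b.self c, h3, b.2, mem_perp_singleton, sq_eq_zero_iff]))
  refine ⟨(em _).imp a b, a, fun h => by_contra fun k => ?_⟩
  have := b k
  rw [h, Nat.mul_eq_left (pow_pos Nat.card_pos _).ne'] at this
  exact Finite.one_lt_card.ne' this

variable {q : ℕ} (hF : Fintype.card F = q) (h2 : (2 : F) = 0)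
include hF h2

theorem Nondeg.card_cent_symp {Φ : Form (.symp F) V} (hΦ : Φ.Nondeg) {t : Φ.isom} (t2 : t.1 * t.1 = 1) {s r : ℕ} (hs : finrank F (mv t.1) = s)
    (hr : finrank F V = 2 * (s + r)) {β} (h : Φ.IsBet t.1 β) :
    Nat.card (Subgroup.centralizer {t}) = Nat.card (bisom β) * (q ^ (s * (2 * r) + s * (s - 1) / 2 + s) * spOrd q r) := by
  rw [(c2_symp h2).card_cent hΦ t2 h, card_fix_ts (2 * r) _ (fun W _ _ _ Ψ h => card_isom_symp hF h) s V Φ hΦ (by omega) _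
    (symp_ts.2 fun u hu => (mem_perp _).1 ((hΦ.perp_range_sub t.2).ge ((c2_symp h2).quad_iff.2 t2 hu))) hs, card_ker_symp,
    Nat.card_eq_fintype_card (α := F), hF, ← pow_add]

theorem Nondeg.card_cent_nalt (hΦ : Φ.Nondeg) {t : Φ.isom} (t2 : t.1 * t.1 = 1) {k r : ℕ} (hs : finrank F (mv t.1) = k + 1)
    (hr : finrank F V = 2 * (k + 1 + r)) (hp : Φ.HasTS (k + 1 + r)) (ht : ¬ Φ.Alt t.1) {β} (h : Φ.IsBet t.1 β) :
    Nat.card (Subgroup.centralizer {t}) = Nat.card (bisom β) * (q ^ (k * (2 * r + 1) + k * (k - 1) / 2) * (2 * spOrd q r)) := by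
  have c := c2_orth h2
  obtain ⟨w, w0, -, h3⟩ := exists_char_vec h2 h.1 (not_forall.1 (mt (h.alt c).2 ht))
  have a : ∀ u : mv t.1, Φ.Q u = β u w ^ 2 := fun u => by obtain ⟨x, rfl⟩ := nu_surj _ u; rw [← h3, h.self c]; exact c.Q_nu t.2 x
  obtain ⟨u, hu⟩ := not_forall.1 (mt (h.1.2 w) w0)
  have d := Module.Dual.finrank_ker_add_one_of_ne_zero (f := β.flip w) fun e => hu (LinearMap.congr_fun e u)
  have o := fun u hu => (mem_perp _).1 ((hΦ.perp_range_sub t.2).ge (c.quad_iff.2 t2 (x := u) hu))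
  have n : u.1 ∉ (LinearMap.ker (β.flip w)).map (mv t.1).subtype := fun ⟨y, a, b⟩ => hu (Subtype.ext b ▸ a :)
  have u0 : u.1 ≠ 0 := fun e => n (e ▸ zero_mem _)
  rw [c.card_cent hΦ t2 h, show fixSub (mv t.1) = fixSub ((LinearMap.ker (β.flip w)).map (mv t.1).subtype ⊔ F ∙ u.1) from congrArg _
      (Submodule.eq_of_le_of_finrank_eq (sup_le (Submodule.map_subtype_le _ _) ((Submodule.span_singleton_le_iff_mem _ _).2 u.2)) (by
        rw [Submodule.finrank_sup_span_singleton n, Submodule.finrank_map_subtype_eq, d])).symm,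
    card_fix_vec (2 * (r + 1)) _ (r + 1) 1 (Φ.Q u) (fun W _ _ _ Ψ v h1 h3 h4 h5 _ => h1.card_fix_plus hF h3 h4 (by simp [h5, a, hu])) k V Φ hΦ (by omega)
      (by convert hp using 1; omega) _ (orth_ts.2 (by rintro _ ⟨y, b, rfl⟩; simpa [a] using b)) (by rw [Submodule.finrank_map_subtype_eq]; exact Nat.succ_injective (d.trans hs)) u
      (fun y hy => o _ u.2 _ (Submodule.map_subtype_le _ _ hy)) ((Submodule.disjoint_span_singleton' u0).2 n) rfl (finrank_span_singleton u0) (by omega),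
    card_ker_orth, Nat.card_eq_fintype_card (α := F), hF]
  simp [mul_add]

theorem Nondeg.card_cent_alt (hΦ : Φ.Nondeg) {t : Φ.isom} (t2 : t.1 * t.1 = 1) {s r N : ℕ} (hs : finrank F (mv t.1) = s)
    (hr : finrank F V = 2 * (s + r)) (hp : Φ.HasTS (s + r)) (ht : Φ.Alt t.1) {β} (h : Φ.IsBet t.1 β)
    (hN : ∀ (W : Type u) [AddCommGroup W] [Module F W] [FiniteDimensional F W] (Ψ : Form (.orth F) W), Ψ.Nondeg → finrank F W = 2 * r → Ψ.HasTS r →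
      Nat.card Ψ.isom = N) : Nat.card (Subgroup.centralizer {t}) = Nat.card (bisom β) * (q ^ (s * (2 * r) + s * (s - 1) / 2) * N) := by
  have c := c2_orth h2
  rw [c.card_cent hΦ t2 h, show fixSub (mv t.1) = fixSub (mv t.1 ⊔ F ∙ 0) by simp, card_fix_vec (2 * r) N r 0 0 (fun W _ _ _ Ψ v h1 h3 h4 _ h5 => by
    rw [Submodule.finrank_eq_zero.1 h5, ← hN W Ψ h1 h3 h4]; exact card_congr_subgroup (inf_eq_left.2 fun g _ => by simp [mem_fixSub])) s V Φ hΦ (by omega) hp _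
    (c.alt_iff_ts hΦ t.2 t2 ht).1 hs 0 (zero_mem _) (by simp) (by simp) (by simp) (by omega), card_ker_orth, Nat.card_eq_fintype_card (α := F), hF]
  simp

end Form
end H5
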