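import Cfsg.Agent.H5.Geo
import Cfsg.Agent.H5.OT

/-!
The abelianisation of a finite orthogonal group in all characteristics (`ab`, `OGood.mem_Om`), its behaviour under isometric
embeddings (`OGood.ab_emb`), adjusting an isometry into `Ω`, orthogonal sums (`sumF`) and the Levi subgroup of the split form.
-/

set_option autoImplicit false

namespace H5

open Module Matrix

open Classical in
/-- The quadratic character with values in `ℤˣ`. -/
noncomputable def sgn {F : Type*} [Field F] (a : F) : ℤˣ := if IsSquare a then 1 else -1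

theorem sgn_eq_one {F : Type*} [Field F] {a : F} : sgn a = 1 ↔ IsSquare a := by
  unfold sgn; split_ifs with h <;> simp [h]

theorem sgn_mul {F : Type*} [Field F] [Finite F] {a b : F} (ha : a ≠ 0) (hb : b ≠ 0) : sgn (a * b) = sgn a * sgn b := by
  unfold sgn
  by_cases h : IsSquare b
  · by_cases h' : IsSquare a
    · simp [h, h', h'.mul h]
    · rw [if_neg fun e => ((isSquare_mul_iff_of_not hb h').1 (mul_comm a b ▸ e)) h]; simp [h, h']
  · by_cases h' : IsSquare a <;> simp [isSquare_mul_iff_of_not ha h, h, h']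

theorem sq_of_two {F : Type*} [Field F] [Finite F] (h2 : (2 : F) = 0) (c : F) : IsSquare c :=
  FiniteField.isSquare_of_char_two (ringChar.eq_iff.2 (CharTwo.of_one_ne_zero_of_two_eq_zero one_ne_zero h2)) c

theorem exists_sgn {F : Type*} [Field F] [Finite F] (h2 : (2 : F) ≠ 0) (s : ℤˣ) : ∃ a : F, a ≠ 0 ∧ sgn a = s := by
  rcases Int.units_eq_one_or s with rfl | rfl
  · exact ⟨1, one_ne_zero, sgn_eq_one.2 IsSquare.one⟩
  obtain ⟨a, ha⟩ := FiniteField.exists_nonsquare (F := F) fun e => h2 (by simpa [e] using ringChar.Nat.cast_ringChar (R := F))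
  exact ⟨a, by rintro rfl; exact ha IsSquare.zero, if_neg ha⟩

namespace Form

universe u v
variable {F : Type*} [Field F] {V : Type u} [AddCommGroup V] [Module F V] {W : Type v} [AddCommGroup W] [Module F W]
  {Φ : Form (Kind.orth F) V} {Ψ : Form (Kind.orth F) W} {g g' : V ≃ₗ[F] V}

variable (Φ) in
/-- The Dickson invariant and the spinor norm. -/
noncomputable def ab (g : V ≃ₗ[F] V) : ℤˣ × ℤˣ := (dick g, sgn (Classical.epsilon fun n => n ≠ 0 ∧ Φ.SpinRel g n))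

variable [Fintype F] [FiniteDimensional F V] [FiniteDimensional F W]

variable (Φ) in
/-- Non-degenerate and not of dimension four over the field with two elements. -/
structure OGood : Prop where
  nd : Φ.Nondeg
  hc : Fintype.card F ≠ 2 ∨ finrank F V ≠ 4

theorem Nondeg.ab_eq (h : Φ.Nondeg) (hg : g ∈ Φ.RG) {n : F} (n0 : n ≠ 0) (hn : Φ.SpinRel g n) : Φ.ab g = (dick g, sgn n) := by
  refine Prod.ext rfl ?_
  by_cases h2 : (2 : F) = 0
  · exact (sgn_eq_one.2 (sq_of_two h2 _)).trans (sgn_eq_one.2 (sq_of_two h2 _)).symm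
  obtain ⟨m, m0, hm⟩ := exists_spinRel (inv_mem hg)
  obtain ⟨k0, hk⟩ := Classical.epsilon_spec (p := fun n => n ≠ 0 ∧ Φ.SpinRel g n) ⟨n, n0, hn⟩
  have e1 := sgn_eq_one.2 (h.isSquare_of_spinRel h2 (by simpa using hn.mul hm))
  have e2 := sgn_eq_one.2 (h.isSquare_of_spinRel h2 (by simpa using hk.mul hm))
  rw [sgn_mul n0 m0] at e1
  rw [sgn_mul k0 m0] at e2
  exact mul_right_cancel (e2.trans e1.symm)

theorem Nondeg.ab_mul (h : Φ.Nondeg) (hg : g ∈ Φ.RG) (hg' : g' ∈ Φ.RG) : Φ.ab (g * g') = Φ.ab g * Φ.ab g' := by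
  obtain ⟨n, n0, hn⟩ := exists_spinRel hg
  obtain ⟨m, m0, hm⟩ := exists_spinRel hg'
  rw [h.ab_eq hg n0 hn, h.ab_eq hg' m0 hm, h.ab_eq (mul_mem hg hg') (mul_ne_zero n0 m0) (hn.mul hm), h.dick_mul hg (RG_le_isom hg'),
    sgn_mul n0 m0]; rfl

theorem Nondeg.ab_r (h : Φ.Nondeg) {v : V} (hv : Φ.Q v ≠ 0) : Φ.ab (Φ.r v) = (-1, sgn (Φ.Q v)) := by
  rw [h.ab_eq (Φ.r_mem_RG v) hv (spinRel_r hv), h.dick_r hv]

theorem Nondeg.ab_one (h : Φ.Nondeg) : Φ.ab 1 = 1 := by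
  rw [h.ab_eq (one_mem _) one_ne_zero spinRel_one, dick_one, sgn_eq_one.2 IsSquare.one]; rfl

theorem Nondeg.ab_rr (h : Φ.Nondeg) {v w : V} (hv : Φ.Q v ≠ 0) (hw : Φ.Q w ≠ 0) : Φ.ab (Φ.r v * Φ.r w) = (1, sgn (Φ.Q v * Φ.Q w)) := by
  rw [h.ab_mul (Φ.r_mem_RG v) (Φ.r_mem_RG w), h.ab_r hv, h.ab_r hw, sgn_mul hv hw]; simp

theorem Nondeg.ab_list (h : Φ.Nondeg) {l : List V} (hl : ∀ v ∈ l, Φ.Q v ≠ 0) :
    (l.map Φ.r).prod ∈ Φ.RG ∧ Φ.ab (l.map Φ.r).prod = ((-1) ^ l.length, sgn (l.map Φ.Q).prod) := by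
  induction l with
  | nil => exact ⟨one_mem _, h.ab_one.trans (by simp [sgn_eq_one, Prod.ext_iff, eq_comm])⟩
  | cons v l ih =>
    obtain ⟨h1, h2⟩ := ih fun w hw => hl w (by simp [hw])
    have hv := hl v (by simp)
    refine ⟨mul_mem (Φ.r_mem_RG v) h1, ?_⟩
    rw [List.map_cons, List.prod_cons, h.ab_mul (Φ.r_mem_RG v) h1, h.ab_r hv, h2, List.map_cons, List.prod_cons,
      sgn_mul hv (List.prod_ne_zero (by simpa using fun w hw => hl w (by simp [hw])))]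
    simp [pow_succ']

theorem ab_emb (hΦ : Φ.Nondeg) (hΨ : Ψ.Nondeg) {j : W →ₗ[F] V} (hj : ∀ x, Φ.Q (j x) = Ψ.Q x) {t : W ≃ₗ[F] W} (ht : t ∈ Ψ.RG)
    (h1 : ∀ x, g (j x) = j (t x)) (h2 : ∀ y, (∀ x, Φ.B y (j x) = 0) → g y = y) : g ∈ Φ.RG ∧ Φ.ab g = Ψ.ab t := by
  have hB : ∀ x y, Φ.B (j x) (j y) = Ψ.B x y := fun x y => by simpa using B_of_sim (c := (1 : F)) (e := j) (by simpa using hj) x y
  obtain ⟨s, k0, k1, k2, k3⟩ := RG_induction (P := fun t => ∃ s ∈ Φ.RG, (∀ x, s (j x) = j (t x)) ∧ (∀ y, (∀ x, Φ.B y (j x) = 0) → s y = y) ∧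
    Φ.ab s = Ψ.ab t) ⟨1, one_mem _, fun _ => rfl, fun _ _ => rfl, hΦ.ab_one.trans hΨ.ab_one.symm⟩
    (fun v hv t ht ⟨s, k0, k1, k2, k3⟩ => ⟨Φ.r (j v) * s, mul_mem (Φ.r_mem_RG _) k0, fun x => by simp [k1, r_apply, hj, hB],
      fun y hy => by simp [k2 y hy, r_of_perp (hy v)], by
        rw [hΦ.ab_mul (Φ.r_mem_RG _) k0, hΨ.ab_mul (Ψ.r_mem_RG _) ht, k3, hΦ.ab_r (by rwa [hj]), hΨ.ab_r hv, hj]⟩) ht
  obtain rfl : g = s := hΦ.ext_of_compl (U := LinearMap.range j)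
    (by rintro ⟨_, y, rfl⟩ hy; rw [Subtype.ext_iff, hΨ y fun x => (hB x y).symm.trans (hy ⟨_, x, rfl⟩)]; simp)
    (by rintro _ ⟨x, rfl⟩; rw [h1, k1]) fun y hy => by
      have := fun x => Φ.mem_perp.1 hy _ ⟨x, rfl⟩
      rw [h2 y this, k2 y this]
  exact ⟨k0, k3⟩

theorem Hyp.exists_torus (hΦ : Φ.Nondeg) {e f : V} (h : Φ.Hyp e f) {c : F} (hc : c ≠ 0) : ∃ t ∈ Φ.RG, Φ.ab t = (1, sgn c) ∧
    ∀ x, t x = x + ((c - 1) * Φ.B x f) • e + ((c⁻¹ - 1) * Φ.B x e) • f := by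
  have k : ∀ a : F, Φ.Q (e + a • f) = a := fun a => by simp [orth_add, orth_smul, h.1, h.2, h.3]
  refine ⟨Φ.r (e + (1 : F) • f) * Φ.r (e + c • f), mul_mem (Φ.r_mem_RG _) (Φ.r_mem_RG _), ?_, fun x => ?_⟩
  · rw [hΦ.ab_rr (by rw [k]; simp) (by rwa [k]), k, k, one_mul]
  · rw [LinearEquiv.mul_apply, h.rr_apply hc one_ne_zero]; simp

namespace OGood
variable (h : Φ.OGood)
include h

theorem hc' : (∃ c : F, c ≠ 0 ∧ c ≠ 1) ∨ finrank F V ≠ 4 := h.hc.imp_left fun h => by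
  classical
  by_contra! k
  have := Finset.card_le_card (show (Finset.univ : Finset F) ⊆ {0, 1} from fun c _ => by by_cases e : c = 0 <;> simp [e, k c])
  have := Finset.card_le_two (a := (0 : F)) (b := 1)
  have := Fintype.one_lt_card (α := F)
  simp at *; omega

theorem RG : Φ.RG = Φ.isom := h.nd.orth_RG h.hc'

theorem ab_mul (hg : g ∈ Φ.isom) (hg' : g' ∈ Φ.isom) : Φ.ab (g * g') = Φ.ab g * Φ.ab g' := h.nd.ab_mul (h.RG ▸ hg) (h.RG ▸ hg')

/-- The abelianisation as a homomorphism. -/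
noncomputable def abHom : Φ.isom →* ℤˣ × ℤˣ := ⟨⟨fun g => Φ.ab g.1, h.nd.ab_one⟩, fun g g' => h.ab_mul g.2 g'.2⟩

theorem mem_Om (hg : g ∈ Φ.isom) : g ∈ Φ.Om ↔ Φ.ab g = 1 := by
  classical
  by_cases h2 : (2 : F) = 0
  · rw [h.nd.mem_Om_iff_even h.RG (sq_of_two h2) hg, Prod.ext_iff]
    exact (and_iff_left (sgn_eq_one.2 (sq_of_two h2 _))).symm
  rw [Prod.ext_iff]
  refine h.nd.mem_Om_iff_odd h2 (θ := (MonoidHom.snd _ _).comp h.abHom) (fun v hv => ?_) ⟨g, hg⟩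
  change ((Φ.ab (Φ.r v)).2 : ℤ) = _
  rw [h.nd.ab_r hv, sgn, quadraticChar_apply, quadraticCharFun, if_neg hv]
  split_ifs <;> rfl

theorem ab_of_Om (hg : g ∈ Φ.Om) : Φ.ab g = 1 := (h.mem_Om (Om_le_isom hg)).1 hg

theorem mem_Om_two (h2 : (2 : F) = 0) (hg : g ∈ Φ.isom) : g ∈ Φ.Om ↔ dick g = 1 := h.nd.mem_Om_iff_even h.RG (sq_of_two h2) hg

theorem mul_mem_Om (hg : g ∈ Φ.isom) (hg' : g' ∈ Φ.isom) (e : Φ.ab g = Φ.ab g') : g * g' ∈ Φ.Om := by
  rw [h.mem_Om (mul_mem hg hg'), h.ab_mul hg hg', e]; exact Prod.ext (Int.units_mul_self _) (Int.units_mul_self _)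

theorem mem_Om_emb (hΨ : Ψ.OGood) {j : W →ₗ[F] V} (hj : ∀ x, Φ.Q (j x) = Ψ.Q x) {t : W ≃ₗ[F] W} (ht : t ∈ Ψ.isom)
    (h1 : ∀ x, g (j x) = j (t x)) (h2 : ∀ y, (∀ x, Φ.B y (j x) = 0) → g y = y) : g ∈ Φ.Om ↔ t ∈ Ψ.Om := by
  obtain ⟨k1, k2⟩ := ab_emb h.nd hΨ.nd hj (hΨ.RG ▸ ht) h1 h2
  rw [h.mem_Om (RG_le_isom k1), hΨ.mem_Om ht, k2]

/-- Adjusting the spinor norm. -/
theorem adjust (hg : g ∈ Φ.isom) (hd : dick g = 1) {S : Subgroup (V ≃ₗ[F] V)}
    (hS : (2 : F) ≠ 0 → ∀ c : F, c ≠ 0 → ∃ s ∈ S, s ∈ Φ.isom ∧ Φ.ab s = (1, sgn c)) : ∃ s ∈ S, g * s ∈ Φ.Om := by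
  by_cases h2 : (2 : F) = 0
  · exact ⟨1, one_mem _, by rwa [mul_one, h.mem_Om_two h2 hg]⟩
  obtain ⟨c, c0, hc⟩ := exists_sgn h2 (Φ.ab g).2
  obtain ⟨s, h1, h3, h4⟩ := hS h2 c c0
  exact ⟨s, h1, h.mul_mem_Om hg h3 (by rw [h4, hc, ← hd]; rfl)⟩

/-- Adjusting the Dickson invariant and the spinor norm. -/
theorem adjust' (hg : g ∈ Φ.isom) {S : Subgroup (V ≃ₗ[F] V)} {t : V ≃ₗ[F] V} (ht : t ∈ S) (ht' : t ∈ Φ.isom) (hd : dick t = -1)
    (hS : (2 : F) ≠ 0 → ∀ c : F, c ≠ 0 → ∃ s ∈ S, s ∈ Φ.isom ∧ Φ.ab s = (1, sgn c)) : ∃ s ∈ S, g * s ∈ Φ.Om := by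
  rcases Int.units_eq_one_or (dick g) with e | e
  · exact h.adjust hg e hS
  obtain ⟨s, h1, h2⟩ := h.adjust (mul_mem hg ht') (by rw [h.nd.dick_mul (h.RG ▸ hg) ht', e, hd]; rfl) hS
  exact ⟨t * s, mul_mem ht h1, mul_assoc g t s ▸ h2⟩

theorem torus_stab {U : Submodule F V} (hU : Φ.TS U) (U0 : U ≠ ⊥) {c : F} (hc : c ≠ 0) :
    ∃ s ∈ stabSub U, s ∈ Φ.isom ∧ Φ.ab s = (1, sgn c) := by
  obtain ⟨e, he, e0⟩ := Submodule.exists_mem_ne_zero_of_ne_bot U0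
  obtain ⟨f, hf⟩ := h.nd.exists_hyp (orth_ts.1 hU e he) e0
  obtain ⟨t, h1, h2, h3⟩ := hf.exists_torus h.nd hc
  exact ⟨t, mem_stabSub'.2 fun x hx => by simp [h3, Φ.mem_perp.1 (hU.le_perp hx) e he, add_mem hx (U.smul_mem _ he)], RG_le_isom h1, h2⟩

theorem dick_eq_one_iff {U T : Submodule F V} (hU : Φ.TS U) (eU : 2 * finrank F U = finrank F V) (hg : g ∈ Φ.isom)
    (e : U.map (g : V →ₗ[F] V) = T) : dick g = 1 ↔ Even (finrank F U - finrank F ↥(U ⊓ T)) := by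
  have := h.nd.parity hU hU eU eU (h.RG ▸ hg)
  rw [e, inf_idem] at this
  obtain ⟨k, hk⟩ := Nat.exists_eq_add_of_le (Submodule.finrank_mono (inf_le_left : U ⊓ T ≤ U))
  rw [hk, pow_add, mul_left_comm, left_eq_mul, mul_eq_one_iff_eq_inv] at this
  rw [hk, Nat.add_sub_cancel_left, this, inv_eq_one, neg_one_pow_eq_one_iff_even (by decide)]

end OGood

theorem dick_eq_one_iff_rank (g : V ≃ₗ[F] V) : dick g = 1 ↔ Even (finrank F (LinearMap.range ((g : V →ₗ[F] V) - LinearMap.id))) := by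
  have := LinearMap.finrank_range_add_finrank_ker ((g : V →ₗ[F] V) - LinearMap.id)
  rw [dick, neg_one_pow_eq_one_iff_even (by decide), ← this, add_assoc]
  rw [show LinearMap.ker ((g : V →ₗ[F] V) - LinearMap.id) = fixSp g from Submodule.ext fun x => by simp [mem_fixSp, sub_eq_zero]]
  exact Nat.even_add.trans (iff_true_right ⟨_, rfl⟩)

section bridge
variable {ι κ : Type} [Fintype ι] [DecidableEq ι] [Fintype κ] [DecidableEq κ]

omit [Fintype F] in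
theorem exists_omega_iff (Φ : Form (Kind.orth F) (ι → F)) {M : Matrix ι ι F} {g : (ι → F) ≃ₗ[F] (ι → F)} (hM : ∀ v, g v = M *ᵥ v) :
    (∃ x : Cfsg.isometryGroup F Φ.Q, x ∈ Cfsg.Omega F Φ.Q ∧ x.1.1 = M) ↔ g ∈ Φ.Om :=
  ⟨fun ⟨x, h1, h2⟩ => (show (oEquiv Φ x).1 = g from LinearEquiv.ext fun v => by rw [hM, ← h2]; rfl) ▸ (mem_Omega_iff Φ x).1 h1,
    fun h => ⟨(oEquiv Φ).symm ⟨g, Om_le_isom h⟩, (mem_Omega_iff Φ _).2 (by simpa using h), matrix_ext_mulVec fun v => by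
      rw [← hM, ← oEquiv_apply]; simp⟩⟩

omit [Fintype F] in
theorem exists_omega (Φ : Form (Kind.orth F) (ι → F)) {g : (ι → F) ≃ₗ[F] (ι → F)} (h : g ∈ Φ.Om) :
    ∃ x : Cfsg.isometryGroup F Φ.Q, x ∈ Cfsg.Omega F Φ.Q ∧ Matrix.mulVecLin x.1.1 = g := by
  obtain ⟨x, h1, h2⟩ := (exists_omega_iff Φ (M := (glEquiv.symm g).1) fun v => (glEquiv_symm_mulVec g v).symm).2 h
  exact ⟨x, h1, LinearMap.ext fun v => by rw [h2]; exact glEquiv_symm_mulVec g v⟩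

/-- The orthogonal sum. -/
def sumF (Φ : Form (Kind.orth F) (ι → F)) (Ψ : Form (Kind.orth F) (κ → F)) : Form (Kind.orth F) (ι ⊕ κ → F) :=
  ofQuadFun (fun v => Φ.Q (v ∘ .inl) + Ψ.Q (v ∘ .inr))
    ((Φ.comap (LinearMap.funLeft F F .inl)).B + (Ψ.comap (LinearMap.funLeft F F .inr)).B)
    (fun c x => (congrArg₂ _ (orth_smul Φ c (x ∘ .inl)) (orth_smul Ψ c (x ∘ .inr))).trans (by ring))
    fun x y => (congrArg₂ _ (orth_add Φ (x ∘ .inl) (y ∘ .inl)) (orth_add Ψ (x ∘ .inr) (y ∘ .inr))).trans (by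
      change _ = _ + (Φ.B (x ∘ .inl) (y ∘ .inl) + Ψ.B (x ∘ .inr) (y ∘ .inr)); ring)

variable {Φ : Form (Kind.orth F) (ι → F)} {Ψ : Form (Kind.orth F) (κ → F)}

omit [Fintype F] [Fintype ι] [DecidableEq ι] [Fintype κ] [DecidableEq κ] in
theorem sumF_B (x y) : (sumF Φ Ψ).B x y = Φ.B (x ∘ .inl) (y ∘ .inl) + Ψ.B (x ∘ .inr) (y ∘ .inr) := rfl

omit [Fintype F] [Fintype ι] [DecidableEq ι] [Fintype κ] [DecidableEq κ] in
theorem sumF_Q (x) : (sumF Φ Ψ).Q x = Φ.Q (x ∘ .inl) + Ψ.Q (x ∘ .inr) := rfl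

omit [Fintype F] [Fintype ι] [DecidableEq ι] [Fintype κ] [DecidableEq κ] in
theorem sumF_nondeg (h : Φ.Nondeg) (h' : Ψ.Nondeg) : (sumF Φ Ψ).Nondeg := fun y hy => by
  have h1 := h (y ∘ .inl) fun x => by simpa [sumF_B] using hy (Sum.elim x 0)
  have h2 := h' (y ∘ .inr) fun x => by simpa [sumF_B] using hy (Sum.elim 0 x)
  ext (i | i); exacts [congrFun h1 i, congrFun h2 i]

/-- The block diagonal embedding. -/
def blockHom : GL ι F × GL κ F →* GL (ι ⊕ κ) F where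
  toFun g := ⟨fromBlocks g.1.1 0 0 g.2.1, fromBlocks g.1⁻¹.1 0 0 g.2⁻¹.1, by simp [fromBlocks_multiply], by simp [fromBlocks_multiply]⟩
  map_one' := Units.ext (by simp)
  map_mul' a b := Units.ext (by simp [fromBlocks_multiply])

/-- The block diagonal embedding of orthogonal groups. -/
def sumHom (Φ : Form (Kind.orth F) (ι → F)) (Ψ : Form (Kind.orth F) (κ → F)) :
    Cfsg.isometryGroup F Φ.Q × Cfsg.isometryGroup F Ψ.Q →* Cfsg.isometryGroup F (sumF Φ Ψ).Q :=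
  (blockHom.comp ((Subgroup.subtype _).prodMap (Subgroup.subtype _))).codRestrict _ fun g => (mem_isometryGroup_iff _ _).2 fun v => by
    simp [blockHom, sumF_Q, fromBlocks_mulVec, (mem_isometryGroup_iff _ _).1 g.1.2, (mem_isometryGroup_iff _ _).1 g.2.2]

theorem ab_sumHom (h : Φ.OGood) (h' : Ψ.OGood) (g : Cfsg.isometryGroup F Φ.Q) (g' : Cfsg.isometryGroup F Ψ.Q) :
    (sumF Φ Ψ).ab (oEquiv _ (sumHom Φ Ψ (g, g'))).1 = Φ.ab (oEquiv Φ g).1 * Ψ.ab (oEquiv Ψ g').1 := by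
  have n := sumF_nondeg h.nd h'.nd
  obtain ⟨a1, a2⟩ := ab_emb (g := (oEquiv _ (sumHom Φ Ψ (g, 1))).1) n h.nd (j := (LinearEquiv.sumArrowLequivProdArrow ι κ F F).symm.toLinearMap ∘ₗ .inl _ _ _)
    (fun x => by simp [sumF_Q, Function.comp_def, ← Pi.zero_def]) (h.RG.ge (oEquiv Φ g).2)
    (fun x => by ext (i | i) <;> simp [sumHom, blockHom, fromBlocks_mulVec, Function.comp_def]) fun y hy => by
      have := h.nd.left (y ∘ .inl) fun x => by simpa [sumF_B, Function.comp_def, ← Pi.zero_def] using hy x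
      ext (i | i) <;> simp [sumHom, blockHom, fromBlocks_mulVec, this]; exact (congrFun this i).symm
  obtain ⟨b1, b2⟩ := ab_emb (g := (oEquiv _ (sumHom Φ Ψ (1, g'))).1) n h'.nd (j := (LinearEquiv.sumArrowLequivProdArrow ι κ F F).symm.toLinearMap ∘ₗ .inr _ _ _)
    (fun x => by simp [sumF_Q, Function.comp_def, ← Pi.zero_def]) (h'.RG.ge (oEquiv Ψ g').2)
    (fun x => by ext (i | i) <;> simp [sumHom, blockHom, fromBlocks_mulVec, Function.comp_def]) fun y hy => by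
      have := h'.nd.left (y ∘ .inr) fun x => by simpa [sumF_B, Function.comp_def, ← Pi.zero_def] using hy x
      ext (i | i) <;> simp [sumHom, blockHom, fromBlocks_mulVec, this]; exact (congrFun this i).symm
  rw [← a2, ← b2, ← n.ab_mul a1 b1, ← Subgroup.coe_mul, ← map_mul, ← map_mul]; simp

theorem exists_levi_plus {m : ℕ} (h : (plusF F m).OGood) {A : Matrix (Fin m) (Fin m) F} (hA : A.det ≠ 0) :
    ∃ g ∈ (plusF F m).isom, (∀ v, g v = fromBlocks A 0 0 A⁻¹ᵀ *ᵥ v) ∧ (plusF F m).ab g = (1, sgn A.det) := by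
  let P (A : Matrix (Fin m) (Fin m) F) := ∃ g ∈ (plusF F m).isom, (∀ v, g v = fromBlocks A 0 0 A⁻¹ᵀ *ᵥ v) ∧ (plusF F m).ab g = (1, sgn A.det)
  have mul : ∀ A B, A.det ≠ 0 → B.det ≠ 0 → P A → P B → P (A * B) := fun A B hA hB ⟨g, h1, h2, h3⟩ ⟨g', k1, k2, k3⟩ =>
    ⟨g * g', mul_mem h1 k1, fun v => by simp [h2, k2, fromBlocks_multiply, Matrix.mul_inv_rev],
      by rw [h.ab_mul h1 k1, h3, k3, det_mul, sgn_mul hA hB]; rfl⟩
  refine diagonal_transvection_induction_of_det_ne_zero P A hA (fun D hD => ?_) (fun t => ?_) mul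
  · have hD : ∀ i, D i ≠ 0 := by simpa [Finset.prod_ne_zero_iff] using hD
    have k : ∀ i, P (diagonal (Function.update 1 i (D i))) := fun i => by
      obtain ⟨t, h1, h2, h3⟩ := Hyp.exists_torus h.nd (e := Pi.single (.inl i) 1) (f := Pi.single (.inr i) 1)
        ⟨by simp [Cfsg.quadFormPlus], by simp [Cfsg.quadFormPlus], by simp [plusF_B, Pi.single_apply]⟩ (hD i)
      refine ⟨t, RG_le_isom h1, fun v => ?_, by simp [h2, Finset.prod_update_of_mem]⟩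
      rw [h3, inv_eq_right_inv (B := diagonal (Function.update 1 i (D i)⁻¹)) (by
        rw [diagonal_mul_diagonal, ← diagonal_one]; congr 1; ext j; by_cases e : j = i <;> simp [e, hD])]
      ext (j | j) <;> by_cases e : j = i <;> simp [plusF_B, fromBlocks_mulVec, mulVec_diagonal, Pi.single_apply, e] <;> ring
    have : ∀ s : Finset (Fin m), P (diagonal fun i => if i ∈ s then D i else 1) := fun s => by
      induction s using Finset.induction_on with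
      | empty => exact ⟨1, one_mem _, by simp, by simp [h.nd.ab_one, Prod.ext_iff, eq_comm, sgn_eq_one]⟩
      | insert i s hi ih =>
        convert mul _ _ (by simp [Finset.prod_update_of_mem, hD]) (by simp [Finset.prod_ne_zero_iff, hD]) (k i) ih using 1
        rw [diagonal_mul_diagonal]; congr 1; ext j; by_cases e : j = i <;> simp [e, hi]
    simpa using this Finset.univ
  · have hu : (plusF F m).Q (Pi.single (.inl t.i) 1) = 0 := by simp [Cfsg.quadFormPlus]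
    have hv : (plusF F m).B (Pi.single (.inr t.j) (-t.c)) (Pi.single (.inl t.i) 1) = 0 := by simp [plusF_B, Pi.single_apply, t.hij]
    have ha : (Kind.orth F).π 0 = (plusF F m).Q (Pi.single (.inr t.j) (-t.c)) := by simp [Cfsg.quadFormPlus]
    refine ⟨_, eich_mem _ hu hv ha, fun v => ?_, by
      rw [h.ab_of_Om (h.nd.EG_le_Om h.hc' (eich_mem_EG hu hv ha)), t.det, sgn_eq_one.2 IsSquare.one]; rfl⟩
    rw [inv_eq_right_inv t.mul_inv, eich_apply]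
    ext (j | j) <;> simp [plusF_B, fromBlocks_mulVec, Pi.single_apply, TransvectionStruct.toMatrix, TransvectionStruct.inv, transvection,
      add_mulVec, single_mulVec, Function.update_apply, transpose_add, transpose_single] <;> split_ifs <;> simp_all [mul_comm]

end bridge
end Form
end H5
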