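import Cfsg.Agent.H5.Om2

/-!
Small helpers for the standard quadratic forms: the standard maximal singular subspaces, goodness, anisotropic binary forms.
-/

set_option autoImplicit false

namespace H5
namespace Form

open Module Matrix

variable {F : Type*} [Field F]

variable (F) in
/-- The subspace `y = 0`. -/
abbrev pU (m : ℕ) : Submodule F (Fin m ⊕ Fin m → F) := LinearMap.ker (LinearMap.funLeft F F (Sum.inr : Fin m → Fin m ⊕ Fin m))

theorem mem_pU {m : ℕ} {v} : v ∈ pU F m ↔ ∀ i, v (.inr i) = 0 := funext_iff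

theorem pU_ts (m : ℕ) : (plusF F m).TS (pU F m) := orth_ts.2 fun x hx => by simp [Cfsg.quadFormPlus, mem_pU.1 hx]

theorem finrank_pU (m : ℕ) : finrank F (pU F m) = m := by
  have := LinearMap.finrank_range_add_finrank_ker (LinearMap.funLeft F F (Sum.inr : Fin m → Fin m ⊕ Fin m))
  rw [LinearMap.range_eq_top.2 (LinearMap.funLeft_surjective_of_injective _ _ _ Sum.inr_injective)] at this
  simpa using this

theorem aniso_of_irr {ζ : F} (h : ∀ t : F, t ^ 2 + t + ζ ≠ 0) (z₁ z₂ : F) (e : z₁ ^ 2 + 1 * z₁ * z₂ + ζ * z₂ ^ 2 = 0) : z₁ = 0 ∧ z₂ = 0 := by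
  by_cases h2 : z₂ = 0
  · simpa [h2] using e
  exact (h (z₁ / z₂) (by field_simp; linear_combination e)).elim

theorem exists_irr (F : Type*) [Field F] [Finite F] : ∃ ζ : F, ∀ t : F, t ^ 2 + t + ζ ≠ 0 := by
  by_contra! h
  have : Function.Surjective fun t : F => -(t ^ 2 + t) := fun c => (h c).imp fun t e => by linear_combination -e
  simpa using Finite.injective_iff_surjective.2 this (a₁ := 0) (a₂ := -1) (by simp)

theorem aniso_two : ∀ z₁ z₂ : ZMod 2, z₁ ^ 2 + 1 * z₁ * z₂ + 1 * z₂ ^ 2 = 0 → z₁ = 0 ∧ z₂ = 0 := by decide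

theorem minusF_hasTS (m : ℕ) (a b : F) : (minusF m a b).HasTS m :=
  ⟨coordSub F fun i : Fin m => .inl (.inl i), by rw [finrank_coordSub fun _ _ h => by simpa using h]; simp,
    orth_ts.2 fun x hx => by simp [Cfsg.quadFormMinus, mem_coordSub.1 hx]⟩

variable [Fintype F] {V : Type*} [AddCommGroup V] [Module F V] {Φ : Form (Kind.orth F) V}

theorem Nondeg.good (h : Φ.Nondeg) (h2 : (2 : F) ≠ 0) : Φ.OGood := ⟨h, .inl fun e => h2 (by simpa [e] using FiniteField.cast_card_eq_zero F)⟩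

theorem good_quad {n : ℕ} {Q : QuadraticForm F (Fin n → F)} (hQ : (QuadraticMap.polarBilin Q).Nondegenerate) (h : Fintype.card F ≠ 2 ∨ n ≠ 4) :
    (ofQuad Q).OGood := ⟨ofQuad_nondeg hQ, by simpa using h⟩

theorem good_plus {m : ℕ} (h : Fintype.card F ≠ 2 ∨ m ≠ 2) : (plusF F m).OGood := ⟨plusF_nondeg m, h.imp_right fun h => by simp; omega⟩

theorem gram_quad {n : ℕ} (Q : QuadraticForm F (Fin n → F)) :
    (Matrix.of fun i j : Fin n => QuadraticMap.polar Q (Pi.single i 1) (Pi.single j 1)) = (ofQuad Q).gram (Pi.basisFun F _) := by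
  ext; simp [gram]

theorem rank_sub_one {ι : Type} [Fintype ι] [DecidableEq ι] {g : (ι → F) ≃ₗ[F] (ι → F)} {M : Matrix ι ι F} (h : ∀ v, g v = M *ᵥ v) :
    (M - 1).rank = finrank F (LinearMap.range ((g : (ι → F) →ₗ[F] (ι → F)) - LinearMap.id)) := by
  rw [Matrix.rank, show (M - 1).mulVecLin = (g : (ι → F) →ₗ[F] (ι → F)) - LinearMap.id from LinearMap.ext fun v => by simp [sub_mulVec, h]]


theorem even_iff_four {q m : ℕ} (hq : Odd q) : Even (m * (q - 1) / 2) ↔ q ^ m % 4 = 1 := by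
  obtain ⟨k, rfl⟩ := hq
  rw [show m * (2 * k + 1 - 1) / 2 = m * k by rw [Nat.add_sub_cancel, mul_left_comm]; simp, Nat.even_mul]
  rcases Nat.even_or_odd' k with ⟨l, rfl | rfl⟩
  · rw [show 2 * (2 * l) + 1 = 1 + 4 * l by ring, Nat.pow_mod]; simp
  rw [show 2 * (2 * l + 1) + 1 = 3 + 4 * l by ring, Nat.pow_mod]
  rcases Nat.even_or_odd' m with ⟨k, rfl | rfl⟩ <;> simp [pow_succ, pow_mul, Nat.pow_mod, Nat.mul_mod]

end Form
end H5
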