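import Cfsg.Agent.H5.Mx5
import Cfsg.Agent.H5.Geo

/-!
Parabolic and Borel subgroups of `GL(V)`: orders (`card_stabSub`, `card_upper`), the inverse-transpose automorphism `invT`,
and rank one matrices.
-/

set_option autoImplicit false

namespace H5

open Module Matrix

section lin
variable {F : Type*} [Field F] {V : Type*} [AddCommGroup V] [Module F V] [FiniteDimensional F V]

theorem card_stabSub [Finite F] (W : Submodule F V) : Nat.card (stabSub W) =
    Nat.card F ^ (finrank F W * (finrank F V - finrank F W)) * Nat.card (W ≃ₗ[F] W) * Nat.card ((V ⧸ W) ≃ₗ[F] V ⧸ W) := by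
  obtain ⟨C, hC⟩ := W.exists_isCompl
  have e := Submodule.finrank_add_eq_of_isCompl hC
  haveI : Finite (C →ₗ[F] W) := finite_of_fd (F := F)
  rw [Nat.card_congr (autCongr (Submodule.quotientEquivOfIsCompl W C hC)).toEquiv, ← e, Nat.add_sub_cancel_left, mul_comm (finrank F W),
    ← finrank_linearMap F F, ← Module.natCard_eq_pow_finrank, ← Nat.card_prod, ← Nat.card_prod]
  let p := Submodule.prodEquivOfIsCompl C W hC.symm
  have hp : ∀ x, p x = x.1 + x.2 := fun _ => rfl
  refine (Nat.card_eq_of_bijective (fun x => ⟨autCongr p (x.2.skewProd x.1.2 x.1.1), mem_stabSub'.2 fun w hw => by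
    rw [autCongr_apply, show p.symm w = (0, ⟨w, hw⟩) from p.symm_apply_eq.2 (by simp [hp])]; simp [hp]⟩) ⟨?_, fun ⟨g, hg⟩ => ?_⟩).symm
  · rintro ⟨⟨f, b⟩, a⟩ ⟨⟨f', b'⟩, a'⟩ e
    have k := fun x => congrArg (· x) ((autCongr p).injective (congrArg Subtype.val e))
    simp only [LinearEquiv.skewProd_apply, Prod.mk.injEq, Prod.forall] at k ⊢
    exact ⟨⟨LinearMap.ext fun x => by simpa using (k x 0).2, LinearEquiv.ext fun x => by simpa using (k 0 x).2⟩,
      LinearEquiv.ext fun x => (k x 0).1⟩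
  · let G := p.symm.toLinearMap ∘ₗ g.toLinearMap ∘ₗ C.subtype
    have hG : ∀ c : C, g c = (G c).1 + (G c).2 := fun c => by rw [← hp]; simp [G]
    refine ⟨((LinearMap.snd _ _ _ ∘ₗ G, resAut g W (mem_stabSub'.1 hg)), LinearEquiv.ofInjectiveEndo (LinearMap.fst _ _ _ ∘ₗ G)
      ((injective_iff_map_eq_zero _).2 fun c h => ?_)), Subtype.ext (LinearEquiv.ext fun x => ?_)⟩
    · have := (mem_stabSub.1 hg c).2 (by rw [hG, show (G c).1 = 0 from h]; simp)
      exact Subtype.ext (Submodule.disjoint_def.1 hC.disjoint _ this c.2)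
    · obtain ⟨⟨c, w⟩, rfl⟩ := p.surjective x
      rw [autCongr_apply, p.symm_apply_apply]
      simp [hp, hG]; abel

theorem eq_of_stab_le {U W : Submodule F V} (h : stabSub U ⊓ SLG F V ≤ stabSub W) (h0 : W ≠ ⊥) (h1 : W ≠ ⊤) : W = U := by
  have k : ∀ (v : V) (φ : Dual F V) (e : φ v = 0), (v ∈ U ∨ ∀ u ∈ U, φ u = 0) → ∀ x ∈ W, φ x = 1 → v ∈ W := fun v φ e h2 x hx h3 => by
    have := mem_stabSub'.1 (h ⟨mem_stabSub'.2 fun u hu => (show u + φ u • v ∈ U from h2.elim (fun h => add_mem hu (U.smul_mem _ h))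
      fun h => by simpa [h u hu]), tv_mem_SLG e⟩) x hx
    change x + φ x • v ∈ W at this
    simpa [h3, W.add_mem_iff_right hx] using this
  have l : W ≤ U := fun x hx => by
    by_contra n
    obtain ⟨φ, a, b⟩ := exists_dual n
    exact h1 (eq_top_iff.2 fun y _ => by
      simpa using add_mem (k (y - φ y • x) φ (by simp [a]) (Or.inr b) x hx a) (W.smul_mem (φ y) hx))
  refine le_antisymm l fun u hu => ?_
  by_contra n
  obtain ⟨x, hx, x0⟩ := W.ne_bot_iff.1 h0
  obtain ⟨φ, a, b⟩ := exists_dual (W := F ∙ u) (x := x) fun e => by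
    obtain ⟨c, rfl⟩ := Submodule.mem_span_singleton.1 e
    exact n ((W.smul_mem_iff (by rintro rfl; simp at x0)).1 hx)
  exact n (k u φ (b u (Submodule.mem_span_singleton_self u)) (Or.inl hu) x hx a)

end lin

variable {F : Type*} [Field F] {ι : Type*} [Fintype ι] [DecidableEq ι]

/-- The inverse-transpose automorphism. -/
def invT : GL ι F ≃* GL ι F where
  toFun g := ⟨(g⁻¹).1ᵀ, g.1ᵀ, by rw [← transpose_mul]; simp, by rw [← transpose_mul]; simp⟩
  invFun g := ⟨(g⁻¹).1ᵀ, g.1ᵀ, by rw [← transpose_mul]; simp, by rw [← transpose_mul]; simp⟩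
  left_inv _ := rfl
  right_inv _ := rfl
  map_mul' a b := Units.ext (by simp [Matrix.mul_inv_rev])

theorem invT_coe (g : GL ι F) : (invT g).1 = (g⁻¹).1ᵀ := rfl
theorem invT_inv_coe (g : GL ι F) : ((invT g)⁻¹).1 = g.1ᵀ := rfl

theorem card_lt_pairs (ι : Type*) [Fintype ι] [LinearOrder ι] :
    Nat.card {p : ι × ι // p.1 < p.2} = Fintype.card ι * (Fintype.card ι - 1) / 2 := by
  rw [← Nat.choose_two_right, ← Sym2.card_subtype_not_diag, ← Nat.card_eq_fintype_card]
  refine Nat.card_eq_of_bijective (fun p => ⟨s(p.1.1, p.1.2), by simpa using p.2.ne⟩) ⟨?_, ?_⟩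
  · rintro ⟨⟨a, b⟩, h⟩ ⟨⟨c, d⟩, h'⟩ e
    simp only [Subtype.mk.injEq, Sym2.eq_iff] at e
    rcases e with ⟨rfl, rfl⟩ | ⟨rfl, rfl⟩
    exacts [rfl, (lt_asymm h h').elim]
  · rintro ⟨⟨a, b⟩, h⟩
    rcases lt_or_gt_of_ne (show a ≠ b from h) with h | h
    exacts [⟨⟨(a, b), h⟩, rfl⟩, ⟨⟨(b, a), h⟩, Subtype.ext Sym2.eq_swap⟩]

theorem card_upper [Fintype F] {ι : Type*} [Fintype ι] [DecidableEq ι] [LinearOrder ι] :
    Nat.card {g : GL ι F // ∀ i j, j < i → g.1 i j = 0} =
      Fintype.card F ^ (Fintype.card ι * (Fintype.card ι - 1) / 2) * (Fintype.card F - 1) ^ Fintype.card ι := by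
  rw [← card_lt_pairs, ← card_units_eq, ← Nat.card_eq_fintype_card, ← Nat.card_eq_fintype_card, ← Nat.card_fun, ← Nat.card_fun,
    ← Nat.card_prod]
  let M (x : ({p : ι × ι // p.1 < p.2} → F) × (ι → Fˣ)) : Matrix ι ι F :=
    fun i j => if h : i < j then x.1 ⟨(i, j), h⟩ else if i = j then x.2 i else 0
  have t : ∀ x, ∀ i j, j < i → M x i j = 0 := fun x i j h => by simp [M, h.ne', h.not_gt]
  have d : ∀ A : Matrix ι ι F, (∀ i j, j < i → A i j = 0) → A.det = ∏ i, A i i := fun A h => by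
    convert det_of_isUpperTriangular (M := A) h
  refine (Nat.card_eq_of_bijective (fun x => ⟨GeneralLinearGroup.mkOfDetNeZero (M x) (by
    rw [d _ (t x)]; simp [M, Finset.prod_eq_zero_iff]), t x⟩) ⟨fun x y e => ?_, fun ⟨g, hg⟩ => ?_⟩).symm
  · have k : ∀ i j, M x i j = M y i j := fun i j => congrArg (fun g => g.1.1 i j) e
    exact Prod.ext (funext fun p => by simpa [M, p.2] using k p.1.1 p.1.2) (funext fun i => Units.ext (by simpa [M] using k i i))
  · have n := g.det_ne_zero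
    rw [d _ hg, Finset.prod_ne_zero_iff] at n
    refine ⟨(fun p => g.1 p.1.1 p.1.2, fun i => Units.mk0 _ (n i (Finset.mem_univ _))), Subtype.ext (Units.ext (Matrix.ext fun i j => ?_))⟩
    change M _ i j = _
    rcases lt_trichotomy i j with h | rfl | h
    exacts [dif_pos h, by simp [M], (t _ _ _ h).trans (hg _ _ h).symm]

theorem mem_stab_coord {p : ι → Prop} {g : GL ι F} :
    (∀ v : ι → F, (∀ i, p i → v i = 0) ↔ ∀ i, p i → (g.1 *ᵥ v) i = 0) ↔ ∀ i j, p i → ¬ p j → g.1 i j = 0 := by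
  refine ⟨fun h i j hi hj => by
    simpa using (h (Pi.single j 1)).1 (fun k hk => Pi.single_eq_of_ne (by rintro rfl; exact hj hk) _) i hi, fun h => ?_⟩
  let W : Submodule F (ι → F) := ⨅ i, ⨅ _ : p i, LinearMap.ker (LinearMap.proj i)
  have : glEquiv g ∈ stabSub W := mem_stabSub'.2 fun v hv => by
    simp only [W, Submodule.mem_iInf, LinearMap.mem_ker, LinearMap.proj_apply] at hv ⊢
    exact fun i hi => Finset.sum_eq_zero fun j _ => by by_cases hj : p j <;> simp [hv, h, *]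
  simpa [W, mem_stabSub] using this

theorem exists_vecMulVec {κ : Type*} [Fintype κ] {M : Matrix ι κ F} (h : M.rank = 1) : ∃ u φ, u ≠ 0 ∧ φ ≠ 0 ∧ M = vecMulVec u φ := by
  classical
  obtain ⟨u, u0, hu⟩ := finrank_eq_one_iff'.1 (id h)
  choose c hc using fun j => hu ⟨_, Pi.single j 1, rfl⟩
  have : M = vecMulVec u.1 c := Matrix.ext fun i j => by simpa [vecMulVec_apply, mul_comm] using (congrArg (·.1 i) (hc j)).symm
  exact ⟨u, c, by simpa using u0, fun e => by
    rw [show M = 0 by rw [this, e]; ext; simp [vecMulVec_apply], rank_zero] at h; omega, this⟩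

end H5
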