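import Cfsg.Agent.S5016
import Cfsg.Agent.S5032

/-!
Root subgroups `1 + k N` attached to a family of square zero elements `N` of an algebra with `N M N ∈ k N`.
-/

set_option autoImplicit false

namespace H5

open Subgroup Cfsg

theorem rankOne_map {G H : Type*} [Group G] [Group H] {A B : Subgroup G} (h : IsRankOnePair A B) {φ : G →* H}
    (hφ : Function.Injective φ) : IsRankOnePair (A.map φ) (B.map φ) := by
  have c : ∀ (A : Subgroup G) g, conjBy (A.map φ) (φ g)⁻¹ = (conjBy A g⁻¹).map φ := fun A g => by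
    rw [conjBy, map_map, map_map]; congr 1; ext; simp
  have k : ∀ {A B : Subgroup G}, RankOneCondition A B → RankOneCondition (A.map φ) (B.map φ) := by
    rintro A B h _ ⟨a, ha, rfl⟩ h1
    obtain ⟨b, hb, h2, e⟩ := h a ha (by rintro rfl; simp at h1)
    exact ⟨φ b, ⟨b, hb, rfl⟩, by simpa [map_eq_one_iff φ hφ], by rw [c, c, e]⟩
  have := h.2
  have := h.3
  exact ⟨(map_injective hφ).ne h.1, Group.nilpotent_of_mulEquiv (A.equivMapOfInjective φ hφ),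
    Group.nilpotent_of_mulEquiv (B.equivMapOfInjective φ hφ), k h.4, k h.5⟩

variable (k : Type*) [Field k] {R : Type*} [Ring R] [Algebra k R] {G : Type*} [Group G] (ρ : G →* R)

/-- The root subgroup of `N`. -/
def rt (N : R) : Subgroup G := closure {g | ∃ c : k, ρ g = 1 + c • N}

/-- A family of root elements. -/
structure RootData (S : Set R) : Prop where
  inj : Function.Injective ρ
  sq : ∀ N ∈ S, N * N = 0
  ne : ∀ N ∈ S, N ≠ 0
  mem : ∀ N ∈ S, ∃ g, ρ g = 1 + N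
  smul : ∀ N ∈ S, ∀ c : k, c ≠ 0 → c • N ∈ S
  conj : ∀ N ∈ S, ∀ g, ρ g * N * ρ g⁻¹ ∈ S
  ext : ∀ N ∈ S, ∀ M ∈ S, ∃ δ : k, N * M * N = δ • N ∧ M * N * M = δ • M ∧ (δ = 0 → N * M = M * N ∨ N * M - M * N ∈ S)

variable {k ρ} {S : Set R} {N M : R} {g : G}

theorem rho_inv {c : k} (hN : N * N = 0) (h : ρ g = 1 + c • N) : ρ g⁻¹ = 1 + (-c) • N := by
  have : (1 + c • N) * (1 + (-c) • N) = 1 := by simp [mul_add, add_mul, mul_sub, hN]
  calc ρ g⁻¹ = ρ g⁻¹ * (ρ g * (1 + (-c) • N)) := by rw [h, this, mul_one]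
    _ = _ := by rw [← mul_assoc, ← map_mul, inv_mul_cancel, map_one, one_mul]

theorem mem_rt (hN : N * N = 0) : g ∈ rt k ρ N ↔ ∃ c : k, ρ g = 1 + c • N := by
  refine ⟨fun h => ?_, fun h => subset_closure h⟩
  induction h using closure_induction with
  | mem g h => exact h
  | one => exact ⟨0, by simp⟩
  | mul _ _ _ _ h1 h2 =>
    obtain ⟨a, h1⟩ := h1
    obtain ⟨b, h2⟩ := h2
    exact ⟨a + b, by simp [h1, h2, mul_add, add_mul, hN, add_smul]; abel⟩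
  | inv _ _ h => exact ⟨_, rho_inv hN h.choose_spec⟩

theorem rt_smul {c : k} (hc : c ≠ 0) : rt k ρ (c • N) = rt k ρ N := by
  rw [rt, rt]; congr 1; ext g
  exact ⟨fun ⟨a, h⟩ => ⟨a * c, by rw [h, smul_smul]⟩, fun ⟨a, h⟩ => ⟨a / c, by rw [h, smul_smul, div_mul_cancel₀ _ hc]⟩⟩

theorem conjBy_rt (g : G) : conjBy (rt k ρ N) g = rt k ρ (ρ g * N * ρ g⁻¹) := by
  have e : ρ g * ρ g⁻¹ = 1 := by rw [← map_mul]; simp
  have e' : ρ g⁻¹ * ρ g = 1 := by rw [← map_mul]; simp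
  rw [rt, rt, conjBy, MonoidHom.map_closure]; congr 1; ext x
  constructor
  · rintro ⟨y, ⟨c, h⟩, rfl⟩
    exact ⟨c, by simp [h, mul_add, add_mul, e]⟩
  · rintro ⟨c, h⟩
    refine ⟨g⁻¹ * x * g, ⟨c, ?_⟩, by simp [mul_assoc]⟩
    simp only [map_mul, h, mul_add, add_mul, mul_one, one_mul, e', mul_smul_comm, smul_mul_assoc, mul_assoc]
    rw [← mul_assoc, e', one_mul]

theorem comm_eq {a b : G} {s t : k} (hN : N * N = 0) (hM : M * M = 0) (h1 : N * M * N = 0) (h2 : M * N * M = 0)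
    (ha : ρ a = 1 + s • N) (hb : ρ b = 1 + t • M) : ρ (a * b * a⁻¹ * b⁻¹) = 1 + (s * t) • (N * M - M * N) := by
  have e1 : ∀ x, N * (M * (N * x)) = 0 := fun x => by simp only [← mul_assoc, h1, zero_mul]
  have e2 : ∀ x, N * (N * x) = 0 := fun x => by simp only [← mul_assoc, hN, zero_mul]
  rw [mul_assoc] at h1 h2
  simp only [map_mul, ha, hb, rho_inv hN ha, rho_inv hM hb, mul_add, add_mul, mul_smul_comm, smul_mul_assoc, mul_assoc, one_mul,
    mul_one, hN, hM, h1, h2, e1, e2, smul_zero, mul_zero]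
  module

namespace RootData
variable (h : RootData k ρ S)
include h

theorem exists_mem (hN : N ∈ S) (c : k) : ∃ g, ρ g = 1 + c • N := by
  by_cases e : c = 0
  · exact ⟨1, by simp [e]⟩
  · exact h.mem _ (h.smul N hN c e)

theorem eq_one_iff (hN : N ∈ S) {c : k} (e : ρ g = 1 + c • N) : g = 1 ↔ c = 0 := by
  rw [← map_eq_one_iff ρ h.inj, e]; simp [h.ne N hN]

theorem eq_smul (hN : N ∈ S) (hM : M * M = 0) (e : rt k ρ N ≤ rt k ρ M) : ∃ c : k, N = c • M := by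
  obtain ⟨g, hg⟩ := h.exists_mem hN 1
  obtain ⟨c, hc⟩ := (mem_rt hM).1 (e (subset_closure ⟨1, hg⟩))
  exact ⟨c, by simpa [hg] using hc⟩

theorem ne_bot (hN : N ∈ S) : rt k ρ N ≠ ⊥ := fun e => by
  obtain ⟨g, hg⟩ := h.exists_mem hN 1
  have : g ∈ rt k ρ N := subset_closure ⟨1, hg⟩
  exact one_ne_zero ((h.eq_one_iff hN hg).1 (by rwa [e] at this))

theorem sl2_hom (hN : N ∈ S) (hM : M ∈ S) (h1 : N * M * N = N) (h2 : M * N * M = M) :
    ∃ φ : SL2 k →* G, Function.Injective φ ∧ (upperUnipotentSL2 k).map φ = rt k ρ N ∧ (lowerUnipotentSL2 k).map φ = rt k ρ M ∧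
      ∀ g, ρ (φ g) = 1 + (g 0 0 - 1) • (N * M) + g 0 1 • N + g 1 0 • M + (g 1 1 - 1) • (M * N) := by
  have hN2 := h.sq N hN
  have hM2 := h.sq M hM
  have e1 : ∀ x, N * (M * (N * x)) = N * x := fun x => by simp only [← mul_assoc, h1]
  have e2 : ∀ x, M * (N * (M * x)) = M * x := fun x => by simp only [← mul_assoc, h2]
  have e3 : ∀ x, N * (N * x) = 0 := fun x => by simp only [← mul_assoc, hN2, zero_mul]
  have e4 : ∀ x, M * (M * x) = 0 := fun x => by simp only [← mul_assoc, hM2, zero_mul]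
  have n1 : N * M ≠ 0 := fun e => h.ne N hN (by rw [← h1, e, zero_mul])
  have n2 : M * N ≠ 0 := fun e => h.ne M hM (by rw [← h2, e, zero_mul])
  rw [mul_assoc] at h1 h2
  let ψ : SL2 k →* R := MonoidHom.mk
    ⟨fun g => 1 + (g 0 0 - 1) • (N * M) + g 0 1 • N + g 1 0 • M + (g 1 1 - 1) • (M * N), by simp⟩ fun a b => by
      simp only [Matrix.SpecialLinearGroup.coe_mul, Matrix.mul_apply, Fin.sum_univ_two, mul_add, add_mul, mul_smul_comm,
        smul_mul_assoc, mul_assoc, one_mul, mul_one, hN2, hM2, h1, h2, e1, e2, e3, e4, smul_zero, mul_zero]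
      module
  have u : ∀ b, ψ (up b) = 1 + b • N := fun b => by simp [ψ, sl2]
  have l : ∀ b, ψ (sl2 1 0 b 1 (by simp)) = 1 + b • M := fun b => by simp [ψ, sl2]
  have : ∀ g, ∃ x, ρ x = ψ g := fun g => by
    have : (MonoidHom.range (ρ.toHomUnits)).comap ψ.toHomUnits = ⊤ := SL2_eq_top _ (fun b => by
      obtain ⟨x, hx⟩ := h.exists_mem hN b; exact mem_comap.2 ⟨x, Units.ext (hx.trans (u b).symm)⟩) (fun b => by
      obtain ⟨x, hx⟩ := h.exists_mem hM b; exact mem_comap.2 ⟨x, Units.ext (hx.trans (l b).symm)⟩)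
    exact (mem_comap.1 (this ▸ mem_top g :)).imp fun x hx => congrArg Units.val hx
  choose f hf using this
  let φ : SL2 k →* G := MonoidHom.mk' f fun a b => h.inj (by simp only [map_mul, hf])
  have hφ : ∀ g, ρ (φ g) = ψ g := hf
  refine ⟨φ, (injective_iff_map_eq_one φ).2 fun g e => ?_, ?_, ?_, hφ⟩
  · have e : (g 0 0 - 1) • (N * M) + g 0 1 • N + g 1 0 • M + (g 1 1 - 1) • (M * N) = 0 := by
      have := hφ g
      rw [e, map_one] at this
      simpa [ψ, add_assoc] using this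
    have a1 := congrArg (fun x => M * (x * N)) e
    have a2 := congrArg (fun x => M * (x * M)) e
    have a3 := congrArg (fun x => N * (x * N)) e
    have a4 := congrArg (fun x => N * (x * M)) e
    simp [mul_add, add_mul, mul_assoc, hN2, hM2, h1, h2, e3, e4, n1, n2, h.ne N hN, h.ne M hM, sub_eq_zero] at a1 a2 a3 a4
    ext i j; fin_cases i <;> fin_cases j <;> simp [*]
  · ext x
    simp only [mem_map, Agent.S5016.hup, mem_rt hN2]
    exact ⟨by rintro ⟨_, ⟨b, rfl⟩, rfl⟩; exact ⟨b, (hφ _).trans (u b)⟩,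
      fun ⟨b, e⟩ => ⟨_, ⟨b, rfl⟩, h.inj (((hφ _).trans (u b)).trans e.symm)⟩⟩
  · ext x
    simp only [mem_map, Agent.S5016.hlo, mem_rt hM2]
    exact ⟨by rintro ⟨_, ⟨b, rfl⟩, rfl⟩; exact ⟨b, (hφ _).trans (l b)⟩,
      fun ⟨b, e⟩ => ⟨_, ⟨b, rfl⟩, h.inj (((hφ _).trans (l b)).trans e.symm)⟩⟩

theorem sl2_hom' (hN : N ∈ S) (hM : M ∈ S) (h0 : N * M * N ≠ 0) :
    ∃ φ : SL2 k →* G, Function.Injective φ ∧ (upperUnipotentSL2 k).map φ = rt k ρ N ∧ (lowerUnipotentSL2 k).map φ = rt k ρ M := by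
  obtain ⟨δ, h1, h2, -⟩ := h.ext N hN M hM
  have d : δ ≠ 0 := by rintro rfl; simp [h1] at h0
  obtain ⟨φ, a, b, c, -⟩ := h.sl2_hom hN (h.smul M hM _ (inv_ne_zero d)) (by simp [h1, d]) (by simp [h2, d])
  exact ⟨φ, a, b, c.trans (rt_smul (inv_ne_zero d))⟩

theorem adj (hN : N ∈ S) (hM : M ∈ S) (h0 : N * M * N ≠ 0) : IsRankOnePair (rt k ρ N) (rt k ρ M) := by
  obtain ⟨φ, a, b, c⟩ := h.sl2_hom' hN hM h0
  exact b ▸ c ▸ rankOne_map (RankOnePair_symm (Agent.S5016.result k).1.2) a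

theorem comm_bot (hN : N ∈ S) (hM : M ∈ S) (e : N * M = M * N) : ⁅rt k ρ N, rt k ρ M⁆ = ⊥ := by
  refine eq_bot_iff.2 (commutator_le.2 fun a ha b hb => commutatorElement_eq_one_iff_mul_comm.2 (h.inj ?_))
  obtain ⟨s, ha⟩ := (mem_rt (h.sq N hN)).1 ha
  obtain ⟨t, hb⟩ := (mem_rt (h.sq M hM)).1 hb
  simp only [map_mul, ha, hb, mul_add, add_mul, mul_smul_comm, smul_mul_assoc, one_mul, mul_one, e]
  module

theorem comm_case (hN : N ∈ S) (hM : M ∈ S) (h1 : N * M * N = 0) (h2 : M * N * M = 0) (hC : N * M - M * N ∈ S) :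
    RootCommutatorCase (rt k ρ '' S) (rt k ρ N) (rt k ρ M) := by
  have hN2 := h.sq N hN
  have hM2 := h.sq M hM
  have L : ⁅rt k ρ N, rt k ρ M⁆ ≤ rt k ρ (N * M - M * N) := commutator_le.2 fun a ha b hb => by
    obtain ⟨s, ha⟩ := (mem_rt hN2).1 ha
    obtain ⟨t, hb⟩ := (mem_rt hM2).1 hb
    exact subset_closure ⟨_, comm_eq hN2 hM2 h1 h2 ha hb⟩
  have A : ∀ a ∈ rt k ρ N, a ≠ 1 → rt k ρ (N * M - M * N) ≤ closure ((fun b : G => a * b * a⁻¹ * b⁻¹) '' (rt k ρ M : Set G)) :=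
    fun a ha a1 => closure_mono fun x ⟨c, hx⟩ => by
      obtain ⟨s, ha⟩ := (mem_rt hN2).1 ha
      obtain ⟨b, hb⟩ := h.exists_mem hM (c / s)
      refine ⟨b, subset_closure ⟨_, hb⟩, h.inj ?_⟩
      rw [comm_eq hN2 hM2 h1 h2 ha hb, hx, mul_div_cancel₀ _ (mt (h.eq_one_iff hN ha).2 a1)]
  have B : ∀ b ∈ rt k ρ M, b ≠ 1 → rt k ρ (N * M - M * N) ≤ closure ((fun a : G => a * b * a⁻¹ * b⁻¹) '' (rt k ρ N : Set G)) :=
    fun b hb b1 => closure_mono fun x ⟨c, hx⟩ => by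
      obtain ⟨s, hb⟩ := (mem_rt hM2).1 hb
      obtain ⟨a, ha⟩ := h.exists_mem hN (c / s)
      refine ⟨a, subset_closure ⟨_, ha⟩, h.inj ?_⟩
      rw [comm_eq hN2 hM2 h1 h2 ha hb, hx, div_mul_cancel₀ _ (mt (h.eq_one_iff hM hb).2 b1)]
  have A' : ∀ a ∈ rt k ρ N, closure ((fun b : G => a * b * a⁻¹ * b⁻¹) '' (rt k ρ M : Set G)) ≤ ⁅rt k ρ N, rt k ρ M⁆ :=
    fun a ha => (closure_le _).2 (by rintro _ ⟨b, hb, rfl⟩; exact commutator_mem_commutator ha hb)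
  obtain ⟨a, ha⟩ := h.exists_mem hN 1
  have E := L.antisymm ((A a (subset_closure ⟨_, ha⟩) (by simp [h.eq_one_iff hN ha])).trans (A' a (subset_closure ⟨_, ha⟩)))
  refine ⟨⟨_, hC, E.symm⟩, fun c hc x hx => ?_, fun a ha a1 => (A' a ha).antisymm (L.trans (A a ha a1)), fun b hb b1 =>
    le_antisymm ((closure_le _).2 (by rintro _ ⟨a, ha, rfl⟩; exact commutator_mem_commutator ha hb)) (L.trans (B b hb b1))⟩
  have e1 : (N * M - M * N) * N = N * (N * M - M * N) := by simp [sub_mul, mul_sub, mul_assoc M, ← mul_assoc N, hN2, h1]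
  have e2 : (N * M - M * N) * M = M * (N * M - M * N) := by simp [sub_mul, mul_sub, mul_assoc N, ← mul_assoc M, hM2, h2]
  have : rt k ρ N ⊔ rt k ρ M ≤ centralizer (rt k ρ (N * M - M * N)) := sup_le
    (le_centralizer_iff.1 (commutator_eq_bot_iff_le_centralizer.1 (h.comm_bot hC hN e1)))
    (le_centralizer_iff.1 (commutator_eq_bot_iff_le_centralizer.1 (h.comm_bot hC hM e2)))
  exact this hx c (L hc)

theorem rootSet (hg : ⨆ A ∈ rt k ρ '' S, A = ⊤) : IsRootSubgroupSet (rt k ρ '' S) := by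
  refine ⟨?_, ?_, hg, ?_, ?_⟩
  · rintro _ ⟨N, hN, rfl⟩
    exact (commutator_eq_bot_iff_le_centralizer.1 (h.comm_bot hN hN rfl) |> le_centralizer_iff_isMulCommutative.1)
  · rintro _ ⟨N, hN, rfl⟩; exact h.ne_bot hN
  · rintro _ ⟨N, hN, rfl⟩ g; exact ⟨_, h.conj N hN g, (conjBy_rt g).symm⟩
  · rintro _ ⟨N, hN, rfl⟩ _ ⟨M, hM, rfl⟩
    obtain ⟨δ, h1, h2, h3⟩ := h.ext N hN M hM
    by_cases d : δ = 0
    · rw [d, zero_smul] at h1 h2
      exact (h3 d).imp (h.comm_bot hN hM) fun e => .inr (h.comm_case hN hM h1 h2 e)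
    · exact .inr (.inl (h.adj hN hM (by simp [h1, d, h.ne N hN])))

theorem ne_of_adj (hN : N ∈ S) (hM : M ∈ S) (e : IsRankOnePair (rt k ρ N) (rt k ρ M)) : N * M * N ≠ 0 := fun h1 => by
  have hN2 := h.sq N hN
  have hM2 := h.sq M hM
  obtain ⟨δ, h1', h2, -⟩ := h.ext N hN M hM
  rw [show δ = 0 by simpa [h1, h.ne N hN] using h1'.symm, zero_smul] at h2
  obtain ⟨a, ha⟩ := h.exists_mem hN 1
  obtain ⟨b, hb, -, H⟩ := e.4 a (subset_closure ⟨_, ha⟩) (by simp [h.eq_one_iff hN ha])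
  obtain ⟨t, hb⟩ := (mem_rt hM2).1 hb
  rw [conjBy_rt, conjBy_rt] at H
  obtain ⟨c, H⟩ := h.eq_smul (h.conj N hN _) (h.sq _ (h.conj M hM _)) H.le
  have c0 : c ≠ 0 := by rintro rfl; exact h.ne _ (h.conj N hN _) (H.trans (zero_smul _ _))
  rw [inv_inv, inv_inv, rho_inv hM2 hb, rho_inv hN2 ha, ha, hb] at H
  have e3 : ∀ x, N * (N * x) = 0 := fun x => by simp only [← mul_assoc, hN2, zero_mul]
  rw [mul_assoc] at h1 h2
  have a1 : M * N = 0 := by simpa [mul_add, add_mul, mul_assoc, hN2, hM2, h1, h2, e3, c0] using (congrArg (· * N) H).symm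
  have a2 : N * M = 0 := by simpa [mul_add, add_mul, mul_assoc, hN2, hM2, h1, h2, e3, c0] using (congrArg (N * ·) H).symm
  simp [mul_add, add_mul, mul_assoc, a1, a2] at H
  exact e.1 (H ▸ rt_smul c0)

theorem kRootSet (hg : ⨆ A ∈ rt k ρ '' S, A = ⊤) : IsKRootSubgroupSet k (rt k ρ '' S) := by
  refine ⟨h.rootSet hg, ?_⟩
  rintro _ ⟨N, hN, rfl⟩ _ ⟨M, hM, rfl⟩ e
  obtain ⟨φ, a, b, c⟩ := h.sl2_hom' hN hM (h.ne_of_adj hN hM e)
  refine ⟨φ, ?_, by simp [(MonoidHom.ker_eq_bot_iff φ).2 a], b, c⟩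
  rw [← b, ← c, ← Subgroup.map_sup, sup_comm, (Agent.S5016.result k).1.1, MonoidHom.range_eq_map]

theorem degenerate (hd : ∀ N ∈ S, ∀ M ∈ S, N * M * N = 0 → N * M = M * N) : IsDegenerateRootSet (rt k ρ '' S) := by
  rintro _ ⟨N, hN, rfl⟩ _ ⟨M, hM, rfl⟩ ⟨⟨C, hC, e⟩, H, -⟩
  by_cases h0 : N * M * N = 0
  · exact h.ne_bot hC (e.trans (h.comm_bot hN hM (hd N hN M hM h0)))
  obtain ⟨φ, a, b, c⟩ := h.sl2_hom' hN hM h0
  have u : φ (up 1) ∈ rt k ρ N := b ▸ ⟨_, (Agent.S5016.hup _).2 ⟨1, rfl⟩, rfl⟩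
  have l : φ (sl2 1 0 1 1 (by simp)) ∈ rt k ρ M := c ▸ ⟨_, (Agent.S5016.hlo _).2 ⟨1, rfl⟩, rfl⟩
  have := H _ (commutator_mem_commutator u l) _ (mem_sup_left u)
  rw [← map_commutatorElement, ← map_mul, ← map_mul, a.eq_iff, commutatorElement_def] at this
  simp only [sl2_inv, sl2_mul, sl2_eq_iff] at this
  grind

theorem connected (hg : ⨆ A ∈ rt k ρ '' S, A = ⊤) (hc : IsConjClassOfSubgroups (rt k ρ '' S)) (hN : N ∈ S) (hM : M ∈ S)
    (h0 : N * M * N ≠ 0) : IsConnectedFamily (FAdj (rt k ρ '' S)) (rt k ρ '' S) :=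
  (Agent.S5032.result (h.rootSet hg) ⟨_, ⟨N, hN, rfl⟩, _, ⟨M, hM, rfl⟩, (h.adj hN hM h0).1⟩).2
    ⟨hc, _, ⟨N, hN, rfl⟩, fun e => (e.2 _).1 ⟨⟨N, hN, rfl⟩, ⟨M, hM, rfl⟩, h.adj hN hM h0⟩⟩

theorem rt_le (hN : N ∈ S) : rt k ρ N ≤ ⨆ A ∈ rt k ρ '' S, A := le_iSup₂_of_le _ ⟨N, hN, rfl⟩ le_rfl

/-- Passing to a subgroup containing all root subgroups. -/
theorem sub {H : Subgroup G} (hH : ∀ N ∈ S, rt k ρ N ≤ H) : RootData k (ρ.comp H.subtype) S :=
  ⟨h.inj.comp H.subtype_injective, h.sq, h.ne, fun N hN => by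
    obtain ⟨g, hg⟩ := h.mem N hN
    exact ⟨⟨g, hH N hN (subset_closure ⟨1, by simpa using hg⟩)⟩, hg⟩, h.smul, fun N hN g => h.conj N hN g, h.ext⟩

theorem image_sub (H : Subgroup G) : (fun A => A.subgroupOf H) '' (rt k ρ '' S) = rt k (ρ.comp H.subtype) '' S := by
  rw [Set.image_image]
  exact Set.image_congr fun N hN => by ext g; rw [mem_subgroupOf, mem_rt (h.sq N hN), mem_rt (h.sq N hN)]; rfl

theorem gen_sub {H : Subgroup G} (hH : H = ⨆ A ∈ rt k ρ '' S, A) : ⨆ A ∈ rt k (ρ.comp H.subtype) '' S, A = ⊤ := by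
  rw [← h.image_sub, iSup_image]
  apply map_injective (subtype_injective _)
  rw [← MonoidHom.range_eq_map, range_subtype, Subgroup.map_iSup]
  refine (iSup_congr fun A => ?_).trans hH.symm
  rw [Subgroup.map_iSup]
  exact iSup_congr fun hA => map_subgroupOf_eq_of_le (hH ▸ le_iSup₂_of_le A hA le_rfl)

end RootData
end H5
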