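import Cfsg.Agent.H5.Root
import Cfsg.Agent.H5.SL
import Cfsg.Agent.H5.Om3

/-!
The root elements of the classical groups: linear, symplectic and unitary transvections, Siegel transformations.
-/

set_option autoImplicit false

namespace H5

open Subgroup Cfsg Matrix Module

theorem RootData.classOf {k : Type*} [Field k] {R : Type*} [Ring R] [Algebra k R] {G : Type*} [Group G] {ρ : G →* R} {S : Set R}
    (h : RootData k ρ S) (hg : ⨆ A ∈ rt k ρ '' S, A = ⊤) (hc : IsConnectedFamily (FAdj (rt k ρ '' S)) (rt k ρ '' S)) {N M : R}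
    (hN : N ∈ S) (hM : M ∈ S) (h0 : N * M * N ≠ 0) : IsRootSubgroupClass (rt k ρ '' S) :=
  ⟨h.rootSet hg, ((Agent.S5032.result (h.rootSet hg) ⟨_, ⟨N, hN, rfl⟩, _, ⟨M, hM, rfl⟩, (h.adj hN hM h0).1⟩).1 hc).1⟩

section lin
variable {k : Type*} [Field k] {ι : Type*} [Fintype ι] [DecidableEq ι]

variable (k ι) in
/-- Rank one nilpotent matrices. -/
def rk1 : Set (Matrix ι ι k) := {N | ∃ p φ, p ≠ 0 ∧ φ ≠ 0 ∧ φ ⬝ᵥ p = 0 ∧ N = vecMulVec p φ}

theorem det_one_add_vec (u v : ι → k) : (1 + vecMulVec u v).det = 1 + v ⬝ᵥ u := by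
  rw [vecMulVec_eq Unit, det_one_add_replicateCol_mul_replicateRow]

theorem rootData_SL : RootData k (SpecialLinearGroup.coeMonoidHom : SpecialLinearGroup ι k →* _) (rk1 k ι) where
  inj := Subtype.val_injective
  sq := by rintro _ ⟨p, φ, -, -, h, rfl⟩; simp [vecMulVec_mul_vecMulVec, h]
  ne := by rintro _ ⟨p, φ, h1, h2, -, rfl⟩; simp [h1, h2]
  mem := by rintro _ ⟨p, φ, -, -, h, rfl⟩; exact ⟨⟨1 + vecMulVec p φ, by rw [det_one_add_vec, h, add_zero]⟩, rfl⟩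
  smul := by rintro _ ⟨p, φ, h1, h2, h, rfl⟩ c hc; exact ⟨c • p, φ, by simp [h1, hc], h2, by simp [h], (smul_vecMulVec ..).symm⟩
  conj := by
    rintro _ ⟨p, φ, h1, h2, h, rfl⟩ g
    have e : (g⁻¹).1 * g.1 = 1 := congrArg Subtype.val (inv_mul_cancel g)
    refine ⟨g.1 *ᵥ p, φ ᵥ* (g⁻¹).1, fun H => h1 ?_, fun H => h2 ?_, ?_, ?_⟩
    · rw [← one_mulVec p, ← e, ← mulVec_mulVec, H, mulVec_zero]
    · rw [← vecMul_one φ, ← e, ← vecMul_vecMul, H, zero_vecMul]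
    · rw [← dotProduct_mulVec, mulVec_mulVec, e, one_mulVec, h]
    · exact (congrArg (· * _) (mul_vecMulVec ..)).trans (vecMulVec_mul ..)
  ext := by
    rintro _ ⟨p, φ, h1, h2, h, rfl⟩ _ ⟨q, ψ, k1, k2, k, rfl⟩
    refine ⟨φ ⬝ᵥ q * ψ ⬝ᵥ p, by simp [vecMulVec_mul_vecMulVec, vecMulVec_smul, smul_smul, mul_comm],
      by simp [vecMulVec_mul_vecMulVec, vecMulVec_smul, smul_smul, mul_comm], fun d => ?_⟩
    simp only [vecMulVec_mul_vecMulVec]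
    by_cases a : φ ⬝ᵥ q = 0 <;> by_cases b : ψ ⬝ᵥ p = 0
    · simp [a, b]
    · exact .inr ⟨q, -(ψ ⬝ᵥ p) • φ, k1, by simp [b, h2], by simp [a], by simp [a]⟩
    · exact .inr ⟨p, (φ ⬝ᵥ q) • ψ, h1, by simp [a, k2], by simp [b], by simp [b]⟩
    · simp [a, b] at d

theorem exists_dot_two {u v : ι → k} (hu : u ≠ 0) (hv : v ≠ 0) : ∃ y, u ⬝ᵥ y = 1 ∧ v ⬝ᵥ y ≠ 0 := by
  obtain ⟨i, hi⟩ := Function.ne_iff.1 hu
  obtain ⟨j, hj⟩ := Function.ne_iff.1 hv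
  simp only [Pi.zero_apply] at hi hj
  by_cases a : v i = 0
  · by_cases b : u j = 0
    · exact ⟨Pi.single i (u i)⁻¹ + Pi.single j 1, by simp [b, hi], by simp [a, hj]⟩
    · exact ⟨Pi.single j (u j)⁻¹, by simp [b], by simp [b, hj]⟩
  · exact ⟨Pi.single i (u i)⁻¹, by simp [hi], by simp [a, hi]⟩

theorem rk1_isConj {N M : Matrix ι ι k} (hN : N ∈ rk1 k ι) (hM : M ∈ rk1 k ι) : IsConj N M := by
  have c : ∀ {A B x : Matrix ι ι k}, x.det ≠ 0 → x * A = B * x → IsConj A B := fun h e =>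
    ⟨((isUnit_iff_isUnit_det _).2 (Ne.isUnit h)).unit, e⟩
  obtain ⟨p, φ, h1, h2, h, rfl⟩ := hN
  obtain ⟨q, ψ, k1, k2, k, rfl⟩ := hM
  obtain ⟨χ, c1, c2⟩ := exists_dot_two h1 k1
  have d : (1 + vecMulVec (q - p) χ).det ≠ 0 := by rw [det_one_add_vec, dotProduct_comm]; simpa [c1]
  have e : (1 + vecMulVec (q - p) χ) *ᵥ p = q := by simp [add_mulVec, vecMulVec_mulVec, dotProduct_comm χ, c1]
  generalize 1 + vecMulVec (q - p) χ = x at d e
  have i := nonsing_inv_mul x (Ne.isUnit d)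
  have f0 : φ ᵥ* x⁻¹ ≠ 0 := fun H => h2 (by rw [← vecMul_one φ, ← i, ← vecMul_vecMul, H, zero_vecMul])
  have f1 : (φ ᵥ* x⁻¹) ⬝ᵥ q = 0 := by rw [← dotProduct_mulVec, ← e, mulVec_mulVec, i, one_mulVec, h]
  refine (c (B := vecMulVec q (φ ᵥ* x⁻¹)) d (by rw [mul_vecMulVec, vecMulVec_mul, e, vecMul_vecMul, i, vecMul_one])).trans ?_
  generalize φ ᵥ* x⁻¹ = φ at f0 f1
  obtain ⟨y, c1, c2⟩ := exists_dot_two k2 f0
  exact c (x := 1 + vecMulVec y (φ - ψ)) (by rw [det_one_add_vec]; simpa [c1])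
    (by simp [mul_vecMulVec, vecMulVec_mul, add_mulVec, vecMul_add, vecMulVec_mulVec, vecMul_vecMulVec, c1, f1, k])

theorem single_mem {i j : ι} (h : i ≠ j) {c : k} (hc : c ≠ 0) : single i j c ∈ rk1 k ι :=
  ⟨Pi.single i c, Pi.single j 1, by simp [hc], by simp, by simp [h.symm], by
    ext a b; simp [vecMulVec_apply, single_apply, Pi.single_apply, ite_and, eq_comm]; split_ifs <;> rfl⟩

theorem rk1_conj (h3 : 3 ≤ Fintype.card ι) {i j : ι} (h : i ≠ j) {c : k} (hc : c ≠ 0) {N : Matrix ι ι k} (hN : N ∈ rk1 k ι) :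
    ∃ g : SpecialLinearGroup ι k, g.1 * single i j c * (g⁻¹).1 = N := by
  obtain ⟨l, l1, l2⟩ := exists_third h3 i j
  obtain ⟨x, e⟩ := rk1_isConj (single_mem h hc) hN
  have d := ((isUnit_iff_isUnit_det _).1 x.isUnit).ne_zero
  let g : SpecialLinearGroup ι k := ⟨x * diagonal (Function.update 1 l x.1.det⁻¹), by
    simp [det_diagonal, Finset.prod_update_of_mem, d]⟩
  have : g.1 * single i j c = N * g.1 := by
    change x.1 * _ * _ = N * (x.1 * _)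
    rw [← mul_assoc, ← e.eq, mul_assoc, mul_assoc]; congr 1
    ext a b; simp only [diagonal_mul, mul_diagonal, single_apply]
    split_ifs with H
    · simp [← H.1, ← H.2, l1.symm, l2.symm]
    · simp
  exact ⟨g, by rw [this, mul_assoc, show g.1 * (g⁻¹).1 = 1 from congrArg Subtype.val (mul_inv_cancel g), mul_one]⟩

theorem gen_SL : ⨆ A ∈ rt k (SpecialLinearGroup.coeMonoidHom : SpecialLinearGroup ι k →* _) '' rk1 k ι, A = ⊤ :=
  eq_top_of_transvection_mem _ fun i j h c => rootData_SL.rt_le (single_mem h one_ne_zero) (subset_closure ⟨c, by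
    simp [SpecialLinearGroup.coeMonoidHom, SpecialLinearGroup.transvection, transvection]; rfl⟩)

end lin

namespace Form

section tv
variable {F : Type*} [Field F] {κ : Kind F} {V : Type*} [AddCommGroup V] [Module F V] {Φ : Form κ V}
  {k : Type*} [Field k] [Algebra k F] [Module k V] [IsScalarTower k F V] {G : Type*} [Group G]

/-- A homomorphism to the linear group, seen in the endomorphism ring. -/
def toEnd (φ : G →* V ≃ₗ[F] V) : G →* End F V := LinearEquiv.automorphismGroup.toLinearMapMonoidHom.comp φ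

@[simp] theorem toEnd_apply (φ : G →* V ≃ₗ[F] V) (g : G) (x : V) : toEnd φ g x = φ g x := rfl

theorem toEnd_inj {φ : G →* V ≃ₗ[F] V} (h : Function.Injective φ) : Function.Injective (toEnd φ) :=
  fun _ _ e => h (LinearEquiv.toLinearMap_injective e)

variable (Φ) in
/-- The nilpotent part of a transvection. -/
def tvN (p : V) (a : F) : End F V := (a • Φ.B.flip p).smulRight p

@[simp] theorem tvN_apply (p : V) (a : F) (x : V) : Φ.tvN p a x = (a * Φ.B x p) • p := rfl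

variable (Φ) in
/-- The nilpotent parts of transvections. -/
def tvS : Set (End F V) := {N | ∃ p a, p ≠ 0 ∧ Φ.Q p = 0 ∧ a ≠ 0 ∧ κ.π a = 0 ∧ N = Φ.tvN p a}

theorem tvN_smul (p : V) (a : F) (c : k) : c • Φ.tvN p a = Φ.tvN p (c • a) := by ext; simp

theorem tvN_three (p q : V) (a b : F) : Φ.tvN p a * Φ.tvN q b * Φ.tvN p a = (a * b * (Φ.B p q * Φ.B q p)) • Φ.tvN p a := by
  ext x; simp [smul_smul]; congr 1; ring

theorem Nondeg.tvN_ne (h : Φ.Nondeg) {p : V} {a : F} (hp : p ≠ 0) (ha : a ≠ 0) : Φ.tvN p a ≠ 0 := fun e => by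
  obtain ⟨x, hx⟩ := h.exists_ne hp
  simpa [ha, hx, hp] using LinearMap.congr_fun e x

theorem Nondeg.rootData_tv (h : Φ.Nondeg) {φ : G →* V ≃ₗ[F] V} (hφ : Function.Injective φ) (hi : ∀ g, φ g ∈ Φ.isom)
    (hT : ∀ u a hu hv ha, ∃ g, φ g = Φ.eich u 0 a hu hv ha) (hε : ∀ a, κ.π a = 0 → κ.π (κ.ε * a) = 0)
    (hs : ∀ (c : k) a, κ.π a = 0 → κ.π (c • a) = 0)
    (hk : ∀ a b x, κ.π a = 0 → κ.π b = 0 → ∃ δ : k, algebraMap k F δ = a * b * (x * (κ.ε * κ.σ x))) :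
    RootData k (toEnd φ) Φ.tvS where
  inj := toEnd_inj hφ
  sq := by rintro _ ⟨p, a, -, h, -, -, rfl⟩; ext; simp [Φ.B_self_of_Q h]
  ne := by rintro _ ⟨p, a, h1, -, h2, -, rfl⟩; exact h.tvN_ne h1 h2
  mem := by
    rintro _ ⟨p, a, -, h, -, h', rfl⟩
    obtain ⟨g, hg⟩ := hT p (-(κ.ε * a)) h (by simp) (by simp [hε a h'])
    exact ⟨g, by ext; simp [hg, eich_apply, mul_assoc]⟩
  smul := by
    rintro _ ⟨p, a, h1, h2, h3, h4, rfl⟩ c hc
    exact ⟨p, _, h1, h2, smul_ne_zero hc h3, hs c a h4, tvN_smul ..⟩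
  conj := by
    rintro _ ⟨p, a, h1, h2, h3, h4, rfl⟩ g
    exact ⟨φ g p, a, by simpa, ((hi g).2 p).trans h2, h3, h4, by ext; simp [isom_B_symm' (hi g)]⟩
  ext := by
    rintro _ ⟨p, a, h1, h2, h3, h4, rfl⟩ _ ⟨q, b, k1, k2, k3, k4, rfl⟩
    obtain ⟨δ, hδ⟩ := hk a b (Φ.B p q) h4 k4
    rw [← Φ.B_symm] at hδ
    refine ⟨δ, by rw [tvN_three, ← hδ, algebraMap_smul], by rw [tvN_three, mul_comm b, mul_comm (Φ.B q p), ← hδ, algebraMap_smul],
      fun d => .inl ?_⟩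
    have : Φ.B p q = 0 := by simpa [d, h3, k3, Φ.B_eq_zero_comm (x := q)] using hδ
    ext; simp [this, Φ.B_zero_symm this]

theorem tv_degenerate (h : Φ.Nondeg) : ∀ N ∈ Φ.tvS, ∀ M ∈ Φ.tvS, N * M * N = 0 → N * M = M * N := by
  rintro _ ⟨p, a, h1, h2, h3, h4, rfl⟩ _ ⟨q, b, k1, k2, k3, k4, rfl⟩ e
  have : Φ.B p q = 0 := by simpa [tvN_three, h3, k3, Φ.B_eq_zero_comm (x := q), h.tvN_ne h1 h3] using e
  ext; simp [this, Φ.B_zero_symm this]

theorem tv_three_ne (h : Φ.Nondeg) {p q : V} {a b : F} (hp : p ≠ 0) (ha : a ≠ 0) (hb : b ≠ 0) (e : Φ.B p q ≠ 0) :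
    Φ.tvN p a * Φ.tvN q b * Φ.tvN p a ≠ 0 := by simp [tvN_three, ha, hb, e, Φ.B_eq_zero_comm (x := q), h.tvN_ne hp ha]

theorem tv_connected [FiniteDimensional F V] (h : Φ.Nondeg) {ρ : G →* End F V} (H : RootData k ρ Φ.tvS) :
    IsConnectedFamily (FAdj (rt k ρ '' Φ.tvS)) (rt k ρ '' Φ.tvS) := by
  have A : ∀ p a q b, p ≠ 0 → Φ.Q p = 0 → a ≠ 0 → κ.π a = 0 → Φ.Q q = 0 → b ≠ 0 → κ.π b = 0 → Φ.B p q ≠ 0 →
      FAdj (rt k ρ '' Φ.tvS) (rt k ρ (Φ.tvN p a)) (rt k ρ (Φ.tvN q b)) := fun p a q b h1 h2 h3 h4 k2 k3 k4 e =>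
    have hN : Φ.tvN p a ∈ Φ.tvS := ⟨p, a, h1, h2, h3, h4, rfl⟩
    have hM : Φ.tvN q b ∈ Φ.tvS := ⟨q, b, by rintro rfl; simp at e, k2, k3, k4, rfl⟩
    ⟨⟨_, hN, rfl⟩, ⟨_, hM, rfl⟩, H.adj hN hM (tv_three_ne h h1 h3 k3 e)⟩
  rintro _ ⟨_, ⟨p, a, h1, h2, h3, h4, rfl⟩, rfl⟩ _ ⟨_, ⟨q, b, k1, k2, k3, k4, rfl⟩, rfl⟩
  by_cases e : Φ.B p q = 0
  · obtain ⟨u, u0, u1, u2⟩ := h.exists_sing_nonperp h2 h1 k1 (Φ.B_zero_symm e)
    exact .tail (.single (A p a u a h1 h2 h3 h4 u0 h3 h4 u1))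
      (A u a q b (by rintro rfl; simp at u1) u0 h3 h4 k2 k3 k4 (mt Φ.B_zero_symm u2))
  · exact .single (A p a q b h1 h2 h3 h4 k2 k3 k4 e)

theorem tv_class [FiniteDimensional F V] (h : Φ.Nondeg) {ρ : G →* End F V} (H : RootData k ρ Φ.tvS)
    (hg : ⨆ A ∈ rt k ρ '' Φ.tvS, A = ⊤) {e f : V} (hef : Φ.Hyp e f) (hκ : ∃ a, a ≠ 0 ∧ κ.π a = 0) :
    IsRootSubgroupClass (rt k ρ '' Φ.tvS) :=
  let ⟨a, h1, h2⟩ := hκ
  H.classOf hg (tv_connected h H) ⟨e, a, hef.e_ne, hef.1, h1, h2, rfl⟩ ⟨f, a, hef.f_ne, hef.2, h1, h2, rfl⟩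
    (tv_three_ne h hef.e_ne h1 h1 (by simp [hef.3]))

end tv

section siegel
variable {F : Type*} [Field F] {V : Type*} [AddCommGroup V] [Module F V] {Φ : Form (Kind.orth F) V} {G : Type*} [Group G]

variable (Φ) in
/-- The nilpotent part of a Siegel transformation. -/
def sgN (u v : V) : End F V := (Φ.B.flip u).smulRight v - (Φ.B.flip v).smulRight u

@[simp] theorem sgN_apply (u v x : V) : Φ.sgN u v x = Φ.B x u • v - Φ.B x v • u := rfl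

variable (Φ) in
/-- The nilpotent parts of Siegel transformations. -/
def sgS : Set (End F V) := {N | N ≠ 0 ∧ ∃ u v, Φ.Q u = 0 ∧ Φ.Q v = 0 ∧ Φ.B v u = 0 ∧ N = Φ.sgN u v}

theorem sgN_three {u v : V} (s t : V) : Φ.sgN u v * Φ.sgN s t * Φ.sgN u v =
    (Φ.B v s * Φ.B u t - Φ.B v t * Φ.B u s) • Φ.sgN u v := by
  ext x
  simp only [End.mul_apply, sgN_apply, map_sub, map_smul, LinearMap.sub_apply, LinearMap.smul_apply, Φ.orth_symm u s,
    Φ.orth_symm u t, Φ.orth_symm v s, Φ.orth_symm v t, smul_eq_mul]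
  module

theorem rank_one_two {a b c d : F} (h : c * b - d * a = 0) : ∃ α β γ δ, a = α * γ ∧ b = α * δ ∧ c = β * γ ∧ d = β * δ := by
  by_cases ha : a = 0
  · by_cases hb : b = 0
    · exact ⟨0, 1, c, d, by simp [ha, hb]⟩
    · exact ⟨b, d, 0, 1, by simpa [ha, hb] using h⟩
  · exact ⟨a, c, 1, b / a, by simp, by field_simp, by simp, by field_simp; linear_combination -h⟩

theorem rootData_sg {φ : G →* V ≃ₗ[F] V} (hφ : Function.Injective φ) (hi : ∀ g, φ g ∈ Φ.isom)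
    (hT : ∀ t ∈ Φ.isom, ∃ g, φ g = t) : RootData F (toEnd φ) Φ.sgS where
  inj := toEnd_inj hφ
  sq := by rintro _ ⟨-, u, v, h1, h2, h3, rfl⟩; ext; simp [Φ.B_self_of_Q h1, Φ.B_self_of_Q h2, h3, Φ.B_zero_symm h3]
  ne := fun _ h => h.1
  mem := by
    rintro _ ⟨-, u, v, h1, h2, h3, rfl⟩
    obtain ⟨g, hg⟩ := hT _ (Φ.eich_mem (a := 0) h1 h3 ((map_zero _).trans h2.symm))
    exact ⟨g, by ext; rw [toEnd_apply, hg, eich_apply]; simp [add_sub_assoc]⟩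
  smul := by
    rintro _ ⟨h0, u, v, h1, h2, h3, rfl⟩ c hc
    exact ⟨smul_ne_zero hc h0, u, c • v, h1, Φ.Q_smul_zero h2 c, by simp [h3], by ext; simp [B_smul_right]; module⟩
  conj := by
    rintro _ ⟨h0, u, v, h1, h2, h3, rfl⟩ g
    refine ⟨fun e => h0 ?_, φ g u, φ g v, ((hi g).2 u).trans h1, ((hi g).2 v).trans h2, ((hi g).1 v u).trans h3,
      by ext; simp [isom_B_symm' (hi g)]⟩
    ext x
    simpa [-sgN_apply] using LinearMap.congr_fun e (φ g x)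
  ext := by
    rintro _ ⟨-, u, v, h1, h2, h3, rfl⟩ _ ⟨-, s, t, k1, k2, k3, rfl⟩
    refine ⟨_, sgN_three s t, by rw [sgN_three, Φ.orth_symm u s, Φ.orth_symm u t, Φ.orth_symm v s, Φ.orth_symm v t]; ring_nf,
      fun d => ?_⟩
    obtain ⟨α, β, γ, δ, e1, e2, e3, e4⟩ := rank_one_two d
    rw [← sub_eq_zero, or_iff_not_imp_left]
    refine fun H => ⟨H, α • v - β • u, γ • t - δ • s, by simp [orth_sub, orth_smul, B_smul_right, h1, h2, h3],
      by simp [orth_sub, orth_smul, B_smul_right, k1, k2, k3], ?_, ?_⟩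
    · simp [B_smul_right, Φ.orth_symm u s, Φ.orth_symm u t, Φ.orth_symm v s, Φ.orth_symm v t, e1, e2, e3, e4]; ring
    · ext x
      simp only [End.mul_apply, sgN_apply, map_sub, map_smul, LinearMap.sub_apply, LinearMap.smul_apply, Φ.orth_symm u s,
        Φ.orth_symm u t, Φ.orth_symm v s, Φ.orth_symm v t, smul_eq_mul, e1, e2, e3, e4, B_smul_right, Kind.orth_σ]
      module

variable [FiniteDimensional F V]

theorem Nondeg.sgN_ne (h : Φ.Nondeg) {u v : V} : Φ.sgN u v ≠ 0 ↔ u ≠ 0 ∧ v ∉ F ∙ u := by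
  refine ⟨fun H => ⟨by rintro rfl; exact H (by ext; simp), fun e => ?_⟩, fun ⟨h1, h2⟩ e => ?_⟩
  · obtain ⟨c, rfl⟩ := Submodule.mem_span_singleton.1 e
    exact H (by ext; simp [B_smul_right, smul_smul, mul_comm])
  · obtain ⟨x, e1, e2⟩ := h.exists_sep h2 1
    simpa [Φ.orth_symm v x, e1, Φ.orth_symm u x, e2 u (Submodule.mem_span_singleton_self u), h1] using LinearMap.congr_fun e x

theorem sg_connected (h : Φ.Nondeg) (h3 : Φ.HasTS 3) {ρ : G →* End F V} (H : RootData F ρ Φ.sgS) :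
    IsConnectedFamily (FAdj (rt F ρ '' Φ.sgS)) (rt F ρ '' Φ.sgS) := by
  let C := fun u v s t => Relation.ReflTransGen (FAdj (rt F ρ '' Φ.sgS)) (rt F ρ (Φ.sgN u v)) (rt F ρ (Φ.sgN s t))
  let P := fun u v => u ≠ 0 ∧ v ∉ F ∙ u ∧ Φ.Q u = 0 ∧ Φ.Q v = 0 ∧ Φ.B v u = 0
  have m : ∀ {u v}, P u v → Φ.sgN u v ∈ Φ.sgS := fun ⟨a, b, c⟩ => ⟨h.sgN_ne.2 ⟨a, b⟩, _, _, c.1, c.2.1, c.2.2, rfl⟩
  have sw : ∀ u v, rt F ρ (Φ.sgN u v) = rt F ρ (Φ.sgN v u) := fun u v => by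
    rw [← rt_smul (c := -1) (by simp)]; congr 1; ext; simp
  have sP : ∀ {u v}, P u v → P v u := fun {u v} hp => by
    have := (m hp).1
    rw [← neg_ne_zero, show -Φ.sgN u v = Φ.sgN v u by ext; simp, h.sgN_ne] at this
    exact ⟨this.1, this.2, hp.2.2.2.1, hp.2.2.1, Φ.B_zero_symm hp.2.2.2.2⟩
  have pr : ∀ {u s v}, Φ.Hyp u s → P u v → ∃ v' : Φ.perp (Submodule.span F {u, s}), v' ≠ 0 ∧ Φ.Q v' = 0 ∧
      ∀ t, Φ.B t u = 0 → Φ.B t v' = Φ.B t v := fun {u s v} hs ⟨a, b, c, d, e⟩ =>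
    ⟨⟨v - Φ.B v s • u, Φ.mem_perp_pair.2 ⟨by simp [e, hs.Bee], by simp [hs.3]⟩⟩, fun H => b (by
      rw [sub_eq_zero.1 (congrArg Subtype.val H)]; exact Submodule.smul_mem _ _ (Submodule.mem_span_singleton_self u)),
      by simp [orth_sub, d, orth_smul, c, B_smul_right, e], fun t ht => by simp [B_smul_right, ht]⟩
  have L1 : ∀ {u v w}, P u v → P u w → Φ.B w v = 0 → C u v u w := fun {u v w} hv hw b => by
    obtain ⟨s, hs⟩ := h.exists_hyp hv.2.2.1 hv.1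
    obtain ⟨v', v0, v1, v2⟩ := pr hs hv
    obtain ⟨w', w0, w1, w2⟩ := pr hs hw
    obtain ⟨t, t0, t1, t2⟩ := (hs.perp_nondeg h).exists_sing_nonperp v1 v0 w0 (by
      rw [res_B, v2 _ (Φ.mem_perp_pair.1 w'.2).1, orth_symm, w2 _ hv.2.2.2.2, orth_symm, b])
    obtain ⟨t3, t4⟩ := Φ.mem_perp_pair.1 t.2
    rw [res_B, orth_symm] at t1 t2
    rw [v2 _ t3, orth_symm] at t1
    rw [w2 _ t3, orth_symm] at t2
    have hP : P s t := ⟨hs.f_ne, fun e => by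
      obtain ⟨c, e⟩ := Submodule.mem_span_singleton.1 e
      rw [← e] at t1 t3
      simp [hs.Bfe] at t3; simp [t3] at t1, hs.2, t0, t4⟩
    have A : ∀ {v}, P u v → Φ.B v t ≠ 0 → IsRankOnePair (rt F ρ (Φ.sgN u v)) (rt F ρ (Φ.sgN s t)) := fun hv e =>
      H.adj (m hv) (m hP) (by simp [sgN_three, Φ.B_zero_symm t3, hs.3, e, (m hv).1])
    exact .tail (.single ⟨⟨_, m hv, rfl⟩, ⟨_, m hP, rfl⟩, A hv t1⟩) ⟨⟨_, m hP, rfl⟩, ⟨_, m hw, rfl⟩, RankOnePair_symm (A hw t2)⟩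
  have Z : ∀ {W : Submodule F V} {k : ℕ} {x y : W}, (Φ.res W).Nondeg → (Φ.res W).HasTS 2 → Φ.Q x = 0 → Φ.Q y = 0 → Φ.B x y ≠ 0 →
      ∃ z : W, z ≠ 0 ∧ Φ.Q z = 0 ∧ Φ.B z x = 0 ∧ Φ.B z y = 0 := fun {W k x y} hW h2 hx hy b => by
    have := ((exists_hyp_of_B_ne (Φ := Φ.res W) hx hy b).hasTS_succ_iff hW 1).1 h2
    rw [hasTS_one_iff, Aniso] at this
    push Not at this
    obtain ⟨z, z0, z1⟩ := this
    have := (Φ.res W).mem_perp_pair.1 z.2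
    exact ⟨z, by simpa using z1, z0, this.1, by simpa [B_smul_right, b] using this.2⟩
  have L2 : ∀ {u v w}, P u v → P u w → C u v u w := fun {u v w} hv hw => by
    by_cases b : Φ.B w v = 0
    · exact L1 hv hw b
    obtain ⟨s, hs⟩ := h.exists_hyp hv.2.2.1 hv.1
    obtain ⟨v', v0, v1, v2⟩ := pr hs hv
    obtain ⟨w', w0, w1, w2⟩ := pr hs hw
    obtain ⟨z, z0, z1, z2, z3⟩ := Z (k := 0) (hs.perp_nondeg h) ((hs.hasTS_succ_iff h 2).1 h3) w1 v1 (by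
      rwa [v2 _ (Φ.mem_perp_pair.1 w'.2).1, orth_symm, w2 _ hv.2.2.2.2, orth_symm])
    obtain ⟨t3, t4⟩ := Φ.mem_perp_pair.1 z.2
    have hP : P u z := ⟨hv.1, fun e => by
      obtain ⟨c, e⟩ := Submodule.mem_span_singleton.1 e
      rw [← e] at t4
      simp [hs.3] at t4; exact z0 (Subtype.ext (by simp [← e, t4])), hv.2.2.1, z1, t3⟩
    exact (L1 hv hP (v2 _ t3 ▸ z3)).trans (L1 hP hw (Φ.B_zero_symm (w2 _ t3 ▸ z2)))
  have L3 : ∀ {u v s t}, P u v → P s t → Φ.B s u = 0 → C u v s t := fun {u v s t} hv ht b => by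
    by_cases e : s ∈ F ∙ u
    · obtain ⟨c, rfl⟩ := Submodule.mem_span_singleton.1 e
      have c0 : c ≠ 0 := by rintro rfl; simpa using ht.1
      have : Φ.sgN (c • u) t = c • Φ.sgN u t := by ext; simp [B_smul_right]; module
      simp only [C, this, rt_smul c0]
      exact L2 hv ⟨hv.1, by simpa [Submodule.span_singleton_smul_eq (Ne.isUnit c0)] using ht.2.1, hv.2.2.1, ht.2.2.2.1,
        by simpa [B_smul_right, c0] using ht.2.2.2.2⟩
    · have hP : P u s := ⟨hv.1, e, hv.2.2.1, ht.2.2.1, b⟩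
      exact (L2 hv hP).trans (sw s u ▸ L2 (sP hP) ht)
  rintro _ ⟨_, ⟨h0, u, v, h1, h2, h4, rfl⟩, rfl⟩ _ ⟨_, ⟨k0, s, t, k1, k2, k4, rfl⟩, rfl⟩
  have hv : P u v := ⟨(h.sgN_ne.1 h0).1, (h.sgN_ne.1 h0).2, h1, h2, h4⟩
  have ht : P s t := ⟨(h.sgN_ne.1 k0).1, (h.sgN_ne.1 k0).2, k1, k2, k4⟩
  by_cases b : Φ.B s u = 0
  · exact L3 hv ht b
  have := ((exists_hyp_of_B_ne k1 h1 b).hasTS_succ_iff h 1).1 (h3.mono (by omega))
  rw [hasTS_one_iff, Aniso] at this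
  push Not at this
  obtain ⟨z, z0, z1⟩ := this
  obtain ⟨z2, z3⟩ := Φ.mem_perp_pair.1 z.2
  have hP : P z s := ⟨by simpa using z1, fun e => by
    obtain ⟨c, e⟩ := Submodule.mem_span_singleton.1 e
    simp [B_smul_right, b] at z3
    simp [← e, z3] at b, z0, k1, Φ.B_zero_symm z2⟩
  exact (L3 hv hP (by simpa [B_smul_right, b] using z3)).trans (sw s z ▸ L2 (sP hP) ht)

end siegel
end Form
end H5
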