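import Mathlib

/-!
Symmetric and alternating groups: coset enumeration for Coxeter type `A` (`coxA_card`), stabilisers of
uniform partitions (`pstab`), automorphisms of `A_n` (`aut_alt`).
-/

set_option autoImplicit false

namespace H5

open Equiv Equiv.Perm Subgroup

section cox
variable {G : Type*} [Group G]

/-- The product `s j * s (j+1) * ⋯` with `d` factors. -/
def coxT (s : ℕ → G) : ℕ → ℕ → G
  | _, 0 => 1
  | j, d + 1 => s j * coxT s (j + 1) d

theorem coxA_card (s : ℕ → G) (n : ℕ) (h1 : ∀ i < n, s i * s i = 1)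
    (h2 : ∀ i j, i + 1 < j → j < n → s i * s j = s j * s i)
    (h3 : ∀ i, i + 1 < n → s i * s (i + 1) * s i = s (i + 1) * s i * s (i + 1)) :
    Finite (closure (s '' Set.Iio n)) ∧ Nat.card (closure (s '' Set.Iio n)) ≤ (n + 1).factorial := by
  induction n with
  | zero =>
    have : s '' Set.Iio 0 = ∅ := by simp
    rw [this, Subgroup.closure_empty]; exact ⟨inferInstance, by simp⟩
  | succ n ih =>
    obtain ⟨f, c⟩ := ih (fun i h => h1 i (by omega)) (fun i j a b => h2 i j a (by omega))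
      (fun i h => h3 i (by omega))
    have A : ∀ i d j, i + 1 < j → j + d ≤ n + 1 → s i * coxT s j d = coxT s j d * s i := by
      intro i d
      induction d with
      | zero => intro j _ _; simp [coxT]
      | succ d ih =>
        intro j a b
        rw [coxT, ← mul_assoc, h2 i j a (by omega), mul_assoc, ih _ (by omega) (by omega), mul_assoc]
    have B : ∀ i d j, j ≤ i → i + 1 < j + d → j + d ≤ n + 1 → s (i + 1) * coxT s j d = coxT s j d * s i := by
      intro i d
      induction d with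
      | zero => intro j _ _ _; omega
      | succ d ih =>
        intro j a b c
        rcases a.eq_or_lt with rfl | a
        · obtain ⟨d, rfl⟩ : ∃ e, d = e + 1 := ⟨d - 1, by omega⟩
          rw [coxT, coxT, ← mul_assoc, ← mul_assoc, ← h3 j (by omega), mul_assoc, A j d _ (by omega) (by omega)]
          simp only [mul_assoc]
        · rw [coxT, ← mul_assoc, ← h2 j (i + 1) (by omega) (by omega), mul_assoc,
            ih _ (by omega) (by omega) (by omega), mul_assoc]
    have C : ∀ x ∈ closure (s '' Set.Iio (n + 1)),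
        ∃ p : Fin (n + 2) × closure (s '' Set.Iio n), x = coxT s p.1 (n + 1 - p.1) * p.2 := by
      have D : ∀ i < n + 1, ∀ x, (∃ p : Fin (n + 2) × closure (s '' Set.Iio n), x = coxT s p.1 (n + 1 - p.1) * p.2) →
          ∃ p : Fin (n + 2) × closure (s '' Set.Iio n), s i * x = coxT s p.1 (n + 1 - p.1) * p.2 := by
        rintro i hi _ ⟨⟨⟨j, hj⟩, h⟩, rfl⟩
        dsimp only
        rcases lt_trichotomy (i + 1) j with a | rfl | a
        · refine ⟨(⟨j, hj⟩, ⟨s i, subset_closure ⟨i, by simp; omega, rfl⟩⟩ * h), ?_⟩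
          rw [← mul_assoc, A i _ j a (by omega), mul_assoc]; rfl
        · refine ⟨(⟨i, by omega⟩, h), ?_⟩
          dsimp only
          rw [show n + 1 - i = n + 1 - (i + 1) + 1 by omega, coxT, mul_assoc]
        · rcases (show j ≤ i by omega).eq_or_lt with rfl | a
          · refine ⟨(⟨j + 1, by omega⟩, h), ?_⟩
            dsimp only
            rw [show n + 1 - j = n + 1 - (j + 1) + 1 by omega, coxT, ← mul_assoc, ← mul_assoc, h1 j hi, one_mul]
          · obtain ⟨i, rfl⟩ : ∃ k, i = k + 1 := ⟨i - 1, by omega⟩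
            refine ⟨(⟨j, hj⟩, ⟨s i, subset_closure ⟨i, by simp; omega, rfl⟩⟩ * h), ?_⟩
            rw [← mul_assoc, B i _ j (by omega) (by omega) (by omega), mul_assoc]; rfl
      intro x hx
      induction hx using closure_induction_left with
      | one => exact ⟨(⟨n + 1, by omega⟩, 1), by simp [coxT]⟩
      | mul_left a ha y _ ih => obtain ⟨i, hi, rfl⟩ := ha; exact D i hi y ih
      | inv_mul_cancel a ha y _ ih =>
        obtain ⟨i, hi, rfl⟩ := ha
        rw [inv_eq_of_mul_eq_one_right (h1 i hi)]; exact D i hi y ih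
    choose p hp using C
    have I : Function.Injective fun x : closure (s '' Set.Iio (n + 1)) => p x.1 x.2 := fun x y h =>
      Subtype.ext (by rw [hp x.1 x.2, hp y.1 y.2]; dsimp only at h; rw [h])
    refine ⟨Finite.of_injective _ I, (Nat.card_le_card_of_injective _ I).trans ?_⟩
    rw [Nat.card_prod, Nat.card_eq_fintype_card, Fintype.card_fin, Nat.factorial_succ (n + 1)]
    exact Nat.mul_le_mul_left _ c

end cox

section part
variable {Ω : Type*} [DecidableEq Ω] {β : Type*} {f : Ω → β}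

/-- The stabiliser of the partition into fibres of `f`. -/
def pstab (f : Ω → β) : Subgroup (Perm Ω) where
  carrier := {g | ∀ x y, f x = f y ↔ f (g x) = f (g y)}
  one_mem' := by simp
  mul_mem' := fun {a b} ha hb x y => (hb x y).trans (ha _ _)
  inv_mem' := fun {a} ha x y => by rw [ha (a⁻¹ x) (a⁻¹ y)]; simp

omit [DecidableEq Ω] in
theorem mem_pstab {g : Perm Ω} : g ∈ pstab f ↔ ∀ x y, f x = f y ↔ f (g x) = f (g y) := Iff.rfl

omit [DecidableEq Ω] in
theorem closure_pstab (f : Ω → β) :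
    closure {g : Perm Ω | ∀ x y : Ω, f x = f y ↔ f (g x) = f (g y)} = pstab f := closure_eq (pstab f)

theorem f_swap {x y : Ω} (h : f x = f y) (z : Ω) : f (swap x y z) = f z := by
  rw [swap_apply_def]; split_ifs <;> simp_all

theorem swap_mem_pstab {x y : Ω} (h : f x = f y) : swap x y ∈ pstab f := fun u v => by
  rw [f_swap h, f_swap h]

omit [DecidableEq Ω] in
theorem mem_pstab_of [Finite Ω] {g : Perm Ω} (h : ∀ x y, f x = f y → f (g x) = f (g y)) : g ∈ pstab f := by
  have H : ∀ k : ℕ, ∀ x y, f x = f y → f ((g ^ k) x) = f ((g ^ k) y) := fun k => by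
    induction k with
    | zero => simp
    | succ k ih => intro x y e; rw [pow_succ']; exact h _ _ (ih x y e)
  refine fun x y => ⟨h x y, fun e => ?_⟩
  have := H (orderOf g - 1) _ _ e
  rwa [← mul_apply, ← mul_apply, ← pow_succ, Nat.sub_add_cancel (orderOf_pos g), pow_orderOf_eq_one] at this

variable {a b : ℕ} {f : Ω → Fin b} [Fintype Ω] (hf : ∀ i, Nat.card {x // f x = i} = a)
include hf

theorem exists_fib : ∃ e : Ω ≃ Fin b × Fin a, ∀ x, (e x).1 = f x := by
  classical
  have := fun i => Finite.equivFinOfCardEq (hf i)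
  refine ⟨(sigmaFiberEquiv f).symm.trans ((sigmaCongrRight this).trans (sigmaEquivProd _ _)), fun x => rfl⟩

theorem card_fib : Fintype.card Ω = b * a := by
  obtain ⟨e, -⟩ := exists_fib hf; simpa using Fintype.card_congr e

theorem pstab_two {x y x' y' : Ω} (h : x ≠ y) (h' : x' ≠ y') (k : f x = f y ↔ f x' = f y') :
    ∃ g ∈ pstab f, g x = x' ∧ g y = y' := by
  obtain ⟨e, he⟩ := exists_fib hf
  obtain ⟨σ, h1, h2⟩ : ∃ σ : Perm (Fin b), σ (f x) = f x' ∧ σ (f y) = f y' := by
    by_cases c : f x = f y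
    · exact ⟨swap (f x) (f x'), by simp, by rw [← c, ← k.1 c]; simp⟩
    · have c' := mt k.2 c
      refine ⟨swap (swap (f x) (f x') (f y)) (f y') * swap (f x) (f x'), ?_, by simp⟩
      rw [mul_apply, swap_apply_left, swap_apply_of_ne_of_ne _ c']
      intro e; exact c ((swap (f x) (f x')).injective (by simpa using e))
  let g : Perm Ω := e.symm.permCongr (σ.prodCongr (Equiv.refl _))
  have hg : ∀ z, f (g z) = σ (f z) := fun z => by rw [← he, ← he]; simp [g]
  have g1 : g ∈ pstab f := fun u v => by rw [hg, hg, σ.injective.eq_iff]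
  have e1 : f (g x) = f x' := by rw [hg, h1]
  have e2 : f (swap (g x) x' (g y)) = f y' := by rw [f_swap e1, hg, h2]
  refine ⟨swap (swap (g x) x' (g y)) y' * swap (g x) x' * g,
    mul_mem (mul_mem (swap_mem_pstab e2) (swap_mem_pstab e1)) g1, ?_, by simp⟩
  rw [mul_apply, mul_apply, swap_apply_left, swap_apply_of_ne_of_ne _ h']
  intro e; exact h (g.injective ((swap (g x) x').injective (by simpa using e)))

theorem exists_mate (ha : 2 ≤ a) (x : Ω) : ∃ y, y ≠ x ∧ f y = f x := by
  have : Nontrivial {z // f z = f x} := Finite.one_lt_card_iff_nontrivial.1 (by rw [hf]; omega)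
  obtain ⟨⟨y, hy⟩, h⟩ := exists_ne (⟨x, rfl⟩ : {z // f z = f x})
  exact ⟨y, fun e => h (Subtype.ext e), hy⟩

theorem exists_mate₂ (ha : 3 ≤ a) (x y : Ω) : ∃ z, z ≠ x ∧ z ≠ y ∧ f z = f x := by
  classical
  by_contra H
  have : (Finset.univ.filter fun z => f z = f x) ⊆ {x, y} := fun z hz => by
    by_contra c; simp at c hz; exact H ⟨z, c.1, c.2, hz⟩
  have h := (Finset.card_le_card this).trans Finset.card_le_two
  have := hf (f x)
  rw [Nat.card_eq_fintype_card, Fintype.card_subtype] at this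
  omega

theorem exists_over (ha : 1 ≤ a) (i : Fin b) : ∃ x, f x = i := by
  have : Nonempty {z // f z = i} := (Nat.card_pos_iff.1 (by rw [hf]; omega)).1
  obtain ⟨x, hx⟩ := this; exact ⟨x, hx⟩

theorem exists_other (ha : 1 ≤ a) (hb : 2 ≤ b) (x : Ω) : ∃ y, f y ≠ f x := by
  have : Nontrivial (Fin b) := Fin.nontrivial_iff_two_le.2 hb
  obtain ⟨i, hi⟩ := exists_ne (f x)
  obtain ⟨y, rfl⟩ := exists_over hf ha i
  exact ⟨y, hi⟩

theorem exists_odd (ha : 2 ≤ a) (hb : 2 ≤ b) (h : 3 ≤ a ∨ 3 ≤ b) (x y : Ω) :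
    ∃ u v, u ≠ v ∧ f u = f v ∧ x ≠ u ∧ x ≠ v ∧ y ≠ u ∧ y ≠ v := by
  have K : ∀ u, f u ≠ f x → f u ≠ f y → ∃ u v, u ≠ v ∧ f u = f v ∧ x ≠ u ∧ x ≠ v ∧ y ≠ u ∧ y ≠ v := by
    intro u h1 h2
    obtain ⟨v, h3, h4⟩ := exists_mate hf ha u
    exact ⟨u, v, h3.symm, h4.symm, by rintro rfl; simp_all, by rintro rfl; simp_all, by rintro rfl; simp_all,
      by rintro rfl; simp_all⟩
  by_cases c : f x = f y
  · obtain ⟨u, hu⟩ := exists_other hf (by omega) hb x
    exact K u hu (c ▸ hu)
  rcases h with h | h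
  · obtain ⟨u, h1, h2⟩ := exists_mate hf ha x
    obtain ⟨v, h3, h4, h5⟩ := exists_mate₂ hf h x u
    exact ⟨u, v, h4.symm, h2.trans h5.symm, h1.symm, h3.symm, by rintro rfl; simp_all, by rintro rfl; simp_all⟩
  · obtain ⟨i, hi⟩ : ∃ i, i ∉ ({f x, f y} : Finset (Fin b)) := by
      by_contra H
      push Not at H
      have := (Finset.card_le_card (fun i _ => H i : Finset.univ ⊆ _)).trans Finset.card_le_two
      simp at this; omega
    obtain ⟨u, rfl⟩ := exists_over hf (by omega) i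
    simp at hi
    exact K u hi.1 hi.2

theorem pstab_two_even (ha : 2 ≤ a) (hb : 2 ≤ b) (h3 : 3 ≤ a ∨ 3 ≤ b) {x y x' y' : Ω} (h : x ≠ y) (h' : x' ≠ y')
    (k : f x = f y ↔ f x' = f y') : ∃ g ∈ pstab f ⊓ alternatingGroup Ω, g x = x' ∧ g y = y' := by
  obtain ⟨g, h1, h2, h4⟩ := pstab_two hf h h' k
  rcases Int.units_eq_one_or (sign g) with s | s
  · exact ⟨g, ⟨h1, s⟩, h2, h4⟩
  obtain ⟨u, v, a1, a2, a3, a4, a5, a6⟩ := exists_odd hf ha hb h3 x y
  refine ⟨g * swap u v, ⟨mul_mem h1 (swap_mem_pstab a2), ?_⟩, ?_, ?_⟩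
  · simp [mem_alternatingGroup, s, a1]
  · rw [mul_apply, swap_apply_of_ne_of_ne a3 a4, h2]
  · rw [mul_apply, swap_apply_of_ne_of_ne a5 a6, h4]

theorem prim_of_pstab (ha : 2 ≤ a) (hb : 2 ≤ b) (h3 : 3 ≤ a ∨ 3 ≤ b) {K : Subgroup (Perm Ω)}
    (hK : pstab f ⊓ alternatingGroup Ω ≤ K) (hn : ¬ K ≤ pstab f) : MulAction.IsPreprimitive K Ω := by
  have T : ∀ x y, ∃ g ∈ pstab f ⊓ alternatingGroup Ω, g x = y := fun x y => by
    obtain ⟨x', h1, h2⟩ := exists_mate hf ha x
    obtain ⟨y', h3', h4⟩ := exists_mate hf ha y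
    obtain ⟨g, h5, h6, -⟩ := pstab_two_even hf ha hb h3 h1.symm h3'.symm (by simp [h2, h4])
    exact ⟨g, h5, h6⟩
  have : MulAction.IsPretransitive K Ω := ⟨fun x y => by obtain ⟨g, h1, h2⟩ := T x y; exact ⟨⟨g, hK h1⟩, h2⟩⟩
  obtain ⟨x, -⟩ := exists_over hf (by omega) ⟨0, by omega⟩
  refine .of_isTrivialBlock_base x fun {B} hx hB => ?_
  have S : ∀ g ∈ K, ∀ u ∈ B, g u ∈ B → ∀ v ∈ B, g v ∈ B := fun g hg u hu hgu v hv => by
    have := hB.smul_eq_of_mem (g := ⟨g, hg⟩) hu hgu
    rw [← this]; exact ⟨v, hv, rfl⟩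
  have U : ∀ u ∈ B, ∀ v ∈ B, ∀ w, u ≠ v → u ≠ w → (f u = f v ↔ f u = f w) → w ∈ B := fun u hu v hv w a1 a2 a3 => by
    obtain ⟨g, h1, h2, rfl⟩ := pstab_two_even hf ha hb h3 a1 a2 a3
    exact S g (hK h1) u hu (h2.symm ▸ hu) v hv
  by_cases c : ∃ y ∈ B, f y ≠ f x
  · obtain ⟨y, hy, c⟩ := c
    refine Or.inr (Set.eq_univ_of_forall fun w => ?_)
    by_cases d : f w = f x
    · exact U y hy x hx w (by rintro rfl; simp at c) (by rintro rfl; simp_all) (by rw [d])
    · exact U x hx y hy w (by rintro rfl; simp at c) (by rintro rfl; simp_all) (by simp [c.symm, Ne.symm d])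
  push Not at c
  by_contra hT
  obtain ⟨y, hy, hyx⟩ := (Set.not_subsingleton_iff.1 fun h => hT (Or.inl h)).exists_ne x
  have E : ∀ w, f w = f x → w ∈ B := fun w hw => by
    rcases eq_or_ne x w with rfl | d
    · exact hx
    · exact U x hx y hy w hyx.symm d (by simp [c y hy, hw])
  refine hn fun g hg => mem_pstab_of fun u v e => ?_
  obtain ⟨h, h1, rfl⟩ := T x u
  obtain ⟨h', h2, h4⟩ := T (g (h x)) x
  have := c _ (S (h' * g * h) (mul_mem (mul_mem (hK h2) hg) (hK h1)) x hx (by simpa [h4] using hx) (h⁻¹ v)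
    (E _ (by rw [h1.1]; simp [e])))
  rw [h2.1, h4, ← this]; simp

end part

section aut
variable {Ω : Type*} [DecidableEq Ω] [Fintype Ω]

theorem three_form {x : Perm Ω} (h : x.IsThreeCycle) {a : Ω} (ha : x a ≠ a) :
    x (x a) ≠ a ∧ x (x (x a)) = a ∧ ∀ p, p ≠ a → p ≠ x a → p ≠ x (x a) → x p = p := by
  have h3 : ∀ p, x (x (x p)) = p := fun p => by
    have := pow_orderOf_eq_one x
    rw [h.orderOf] at this
    simpa [pow_succ] using congrArg (· p) this
  have h2 : x (x a) ≠ a := fun e => ha (by have := h3 a; rwa [e] at this)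
  refine ⟨h2, h3 a, fun p h4 h5 h6 => ?_⟩
  by_contra c
  have : ({p, a, x a, x (x a)} : Finset Ω) ⊆ x.support := by
    intro z hz
    simp only [Finset.mem_insert, Finset.mem_singleton] at hz
    rcases hz with rfl | rfl | rfl | rfl <;> simp [c, ha]
  have := Finset.card_le_card this
  rw [h.card_support, Finset.card_insert_of_notMem (by simp [h4, h5, h6]),
    Finset.card_insert_of_notMem (by simp [ha.symm, h2.symm]),
    Finset.card_pair (fun e => ha (x.injective e).symm)] at this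
  omega

theorem three_edge {x y : Perm Ω} (hx : x.IsThreeCycle) (hy : y.IsThreeCycle) (h : x * y * (x * y) = 1)
    (h1 : x * y ≠ 1) : ∃ p, x p ≠ p ∧ y p = x p := by
  have H : ∀ p, x (y (x (y p))) = p := fun p => congrArg (· p) h
  obtain ⟨a, ha, hd⟩ : ∃ a, x a ≠ a ∧ y a ≠ a := by
    by_contra c
    push Not at c
    obtain ⟨a, ha⟩ : ∃ a, x a ≠ a := by
      by_contra c; push Not at c; exact hx.isCycle.ne_one (Equiv.ext c)
    have := H a
    rw [c a ha, c (x a) (by simpa using ha)] at this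
    exact (three_form hx ha).1 this
  obtain ⟨a1, a2, a3⟩ := three_form hx ha
  obtain ⟨d1, d2, d3⟩ := three_form hy hd
  by_contra c
  push Not at c
  have c1 := c a ha
  have c3 := c (x (x a)) (by simpa using ha)
  have a4 : x (x a) ≠ x a := by simpa using ha
  have d4 : y (y a) ≠ y a := by simpa using hd
  have c4 : y (y a) ≠ x (x a) := fun e => c3 (by rw [← e, d2, e, a2])
  by_cases e1 : y a = x (x a) <;> by_cases e2 : y (y a) = x a
  · refine h1 (Equiv.ext fun p => ?_)
    rw [mul_apply, one_apply]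
    by_cases p1 : p = a
    · rw [p1, e1, a2]
    by_cases p2 : p = y a
    · rw [p2, e2, e1]
    by_cases p3 : p = y (y a)
    · rw [p3, d2, e2]
    rw [d3 p p1 p2 p3, a3 p p1 (e2 ▸ p3) (e1 ▸ p2)]
  · have := H (x a)
    rw [d3 (x a) ha c1.symm (Ne.symm e2), ← e1, a3 _ d1 e2 c4] at this
    exact e2 this
  · have := H a
    rw [a3 _ hd c1 e1, e2] at this
    exact a1 this
  · have := H a
    rw [a3 _ hd c1 e1, a3 _ d1 e2 c4] at this
    exact d1 this

theorem three_ext {x y : Perm Ω} (hx : x.IsThreeCycle) (hy : y.IsThreeCycle) {a : Ω} (ha : x a ≠ a)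
    (h1 : y a = x a) (h2 : y (x a) = x (x a)) : y = x := by
  obtain ⟨a1, a2, a3⟩ := three_form hx ha
  obtain ⟨d1, d2, d3⟩ := three_form hy (h1 ▸ ha)
  rw [h1, h2] at d2 d3
  ext p
  by_cases p1 : p = a
  · rw [p1, h1]
  by_cases p2 : p = x a
  · rw [p2, h2]
  by_cases p3 : p = x (x a)
  · rw [p3, d2, a2]
  rw [d3 p p1 p2 p3, a3 p p1 p2 p3]

theorem three_edge₃ {x y z : Perm Ω} (hx : x.IsThreeCycle) (hy : y.IsThreeCycle) (hz : z.IsThreeCycle) (n : y ≠ x)
    {p : Ω} (hp : x p ≠ p) (hp' : y p = x p) (h1 : ∃ u, x u ≠ u ∧ z u = x u) (h2 : ∃ u, y u ≠ u ∧ z u = y u) :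
    z p = x p := by
  obtain ⟨u, u1, u2⟩ := h1
  obtain ⟨v, v1, v2⟩ := h2
  obtain ⟨a1, a2, a3⟩ := three_form hx hp
  obtain ⟨b1, b2, b3⟩ := three_form hy (hp' ▸ hp)
  obtain ⟨c1, c2, c3⟩ := three_form hz (u2 ▸ u1)
  have n : y (x p) ≠ x (x p) := fun e => n (three_ext hx hy hp hp' e)
  have u3 : u = p ∨ u = x p ∨ u = x (x p) := by
    by_contra! t; exact u1 (a3 u t.1 t.2.1 t.2.2)
  have v3 : v = p ∨ v = y p ∨ v = y (y p) := by
    by_contra! t; exact v1 (b3 v t.1 t.2.1 t.2.2)
  have v4 : v = u ∨ v = z u ∨ v = z (z u) := by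
    by_contra! t; exact v1 (v2 ▸ c3 v t.1 t.2.1 t.2.2)
  have i1 := x.injective
  have i2 := y.injective
  have i3 := z.injective
  clear a3 b3 c3
  grind

theorem fact_ineq {k m : ℕ} (h : (3 * (k + 1) + m).factorial ≤ 2 * (m.factorial * 3 ^ (k + 1) * (k + 2).factorial)) :
    k = 0 ∧ m = 0 := by
  have A : ∀ k, 2 * (3 ^ (k + 2) * (k + 3).factorial) < (3 * (k + 2)).factorial := fun k => by
    induction k with
    | zero => decide
    | succ k ih =>
      rw [show 3 * (k + 1 + 2) = 3 * (k + 2) + 1 + 1 + 1 by ring, Nat.factorial_succ (3 * (k + 2) + 1 + 1),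
        show k + 1 + 3 = k + 3 + 1 from rfl, Nat.factorial_succ (k + 3), pow_succ 3 (k + 2)]
      have := Nat.factorial_le (show 3 * (k + 2) ≤ 3 * (k + 2) + 1 + 1 by omega)
      have := Nat.factorial_pos (k + 3)
      have := Nat.pow_pos (n := k + 2) (show 0 < 3 by norm_num)
      have B : (3 * (k + 2) + 1 + 1).factorial ≥ 2 * (3 * (k + 2)).factorial := by
        rw [Nat.factorial_succ, Nat.factorial_succ, ← mul_assoc]; gcongr; nlinarith
      nlinarith
  have B := Nat.le_of_dvd (Nat.factorial_pos _) (Nat.factorial_mul_factorial_dvd_factorial_add (3 * (k + 1)) m)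
  have := Nat.factorial_pos m
  obtain rfl : k = 0 := by
    by_contra c
    obtain ⟨k, rfl⟩ : ∃ j, k = j + 1 := ⟨k - 1, by omega⟩
    have := A k
    nlinarith
  refine ⟨rfl, ?_⟩
  by_contra c
  rw [show 3 * (0 + 1) + m = m + 1 + 1 + 1 by ring, Nat.factorial_succ, Nat.factorial_succ, Nat.factorial_succ] at h
  have : 1 ≤ m := by omega
  have : 4 * (3 * 2) ≤ (m + 1 + 1 + 1) * ((m + 1 + 1) * (m + 1)) := by gcongr <;> omega
  simp only [zero_add, pow_one, Nat.factorial_two] at h
  nlinarith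

theorem card_cent_alt (x : alternatingGroup Ω) :
    Nat.card (centralizer {x}) ≤ Nat.card (centralizer {x.1}) ∧
      Nat.card (centralizer {x.1}) ≤ 2 * Nat.card (centralizer {x}) := by
  have e : centralizer {x} = (centralizer {x.1}).subgroupOf (alternatingGroup Ω) := by
    ext g; simp [mem_centralizer_singleton_iff, mem_subgroupOf, Subtype.ext_iff]
  have e' : Nat.card (centralizer {x}) = Nat.card ((alternatingGroup Ω).subgroupOf (centralizer {x.1})) := by
    rw [e, ← inf_subgroupOf_right, ← inf_subgroupOf_right (alternatingGroup Ω),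
      Nat.card_congr (subgroupOfEquivOfLe inf_le_right).toEquiv,
      Nat.card_congr (subgroupOfEquivOfLe inf_le_right).toEquiv, inf_comm]
  rw [e']
  refine ⟨Subgroup.card_le_card_group _, ?_⟩
  rw [← ((alternatingGroup Ω).subgroupOf (centralizer {x.1})).index_mul_card]
  refine Nat.mul_le_mul_right _ ?_
  have := relIndex_dvd_index_of_normal (alternatingGroup Ω) (centralizer {x.1})
  cases subsingleton_or_nontrivial Ω
  · rw [alternatingGroup.index_eq_one] at this; exact (Nat.le_of_dvd one_pos this).trans one_le_two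
  · rw [alternatingGroup.index_eq_two] at this; exact Nat.le_of_dvd two_pos this

theorem aut_three (h6 : Fintype.card Ω ≠ 6) (φ : MulAut (alternatingGroup Ω)) {x : alternatingGroup Ω}
    (hx : x.1.IsThreeCycle) : (φ x).1.IsThreeCycle := by
  have o : orderOf (φ x).1 = 3 := by rw [Subgroup.orderOf_coe, MulEquiv.orderOf_eq, ← Subgroup.orderOf_coe, hx.orderOf]
  obtain ⟨k, hk⟩ := cycleType_prime_order (σ := (φ x).1) (o ▸ Nat.prime_three)
  rw [o] at hk
  rcases k with _ | k
  · exact hk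
  have c : Nat.card (centralizer {φ x}) = Nat.card (centralizer {x}) := by
    refine (Nat.card_congr (φ.toEquiv.subtypeEquiv fun g => ?_)).symm
    simp [mem_centralizer_singleton_iff, ← map_mul]
  have h1 := (card_cent_alt x).2.trans (Nat.mul_le_mul_left 2 (c ▸ (card_cent_alt (φ x)).1))
  have h2 := sum_cycleType_le (φ x).1
  rw [nat_card_centralizer, nat_card_centralizer, hk, hx.cycleType] at h1
  rw [hk] at h2
  simp only [Multiset.sum_replicate, smul_eq_mul] at h1 h2
  obtain ⟨m, hm⟩ := Nat.exists_eq_add_of_le h2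
  rw [Multiset.toFinset_replicate, if_neg (by omega)] at h1
  simp only [hm, Multiset.sum_singleton, Multiset.prod_singleton, Multiset.toFinset_singleton, Finset.prod_singleton,
    Multiset.count_singleton_self, Multiset.prod_replicate, Multiset.count_replicate_self, Nat.add_sub_cancel_left,
    show (k + 1 + 1) * 3 + m - 3 = 3 * (k + 1) + m by omega, Nat.factorial_one, pow_succ 3 (k + 1)] at h1
  have := fact_ineq (k := k) (m := m) (by nlinarith)
  omega

theorem alt_gen {ι : Type*} {s : ι → Perm Ω} {t : Perm Ω} (h : closure (Set.range s) = ⊤) (h1 : ∀ i, s i * s i = 1)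
    (h2 : t * t = 1) (h3 : sign t = -1) {L : Subgroup (Perm Ω)} (hL : L ≤ alternatingGroup Ω)
    (h4 : ∀ i, s i * t ∈ L) : alternatingGroup Ω ≤ L := by
  have H : ∀ g ∈ closure (Set.range s), (g ∈ L ∧ t * g * t ∈ L) ∨ (g * t ∈ L ∧ t * g ∈ L) := by
    have t2 : ∀ g, t * (t * g) = g := fun g => by rw [← mul_assoc, h2, one_mul]
    have D : ∀ i g, (g ∈ L ∧ t * g * t ∈ L) ∨ (g * t ∈ L ∧ t * g ∈ L) →
        (s i * g ∈ L ∧ t * (s i * g) * t ∈ L) ∨ (s i * g * t ∈ L ∧ t * (s i * g) ∈ L) := fun i g hg => by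
      have h5 : t * s i ∈ L := by
        have := inv_mem (h4 i)
        rwa [mul_inv_rev, inv_eq_of_mul_eq_one_right h2, inv_eq_of_mul_eq_one_right (h1 i)] at this
      rcases hg with ⟨a, b⟩ | ⟨a, b⟩
      · exact Or.inr ⟨by simpa [mul_assoc, t2] using mul_mem (h4 i) b, by simpa [mul_assoc] using mul_mem h5 a⟩
      · exact Or.inl ⟨by simpa [mul_assoc, t2] using mul_mem (h4 i) b, by simpa [mul_assoc] using mul_mem h5 a⟩
    intro g hg
    induction hg using closure_induction_left with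
    | one => exact Or.inl ⟨one_mem _, by simp [h2]⟩
    | mul_left a ha y _ ih => obtain ⟨i, rfl⟩ := ha; exact D i y ih
    | inv_mul_cancel a ha y _ ih =>
      obtain ⟨i, rfl⟩ := ha
      rw [inv_eq_of_mul_eq_one_right (h1 i)]; exact D i y ih
  intro g hg
  rcases H g (h ▸ mem_top g) with a | a
  · exact a.1
  · have := hL a.1
    simp [mem_alternatingGroup, mem_alternatingGroup.1 hg, h3] at this

theorem aut_alt (h4 : 4 ≤ Fintype.card Ω) (h6 : Fintype.card Ω ≠ 6) (φ : MulAut (alternatingGroup Ω)) :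
    ∃ σ : Perm Ω, ∀ x, (φ x).1 = σ * x.1 * σ⁻¹ := by
  obtain ⟨a, b, i, j, ab, ai, aj, bi, bj, ij⟩ : ∃ a b i j : Ω, a ≠ b ∧ a ≠ i ∧ a ≠ j ∧ b ≠ i ∧ b ≠ j ∧ i ≠ j := by
    obtain ⟨e⟩ := Function.Embedding.nonempty_of_card_le (α := Fin 4) (β := Ω) (by simpa)
    exact ⟨e 0, e 1, e 2, e 3, by simp⟩
  have T : ∀ k, a ≠ k → b ≠ k → (swap a k * swap a b).IsThreeCycle := fun k h h' =>
    isThreeCycle_swap_mul_swap_same h ab h'.symm
  let c : ∀ k, a ≠ k → b ≠ k → Perm Ω := fun k h h' => (φ ⟨_, (T k h h').mem_alternatingGroup⟩).1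
  have C : ∀ k h h', (c k h h').IsThreeCycle := fun k h h' => aut_three h6 φ (T k h h')
  have N : ∀ k h h' l g g', c k h h' = c l g g' → k = l := fun k h h' l g g' e => by
    have := congrArg (·.1 b) (φ.injective (Subtype.ext e))
    simpa using this
  have E : ∀ k h h' l g g', k ≠ l → ∃ p, c k h h' p ≠ p ∧ c l g g' p = c k h h' p := fun k h h' l g g' kl => by
    refine three_edge (C k h h') (C l g g') ?_ ?_
    · simp only [c, ← Subgroup.coe_mul, ← map_mul, OneMemClass.coe_eq_one, map_eq_one_iff _ φ.injective]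
      refine Subtype.ext (Equiv.ext fun p => ?_)
      simp only [Subgroup.coe_mul, mul_apply]
      clear N C c T
      by_cases p = a <;> by_cases p = b <;> by_cases p = k <;> by_cases p = l <;>
        simp_all [swap_apply_of_ne_of_ne, @eq_comm _ b a, @eq_comm _ k a, @eq_comm _ l a, @eq_comm _ k b,
          @eq_comm _ l b, @eq_comm _ l k]
    · simp only [c, ← Subgroup.coe_mul, ← map_mul, ne_eq, OneMemClass.coe_eq_one, map_eq_one_iff _ φ.injective]
      intro e
      have := congrArg (·.1 a) e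
      simp [swap_apply_of_ne_of_ne ab.symm g', swap_apply_of_ne_of_ne (Ne.symm g) (Ne.symm g'),
        swap_apply_of_ne_of_ne (Ne.symm g) kl.symm] at this
      exact h this.symm
  obtain ⟨p, hp, hp'⟩ := E i ai bi j aj bj ij
  have P : ∀ k h h', c k h h' p = c i ai bi p := fun k h h' => by
    rcases eq_or_ne k i with rfl | ki
    · rfl
    rcases eq_or_ne k j with rfl | kj
    · exact hp'
    exact three_edge₃ (C i ai bi) (C j aj bj) (C k h h') (fun e => ij (N j aj bj i ai bi e).symm) hp hp'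
      (E i ai bi k h h' ki.symm) (E j aj bj k h h' kj.symm)
  let s : Ω → Ω := fun k => if h : a = k then p else if h' : b = k then c i ai bi p else c k h h' (c i ai bi p)
  have s1 : s a = p := by simp [s]
  have s2 : s b = c i ai bi p := by simp [s, ab]
  have s3 : ∀ k h h', s k = c k h h' (c i ai bi p) := fun k h h' => by simp [s, h, h']
  have F : ∀ k, a ≠ k → b ≠ k → s k ≠ s a ∧ s k ≠ s b := fun k h h' => by
    rw [s1, s2, s3 k h h', ← P k h h']
    exact ⟨(three_form (C k h h') (P k h h' ▸ hp)).1, by simpa using (P k h h' ▸ hp :)⟩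
  have I : Function.Injective s := fun k l e => by
    have : s b ≠ s a := by rwa [s1, s2]
    by_cases H : a ≠ k ∧ b ≠ k ∧ a ≠ l ∧ b ≠ l
    · obtain ⟨k1, k2, l1, l2⟩ := H
      exact N _ k1 k2 _ l1 l2 (three_ext (C l l1 l2) (C k k1 k2) (P l l1 l2 ▸ hp) (by rw [P k k1 k2, P l l1 l2])
        (by rw [P l l1 l2, ← s3 k k1 k2, ← s3 l l1 l2, e]))
    · have := F k; have := F l; clear_value s; clear s3 s2 s1 F P E N C; grind
  let σ := Equiv.ofBijective s (Finite.injective_iff_bijective.1 I)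
  refine ⟨σ, fun x => ?_⟩
  let K : Subgroup (alternatingGroup Ω) := MonoidHom.eqLocus φ.toMonoidHom (MulAut.conjNormal σ).toMonoidHom
  have M : ∀ k h h', (⟨_, (T k h h').mem_alternatingGroup⟩ : alternatingGroup Ω) ∈ K := fun k h h' => by
    refine Subtype.ext (show c k h h' = σ * (swap a k * swap a b) * σ⁻¹ from .symm ?_)
    have t1 : (σ * (swap a k * swap a b) * σ⁻¹) p = c i ai bi p := by
      rw [← s2, ← s1]; change (σ * _ * σ⁻¹) (σ a) = σ b
      simp [swap_apply_of_ne_of_ne ab.symm h']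
    refine three_ext (C k h h') (cycleType_conj.trans (T k h h')) (P k h h' ▸ hp) (by rw [t1, P k h h']) ?_
    rw [P k h h', ← s3 k h h', ← s2]; change (σ * _ * σ⁻¹) (σ b) = σ k
    simp
  have R : ∀ u : {u // a ≠ u}, swap a u * swap a b ∈ K.map (alternatingGroup Ω).subtype := fun u => by
    by_cases h' : b = u
    · rw [← h']; simp
    exact ⟨_, M u u.2 h', rfl⟩
  have G : closure (Set.range fun u : {u // a ≠ u} => swap a u.1) = ⊤ := by
    rw [eq_top_iff, ← closure_isSwap, closure_le]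
    rintro _ ⟨x, y, -, rfl⟩
    have : ∀ u, swap a u ∈ closure (Set.range fun u : {u // a ≠ u} => swap a u.1) := fun u => by
      by_cases h : a = u
      · rw [← h, swap_self]; exact one_mem _
      · exact subset_closure ⟨⟨u, h⟩, rfl⟩
    exact SubmonoidClass.swap_mem_trans _ (swap_comm a x ▸ this x) (this y)
  obtain ⟨y, hy, e⟩ := alt_gen G (fun u => swap_mul_self _ _) (swap_mul_self a b) (by simp [ab]) (map_subtype_le _) R x.2
  obtain rfl : y = x := Subtype.ext e
  exact congrArg Subtype.val hy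

end aut

end H5
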